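/-
The Steinberg character of a split Tits system on the quotient by the centre.
-/
import Cfsg.Agent.Lib.BNSteinberg.Count
import Cfsg.Agent.Lib.CharNormal.Kernel
import Cfsg.Agent.Lib.CharNormal.Basic
import Cfsg.Agent.Lib.Chev.BNPair

set_option autoImplicit false
set_option linter.unusedSectionVars false
set_option linter.style.haveILetI false

namespace CfsgLib.BNSteinberg

open CfsgLib.Chev.BN

variable {G : Type*} [Group G] [Finite G] {P : Cfsg.BNPair G} {p : ℕ} {U : Subgroup G}

theorem center_le_B {z : G} (hz : z ∈ Subgroup.center G) : z ∈ P.B := by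
  obtain ⟨m, hm, hzm⟩ := exists_cell (P := P) z
  obtain ⟨b, hb, b', hb', e⟩ := mem_cell.1 hzm
  have hmB : m ∈ P.B := mem_of_conj_le le_rfl hm fun c hc => by
    have h2 : m = b⁻¹ * z * b'⁻¹ := by rw [e]; group
    have h3 : b'⁻¹ * c * b' ∈ P.B := mul_mem (mul_mem (inv_mem hb') hc) hb'
    rw [h2, show b⁻¹ * z * b'⁻¹ * c * (b⁻¹ * z * b'⁻¹)⁻¹ =
      b⁻¹ * (z * (b'⁻¹ * c * b') * z⁻¹) * b by group,
      ← Subgroup.mem_center_iff.1 hz, mul_inv_cancel_right]
    exact mul_mem (mul_mem (inv_mem hb) h3) hb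
  rw [e]
  exact mul_mem (mul_mem hb hmB) hb'

theorem stJ_center {z : G} (hz : z ∈ Subgroup.center G) :
    stJ P (gens P) z = stJ P (gens P) 1 := by
  unfold stJ
  refine Finset.sum_congr rfl fun K _ => ?_
  congr 1
  unfold fixCount
  refine congrArg Nat.cast (Nat.card_congr (Equiv.subtypeEquivRight fun y => ?_))
  have hfix : z • y = y := by
    obtain ⟨g, rfl⟩ := QuotientGroup.mk_surjective y
    show ((z * g : G) : G ⧸ P.parabolic K) = (g : G ⧸ P.parabolic K)
    rw [← Subgroup.mem_center_iff.1 hz g, QuotientGroup.eq,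
      show (g * z)⁻¹ * g = z⁻¹ by group]
    exact inv_mem (B_le_parabolic _ (center_le_B hz))
  simp [hfix]

theorem Split.center_coprime (hs : Split P p U) [hp : Fact p.Prime] :
    ¬ p ∣ Nat.card (Subgroup.center G) := fun h => by
  obtain ⟨z, hz⟩ := exists_prime_orderOf_dvd_card' p h
  have hz1 : (z : G) ^ p ^ 1 = 1 := by
    rw [pow_one, ← SubgroupClass.coe_pow, ← hz, pow_orderOf_eq_one, OneMemClass.coe_one]
  have hzB := center_le_B (P := P) z.2
  have hzU := hs.unip hzB hz1
  obtain ⟨m, hm, hopp⟩ := hs.opp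
  have : z = 1 := Subtype.ext (hopp _ hzU (by
    rw [mul_assoc, ← Subgroup.mem_center_iff.1 z.2 m, inv_mul_cancel_left]; exact hzB))
  rw [this, orderOf_one] at hz
  exact hp.out.one_lt.ne hz

/-- The Steinberg character on the quotient by the centre. -/
theorem Split.exists_quot_center (hs : Split P p U) [hp : Fact p.Prime] {H : Type*} [Group H]
    [Finite H] (e : H ≃* G) :
    ∃ χ : H ⧸ Subgroup.center H → ℂ, Cfsg.IsIrrCharacter (H ⧸ Subgroup.center H) χ ∧
      ∀ Q : Sylow p (H ⧸ Subgroup.center H), χ 1 = Nat.card Q ∧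
        ∀ x : H ⧸ Subgroup.center H, x ∈ Q → x ≠ 1 → χ x = 0 := by
  classical
  haveI := Fintype.ofFinite G
  haveI := Fintype.ofFinite H
  set Z := Subgroup.center G
  obtain ⟨ψ, hψ, hψe⟩ := CfsgLib.CharNormal.exists_irr_eq_comp_mk' Z (isIrr_stJ (P := P))
    (fun z hz => by show (stJ P (gens P) z : ℂ) = (stJ P (gens P) 1 : ℂ); rw [stJ_center hz])
  have hmap : (Subgroup.center H).map e.toMonoidHom = Z := by
    ext x
    simp only [Subgroup.mem_map, Subgroup.mem_center_iff, MulEquiv.coe_toMonoidHom, Z]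
    constructor
    · rintro ⟨y, hy, rfl⟩ g
      have := congrArg e (hy (e.symm g))
      simpa using this
    · intro hx
      refine ⟨e.symm x, fun g => e.injective ?_, e.apply_symm_apply x⟩
      simpa using hx (e g)
  let f : (H ⧸ Subgroup.center H) ≃* (G ⧸ Z) := QuotientGroup.congr _ _ e hmap
  haveI := Fintype.ofFinite (H ⧸ Subgroup.center H)
  haveI := Fintype.ofFinite (G ⧸ Z)
  refine ⟨ψ ∘ f, CfsgLib.CharNormal.isIrr_comp_mulEquiv hψ f, fun Q => ?_⟩
  have hval : ∀ g, ψ (QuotientGroup.mk g) = (stJ P (gens P) g : ℂ) := fun g => congrFun hψe g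
  constructor
  · rw [Function.comp_apply, map_one, show (1 : G ⧸ Z) = QuotientGroup.mk 1 from rfl, hval,
      hs.stJ_one, Q.card_eq_multiplicity, Nat.card_congr f.toEquiv, hs.card_pow,
      Subgroup.card_eq_card_quotient_mul_card_subgroup Z,
      Nat.factorization_mul Nat.card_pos.ne' Nat.card_pos.ne', Finsupp.add_apply,
      Nat.factorization_eq_zero_of_not_dvd hs.center_coprime, add_zero]
    push_cast
    rfl
  · intro x hx hx1
    rw [Function.comp_apply]
    obtain ⟨g, hg⟩ := QuotientGroup.mk_surjective (f x)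
    rw [← hg, hval]
    refine hs.vanish ?_
    obtain ⟨k, hk⟩ := IsPGroup.iff_orderOf.1 Q.2 ⟨x, hx⟩
    rw [Subgroup.orderOf_mk] at hk
    have hdvd : orderOf (f x) ∣ orderOf g := by
      rw [← hg]; exact orderOf_map_dvd (QuotientGroup.mk' Z) g
    rw [MulEquiv.orderOf_eq, hk] at hdvd
    refine dvd_trans (dvd_pow_self p fun h0 => hx1 ?_) hdvd
    rwa [h0, pow_zero, orderOf_eq_one_iff] at hk

end CfsgLib.BNSteinberg
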