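/-
The Steinberg character on the projective quotient of a normal subgroup of index two.
-/
import Cfsg.Agent.Lib.TwistBN.Central
import Cfsg.Agent.Lib.CharNormal.LinearDivisor
import Cfsg.Agent.Lib.CharNormal.SmallLinearPrime

set_option autoImplicit false
set_option linter.unusedSectionVars false
set_option linter.style.haveILetI false

namespace CfsgLib.BNSteinberg

open CfsgLib.Chev.BN

/-- A character of defect zero, trivial on the centre, gives one on the projective quotient. -/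
theorem exists_quot_of_defectZero {K : Type*} [Group K] [Finite K] {p : ℕ} [hp : Fact p.Prime]
    {χ : K → ℂ} (hχ : Cfsg.IsIrrCharacter K χ)
    (hdeg : χ 1 = ((p ^ (Nat.card K).factorization p : ℕ) : ℂ))
    (hvan : ∀ g, p ∣ orderOf g → χ g = 0) (hz : ∀ z ∈ Subgroup.center K, χ z = χ 1)
    {H : Type*} [Group H] [Finite H] (e : H ≃* K) :
    ∃ ψ : H ⧸ Subgroup.center H → ℂ, Cfsg.IsIrrCharacter (H ⧸ Subgroup.center H) ψ ∧
      ∀ Q : Sylow p (H ⧸ Subgroup.center H), ψ 1 = Nat.card Q ∧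
        ∀ x : H ⧸ Subgroup.center H, x ∈ Q → x ≠ 1 → ψ x = 0 := by
  classical
  haveI := Fintype.ofFinite K
  haveI := Fintype.ofFinite H
  set Z := Subgroup.center K
  have hcop : ¬ p ∣ Nat.card Z := fun h => by
    obtain ⟨z, hz'⟩ := exists_prime_orderOf_dvd_card' p h
    have h0 := hvan z (by rw [Subgroup.orderOf_coe, hz'])
    rw [hz z z.2, hdeg] at h0
    exact absurd (Nat.cast_eq_zero.1 h0) (pow_ne_zero _ hp.out.ne_zero)
  obtain ⟨ψ, hψ, hψe⟩ := CfsgLib.CharNormal.exists_irr_eq_comp_mk' Z hχ hz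
  have hmap : (Subgroup.center H).map e.toMonoidHom = Z := by
    ext x
    simp only [Subgroup.mem_map, Subgroup.mem_center_iff, MulEquiv.coe_toMonoidHom, Z]
    constructor
    · rintro ⟨y, hy, rfl⟩ g
      simpa using congrArg e (hy (e.symm g))
    · intro hx
      refine ⟨e.symm x, fun g => e.injective ?_, e.apply_symm_apply x⟩
      simpa using hx (e g)
  let f : (H ⧸ Subgroup.center H) ≃* (K ⧸ Z) := QuotientGroup.congr _ _ e hmap
  haveI := Fintype.ofFinite (H ⧸ Subgroup.center H)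
  haveI := Fintype.ofFinite (K ⧸ Z)
  refine ⟨ψ ∘ f, CfsgLib.CharNormal.isIrr_comp_mulEquiv hψ f, fun Q => ?_⟩
  have hval : ∀ g, ψ (QuotientGroup.mk g) = χ g := fun g => congrFun hψe g
  constructor
  · rw [Function.comp_apply, map_one, show (1 : K ⧸ Z) = QuotientGroup.mk 1 from rfl, hval, hdeg,
      Q.card_eq_multiplicity, Nat.card_congr f.toEquiv,
      Subgroup.card_eq_card_quotient_mul_card_subgroup Z,
      Nat.factorization_mul Nat.card_pos.ne' Nat.card_pos.ne', Finsupp.add_apply,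
      Nat.factorization_eq_zero_of_not_dvd hcop, add_zero]
  · intro x hx hx1
    rw [Function.comp_apply]
    obtain ⟨g, hg⟩ := QuotientGroup.mk_surjective (f x)
    rw [← hg, hval]
    refine hvan g ?_
    obtain ⟨k, hk⟩ := IsPGroup.iff_orderOf.1 Q.2 ⟨x, hx⟩
    rw [Subgroup.orderOf_mk] at hk
    have hdvd : orderOf (f x) ∣ orderOf g := by
      rw [← hg]; exact orderOf_map_dvd (QuotientGroup.mk' Z) g
    rw [MulEquiv.orderOf_eq, hk] at hdvd
    refine dvd_trans (dvd_pow_self p fun h0 => hx1 ?_) hdvd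
    rwa [h0, pow_zero, orderOf_eq_one_iff] at hk

variable {G : Type*} [Group G] [Finite G] {P : Cfsg.BNPair G} {p : ℕ} {U : Subgroup G}

/-- An element commuting with `U` lies in `B`. -/
theorem Split.mem_B_of_commute (hs : Split P p U) {z : G} (hz : ∀ u ∈ U, u * z = z * u) :
    z ∈ P.B := by
  obtain ⟨m, hm, hzm⟩ := exists_cell (P := P) z
  obtain ⟨b, hb, b', hb', e⟩ := mem_cell.1 hzm
  have hU : ∀ u ∈ U, m * u * m⁻¹ ∈ P.B := fun u hu => by
    have h3 : b'⁻¹ * u * b'⁻¹⁻¹ ∈ U := hs.normal _ (inv_mem hb') u hu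
    rw [inv_inv] at h3
    have h2 : m = b⁻¹ * z * b'⁻¹ := by rw [e]; group
    rw [h2, show b⁻¹ * z * b'⁻¹ * u * (b⁻¹ * z * b'⁻¹)⁻¹ =
      b⁻¹ * (z * (b'⁻¹ * u * b') * z⁻¹) * b by group,
      ← hz _ h3, mul_inv_cancel_right]
    exact mul_mem (mul_mem (inv_mem hb) (hs.le h3)) hb
  have hmB : m ∈ P.B := mem_of_conj_le le_rfl hm fun c hc => by
    obtain ⟨u, hu, h, hh, rfl⟩ := hs.decomp c hc
    rw [show m * (u * h) * m⁻¹ = (m * u * m⁻¹) * (m * h * m⁻¹) by group]
    exact mul_mem (hU u hu) (P.conj_mem m hm h hh)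
  rw [e]
  exact mul_mem (mul_mem hb hmB) hb'

theorem Split.le_of_index_two (hs : Split P p U) [hp : Fact p.Prime] (hp2 : p ≠ 2)
    (N : Subgroup G) (hN : N.index = 2) : U ≤ N := fun u hu => by
  obtain ⟨k, hk⟩ := hs.pgroup ⟨u, hu⟩
  have hk' : u ^ p ^ k = 1 := congrArg Subtype.val hk
  obtain ⟨j, hj⟩ : Odd (p ^ k) := (hp.out.odd_of_ne_two hp2).pow
  have h2 : u ^ (2 * (j + 1)) = u := by
    rw [show 2 * (j + 1) = p ^ k + 1 by omega, pow_succ, hk', one_mul]
  rw [← h2, pow_mul]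
  exact pow_mem (Subgroup.sq_mem_of_index_two hN u) _

/-- The Steinberg character on the projective quotient of a normal subgroup of index two. -/
theorem Split.exists_quot_center_index_two (hs : Split P p U) [hp : Fact p.Prime] (hp2 : p ≠ 2)
    (N : Subgroup G) (hN : N.index = 2) {H : Type*} [Group H] [Finite H] (e : H ≃* N) :
    ∃ ψ : H ⧸ Subgroup.center H → ℂ, Cfsg.IsIrrCharacter (H ⧸ Subgroup.center H) ψ ∧
      ∀ Q : Sylow p (H ⧸ Subgroup.center H), ψ 1 = Nat.card Q ∧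
        ∀ x : H ⧸ Subgroup.center H, x ∈ Q → x ≠ 1 → ψ x = 0 := by
  classical
  haveI := Fintype.ofFinite G
  haveI := Fintype.ofFinite N
  haveI : N.Normal := Subgroup.normal_of_index_eq_two hN
  have hUN := hs.le_of_index_two hp2 N hN
  have hndvd : ¬ 2 ∣ Nat.card U := by
    rw [hs.card_pow]
    intro h
    exact hp2 ((Nat.prime_dvd_prime_iff_eq Nat.prime_two hp.out).1 (Nat.prime_two.dvd_of_dvd_pow h)).symm
  have h1 : (stJ P (gens P) 1 : ℂ) = (Nat.card U : ℂ) := by rw [hs.stJ_one]; push_cast; rfl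
  have hirr := CfsgLib.CharNormal.isIrr_res_prime_index (M := N) Nat.prime_two hN
    (isIrr_stJ (P := P)) h1 hndvd
  refine exists_quot_of_defectZero (p := p) hirr ?_ (fun g hg => ?_) (fun z hz => ?_) e
  · show (stJ P (gens P) ((1 : N) : G) : ℂ) = _
    rw [OneMemClass.coe_one, h1, hs.card_pow, ← N.index_mul_card, hN,
      Nat.factorization_mul (by norm_num) Nat.card_pos.ne', Finsupp.add_apply,
      Nat.prime_two.factorization, Finsupp.single_eq_of_ne hp2, zero_add]
  · exact hs.vanish (by rwa [Subgroup.orderOf_coe])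
  · show (stJ P (gens P) (z : G) : ℂ) = (stJ P (gens P) ((1 : N) : G) : ℂ)
    have hcomm : ∀ u ∈ U, u * (z : G) = (z : G) * u := fun u hu =>
      congrArg Subtype.val (Subgroup.mem_center_iff.1 hz ⟨u, hUN hu⟩)
    have hzB := hs.mem_B_of_commute hcomm
    have hne : (stJ P (gens P) (z : G) : ℂ) ≠ 0 := fun h0 => by
      have h := CfsgLib.CharNormal.SmallPrime.normSq_central hirr hz
      simp only [OneMemClass.coe_one, h0, zero_mul, h1] at h
      exact Nat.card_pos.ne' (Nat.cast_eq_zero.1 (mul_self_eq_zero.1 h.symm) : Nat.card U = 0)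
    set T := (P.B ⊓ P.N).subgroupOf P.B with hT
    rw [OneMemClass.coe_one, hs.stJ_restrict ⟨z, hzB⟩] at *
    rw [show (stJ P (gens P) 1 : ℂ) = _ from hs.stJ_restrict ⟨1, one_mem _⟩]
    simp only [Cfsg.fixedPointCharacter] at hne ⊢
    have hpos : Nonempty (MulAction.fixedBy (P.B ⧸ T) (⟨z, hzB⟩ : P.B)) := by
      by_contra h
      rw [not_nonempty_iff] at h
      exact hne (by rw [Nat.card_of_isEmpty, Nat.cast_zero])
    have hfix : ∀ c : P.B, (⟨z, hzB⟩ : P.B) • (c : P.B ⧸ T) = c ↔ (z : G) ∈ P.B ⊓ P.N := by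
      intro c
      obtain ⟨u, hu, h, hh, ec⟩ := hs.decomp (c : G) c.2
      have hc : (c : G)⁻¹ * (z : G) * c = h⁻¹ * z * h := by
        rw [ec, show (u * h)⁻¹ * (z : G) * (u * h) = h⁻¹ * (u⁻¹ * ((z : G) * u)) * h by group,
          ← hcomm u hu, inv_mul_cancel_left]
      have hiff : (h⁻¹ * (z : G) * h) ∈ P.B ⊓ P.N ↔ (z : G) ∈ P.B ⊓ P.N := by
        constructor
        · intro h'
          have := mul_mem (mul_mem hh h') (inv_mem hh)
          rwa [show h * (h⁻¹ * (z : G) * h) * h⁻¹ = z by group] at this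
        · exact fun h' => mul_mem (mul_mem (inv_mem hh) h') hh
      have step : (⟨z, hzB⟩ : P.B) • (c : P.B ⧸ T) = c ↔
          (((⟨z, hzB⟩ : P.B) * c)⁻¹ * c) ∈ T := QuotientGroup.eq
      rw [step, hT, Subgroup.mem_subgroupOf, ← inv_mem_iff, ← hiff, ← hc]
      simp [mul_assoc]
    obtain ⟨y, hy⟩ := hpos
    obtain ⟨c, rfl⟩ := QuotientGroup.mk_surjective y
    have hzT := (hfix c).1 hy
    rw [Nat.cast_inj]
    refine Nat.card_congr (Equiv.subtypeEquivRight fun x => ?_)
    obtain ⟨d, rfl⟩ := QuotientGroup.mk_surjective x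
    simp only [MulAction.mem_fixedBy]
    exact iff_of_true ((hfix d).2 hzT) (one_smul _ _)

end CfsgLib.BNSteinberg
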