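/-
Simple reflections of the permutations commuting with the reversal of `Fin n`.
-/
import Mathlib

set_option autoImplicit false
set_option maxHeartbeats 800000

namespace CfsgLib.TwistBN

variable {n : ℕ}

/-- Values of the block labels. -/
def bV (k n i : ℕ) : ℕ :=
  i - (if k < i then 1 else 0) - (if k ≠ n - 2 - k ∧ n - 2 - k < i then 1 else 0)

/-- Block labels of the `k`-th simple node. -/
def blk (k : ℕ) (i : Fin n) : ℕ := bV k n i.val

/-- Values of the `k`-th simple reflection. -/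
def tVal (k n i : ℕ) : ℕ :=
  if 2 * k + 2 = n then (if i = k then k + 1 else if i = k + 1 then k else i)
  else if 2 * k + 3 = n then (if i = k then k + 2 else if i = k + 2 then k else i)
  else if i = k then k + 1 else if i = k + 1 then k
  else if i = n - 2 - k then n - 1 - k else if i = n - 1 - k then n - 2 - k else i

theorem tVal_lt {k : ℕ} (hk : 2 * k + 2 ≤ n) {i : ℕ} (hi : i < n) : tVal k n i < n := by
  unfold tVal; split_ifs <;> omega

theorem tVal_tVal {k : ℕ} (hk : 2 * k + 2 ≤ n) {i : ℕ} (hi : i < n) :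
    tVal k n (tVal k n i) = i := by
  simp only [tVal]; split_ifs <;> omega

/-- The `k`-th simple reflection. -/
def tPerm (k : ℕ) (hk : 2 * k + 2 ≤ n) : Equiv.Perm (Fin n) where
  toFun i := ⟨tVal k n i, tVal_lt hk i.isLt⟩
  invFun i := ⟨tVal k n i, tVal_lt hk i.isLt⟩
  left_inv i := Fin.ext (tVal_tVal hk i.isLt)
  right_inv i := Fin.ext (tVal_tVal hk i.isLt)

theorem tPerm_val {k : ℕ} (hk : 2 * k + 2 ≤ n) (i : Fin n) :
    (tPerm k hk i).val = tVal k n i.val := rfl

theorem tPerm_inv {k : ℕ} (hk : 2 * k + 2 ≤ n) : (tPerm k hk)⁻¹ = tPerm k hk := rfl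

theorem tPerm_sq {k : ℕ} (hk : 2 * k + 2 ≤ n) : tPerm k hk * tPerm k hk = 1 :=
  Equiv.ext fun i => Fin.ext (tVal_tVal hk i.isLt)

/-- Commuting with the reversal. -/
def RevC (π : Equiv.Perm (Fin n)) : Prop := ∀ i, Fin.rev (π i) = π (Fin.rev i)

theorem RevC.mul {π ρ : Equiv.Perm (Fin n)} (hπ : RevC π) (hρ : RevC ρ) : RevC (π * ρ) :=
  fun i => by simp only [Equiv.Perm.mul_apply]; rw [hπ, hρ]

theorem RevC.inv {π : Equiv.Perm (Fin n)} (hπ : RevC π) : RevC π⁻¹ := fun i =>
  π.injective (by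
    have := hπ (π⁻¹ i)
    rw [show π (π⁻¹ i) = i from π.apply_symm_apply i] at this
    rw [show π (π⁻¹ (Fin.rev i)) = Fin.rev i from π.apply_symm_apply _, ← this])

theorem revC_rev : RevC (Fin.revPerm : Equiv.Perm (Fin n)) := fun i => by simp

theorem tVal_k {k : ℕ} (_hk : 2 * k + 2 ≤ n) :
    tVal k n k = if 2 * k + 3 = n then k + 2 else k + 1 := by
  simp only [tVal]; split_ifs <;> omega

theorem tVal_k1 {k : ℕ} (_hk : 2 * k + 2 ≤ n) :
    tVal k n (k + 1) = if 2 * k + 3 = n then k + 1 else k := by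
  simp only [tVal]; split_ifs <;> omega

theorem tVal_a {k : ℕ} (hk : 2 * k + 2 ≤ n) {i : ℕ} (hi : i = n - 2 - k) :
    tVal k n i = if 2 * k + 3 = n then k + 1 else n - 1 - k := by
  simp only [tVal]; split_ifs <;> omega

theorem tVal_b {k : ℕ} (hk : 2 * k + 2 ≤ n) {i : ℕ} (hi : i = n - 1 - k) :
    tVal k n i = if 2 * k + 3 = n then k else n - 2 - k := by
  simp only [tVal]; split_ifs <;> omega

theorem tVal_other {k : ℕ} (hk : 2 * k + 2 ≤ n) {i : ℕ} (h1 : i ≠ k) (h2 : i ≠ k + 1)
    (h3 : i ≠ n - 2 - k) (h4 : i ≠ n - 1 - k) : tVal k n i = i := by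
  simp only [tVal]; split_ifs <;> omega

theorem pos_cases {k : ℕ} (i : ℕ) : i = k ∨ i = k + 1 ∨ i = n - 2 - k ∨ i = n - 1 - k ∨
    (i ≠ k ∧ i ≠ k + 1 ∧ i ≠ n - 2 - k ∧ i ≠ n - 1 - k) := by omega

theorem tPerm_revC {k : ℕ} (hk : 2 * k + 2 ≤ n) : RevC (tPerm k hk) := by
  intro i
  refine Fin.ext ?_
  rw [Fin.val_rev, tPerm_val, tPerm_val, Fin.val_rev]
  have := i.isLt
  rcases pos_cases (n := n) (k := k) i.val with h | h | h | h | ⟨h1, h2, h3, h4⟩
  · rw [h, tVal_k hk, tVal_b hk (by omega : n - (k + 1) = n - 1 - k)]; split_ifs <;> omega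
  · rw [h, tVal_k1 hk, tVal_a hk (by omega : n - (k + 1 + 1) = n - 2 - k)]; split_ifs <;> omega
  · rw [tVal_a hk h, show n - (i.val + 1) = k + 1 by omega, tVal_k1 hk]; split_ifs <;> omega
  · rw [tVal_b hk h, show n - (i.val + 1) = k by omega, tVal_k hk]; split_ifs <;> omega
  · rw [tVal_other hk h1 h2 h3 h4,
      tVal_other hk (by omega) (by omega) (by omega) (by omega)]

theorem blk_mono {k : ℕ} {i j : Fin n} (h : i ≤ j) : blk k i ≤ blk k j := by
  rw [Fin.le_def] at h
  simp only [blk, bV]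
  split_ifs <;> omega

theorem bV_eq_of_le {k : ℕ} (hk : 2 * k + 2 ≤ n) {i j : ℕ} (hij : i ≤ j) :
    bV k n i = bV k n j ↔ i = j ∨ (i = k ∧ j = k + 1) ∨ (i = n - 2 - k ∧ j = n - 1 - k) ∨
      (2 * k + 3 = n ∧ i = k ∧ j = k + 2) := by
  simp only [bV]
  split_ifs <;> omega

theorem blk_eq_iff {k : ℕ} (hk : 2 * k + 2 ≤ n) (i j : Fin n) :
    blk k i = blk k j ↔ i.val = j.val ∨ (i.val = k ∧ j.val = k + 1) ∨ (j.val = k ∧ i.val = k + 1) ∨
      (i.val = n - 2 - k ∧ j.val = n - 1 - k) ∨ (j.val = n - 2 - k ∧ i.val = n - 1 - k) ∨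
      (2 * k + 3 = n ∧ i.val = k ∧ j.val = k + 2) ∨ (2 * k + 3 = n ∧ j.val = k ∧ i.val = k + 2) := by
  rcases le_total i.val j.val with h | h
  · rw [blk, blk, bV_eq_of_le hk h]; omega
  · rw [blk, blk, eq_comm, bV_eq_of_le hk h]; omega

theorem blk_rev_iff {k : ℕ} (hk : 2 * k + 2 ≤ n) (i j : Fin n) :
    blk k (Fin.rev i) = blk k (Fin.rev j) ↔ blk k i = blk k j := by
  have key : ∀ i j : Fin n, blk k i = blk k j → blk k (Fin.rev i) = blk k (Fin.rev j) := by
    intro i j h
    have := i.isLt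
    have := j.isLt
    rw [blk_eq_iff hk] at h
    rw [blk_eq_iff hk, Fin.val_rev, Fin.val_rev]
    rcases h with h | ⟨a, b⟩ | ⟨a, b⟩ | ⟨a, b⟩ | ⟨a, b⟩ | ⟨c, a, b⟩ | ⟨c, a, b⟩
    · left; omega
    · right; right; right; right; left; omega
    · right; right; right; left; omega
    · right; right; left; omega
    · right; left; omega
    · right; right; right; right; right; right; omega
    · right; right; right; right; right; left; omega
  exact ⟨fun h => by simpa using key _ _ h, key i j⟩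

theorem blk_tPerm {k : ℕ} (hk : 2 * k + 2 ≤ n) (i : Fin n) : blk k (tPerm k hk i) = blk k i := by
  rw [blk, blk, tPerm_val]
  have := i.isLt
  rcases pos_cases (n := n) (k := k) i.val with h | h | h | h | ⟨h1, h2, h3, h4⟩
  · rw [h, tVal_k hk]; simp only [bV]; split_ifs <;> omega
  · rw [h, tVal_k1 hk]; simp only [bV]; split_ifs <;> omega
  · rw [tVal_a hk h, h]; simp only [bV]; split_ifs <;> omega
  · rw [tVal_b hk h, h]; simp only [bV]; split_ifs <;> omega
  · rw [tVal_other hk h1 h2 h3 h4]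

theorem tPerm_lt {k : ℕ} (hk : 2 * k + 2 ≤ n) {i j : Fin n} (hij : i < j)
    (hb : blk k i = blk k j) : tPerm k hk j < tPerm k hk i := by
  rw [Fin.lt_def] at hij ⊢
  rw [blk, blk, bV_eq_of_le hk hij.le] at hb
  rw [tPerm_val, tPerm_val]
  rcases hb with h | ⟨h1, h2⟩ | ⟨h1, h2⟩ | ⟨h0, h1, h2⟩
  · omega
  · rw [h1, h2, tVal_k hk, tVal_k1 hk]; split_ifs <;> omega
  · rw [tVal_a hk h1, tVal_b hk h2]; split_ifs <;> omega
  · rw [h1, tVal_k hk, tVal_b hk (show j.val = n - 1 - k by omega)]; split_ifs <;> omega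

theorem tPerm_lt_of_ne {k : ℕ} (hk : 2 * k + 2 ≤ n) {i j : Fin n} (hij : i < j)
    (hb : blk k i ≠ blk k j) : tPerm k hk i < tPerm k hk j := by
  rcases lt_or_ge (tPerm k hk i) (tPerm k hk j) with h | h
  · exact h
  · exfalso
    have h1 := blk_mono (k := k) hij.le
    have h2 := blk_mono (k := k) h
    rw [blk_tPerm, blk_tPerm] at h2
    exact hb (le_antisymm h1 h2)

theorem blk_node {k : ℕ} (hk : 2 * k + 2 ≤ n) :
    blk k (⟨k, by omega⟩ : Fin n) = blk k (⟨k + 1, by omega⟩ : Fin n) := by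
  rw [blk_eq_iff hk]
  exact Or.inr (Or.inl ⟨rfl, rfl⟩)

theorem tPerm_ne_one {k : ℕ} (hk : 2 * k + 2 ≤ n) : tPerm k hk ≠ 1 := fun h => by
  have := congrArg (fun π : Equiv.Perm (Fin n) => (π ⟨k, by omega⟩).val) h
  simp only [tPerm_val, tVal, Equiv.Perm.one_apply] at this
  split_ifs at this <;> omega

theorem tPerm_inj {k l : ℕ} (hk : 2 * k + 2 ≤ n) (hl : 2 * l + 2 ≤ n)
    (h : tPerm k hk = tPerm l hl) : k = l := by
  have h1 := congrArg (fun π : Equiv.Perm (Fin n) => (π ⟨k, by omega⟩).val) h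
  have h2 := congrArg (fun π : Equiv.Perm (Fin n) => (π ⟨l, by omega⟩).val) h
  simp only [tPerm_val, tVal] at h1 h2
  split_ifs at h1 h2 <;> omega

/-- A block preserving permutation commuting with the reversal. -/
theorem eq_one_or_tPerm {k : ℕ} (hk : 2 * k + 2 ≤ n) {π : Equiv.Perm (Fin n)} (hπ : RevC π)
    (hb : ∀ i, blk k (π i) = blk k i) : π = 1 ∨ π = tPerm k hk := by
  have hr : ∀ i : Fin n, n - ((π i).val + 1) = (π (Fin.rev i)).val := fun i => by
    have := congrArg Fin.val (hπ i)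
    rwa [Fin.val_rev] at this
  have hinj : ∀ i j : Fin n, i.val ≠ j.val → (π i).val ≠ (π j).val := fun i j h e =>
    h (congrArg Fin.val (π.injective (Fin.ext e)))
  set A : Fin n := ⟨k, by omega⟩ with hA
  set B : Fin n := ⟨k + 1, by omega⟩ with hB
  set A' : Fin n := Fin.rev A with hA'
  set B' : Fin n := Fin.rev B with hB'
  have vA : A.val = k := rfl
  have vB : B.val = k + 1 := rfl
  have vA' : A'.val = n - (k + 1) := by rw [hA', Fin.val_rev]
  have vB' : B'.val = n - (k + 1 + 1) := by rw [hB', Fin.val_rev]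
  have bA := (blk_eq_iff hk _ _).1 (hb A)
  have bB := (blk_eq_iff hk _ _).1 (hb B)
  have rA := hr A
  have rB := hr B
  have iAB := hinj A B (by omega)
  have := (π A).isLt
  have := (π B).isLt
  rw [← hA'] at rA
  rw [← hB'] at rB
  rw [vA] at bA
  rw [vB] at bB
  have hoth : ∀ i : Fin n, i.val ≠ k → i.val ≠ k + 1 → i.val ≠ n - 2 - k → i.val ≠ n - 1 - k →
      (π i).val = i.val := fun i h1 h2 h3 h4 => by
    rcases (blk_eq_iff hk _ _).1 (hb i) with h | h | h | h | h | h | h <;> omega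
  by_cases h : (π A).val = k
  · left
    have hB1 : (π B).val = k + 1 := by
      rcases bB with h' | h' | h' | h' | h' | h' | h' <;>
        rcases Nat.lt_or_ge (2 * k + 3) n with hn | hn <;>
        first
        | omega
        | (have e : B' = B := Fin.ext (by omega); rw [e] at rB; omega)
    refine Equiv.ext fun i => Fin.ext ?_
    rw [Equiv.Perm.one_apply]
    rcases pos_cases (n := n) (k := k) i.val with h' | h' | h' | h' | ⟨h1, h2, h3, h4⟩
    · rw [show i = A from Fin.ext h']; exact h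
    · rw [show i = B from Fin.ext h', hB1]
    · rw [show i = B' from Fin.ext (by omega), ← rB, hB1]; omega
    · rw [show i = A' from Fin.ext (by omega), ← rA, h]; omega
    · exact hoth i h1 h2 h3 h4
  · right
    have hA1 : (π A).val = if 2 * k + 3 = n then k + 2 else k + 1 := by
      rcases bA with h' | h' | h' | h' | h' | h' | h' <;> split_ifs with hn <;>
        first
        | omega
        | (have e : B' = B := Fin.ext (by omega); rw [e] at rB
           rcases bB with g | g | g | g | g | g | g <;> omega)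
    have hB1 : (π B).val = if 2 * k + 3 = n then k + 1 else k := by
      rcases bB with h' | h' | h' | h' | h' | h' | h' <;> split_ifs with hn <;>
        first
        | omega
        | (have e : B' = B := Fin.ext (by omega); rw [e] at rB; omega)
    refine Equiv.ext fun i => Fin.ext ?_
    rw [tPerm_val]
    rcases pos_cases (n := n) (k := k) i.val with h' | h' | h' | h' | ⟨h1, h2, h3, h4⟩
    · rw [show i = A from Fin.ext h', vA, tVal_k hk, hA1]
    · rw [show i = B from Fin.ext h', vB, tVal_k1 hk, hB1]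
    · rw [show i = B' from Fin.ext (by omega), ← rB, hB1, tVal_a hk (by omega)]
      split_ifs <;> omega
    · rw [show i = A' from Fin.ext (by omega), ← rA, hA1, tVal_b hk (by omega)]
      split_ifs <;> omega
    · rw [hoth i h1 h2 h3 h4, tVal_other hk h1 h2 h3 h4]

/-- A permutation commuting with the reversal is monotone or antitone on the blocks of a node. -/
theorem block_dichotomy {k : ℕ} (hk : 2 * k + 2 ≤ n) {π : Equiv.Perm (Fin n)} (hπ : RevC π) :
    ((π ⟨k, by omega⟩).val < (π ⟨k + 1, by omega⟩).val ∧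
      ∀ i j : Fin n, i < j → blk k i = blk k j → π i < π j) ∨
    ((π ⟨k + 1, by omega⟩).val < (π ⟨k, by omega⟩).val ∧
      ∀ i j : Fin n, i < j → blk k i = blk k j → π j < π i) := by
  have hr : ∀ i : Fin n, n - ((π i).val + 1) = (π (Fin.rev i)).val := fun i => by
    have := congrArg Fin.val (hπ i)
    rwa [Fin.val_rev] at this
  set A : Fin n := ⟨k, by omega⟩ with hA
  set B : Fin n := ⟨k + 1, by omega⟩ with hB
  have vA : A.val = k := rfl
  have vB : B.val = k + 1 := rfl
  have rA := hr A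
  have rB := hr B
  have := (π A).isLt
  have := (π B).isLt
  have hne : (π A).val ≠ (π B).val := fun e => by
    have := congrArg Fin.val (π.injective (Fin.ext e)); omega
  have key : ∀ i j : Fin n, i < j → blk k i = blk k j →
      (i = A ∧ j = B) ∨ (i = Fin.rev B ∧ j = Fin.rev A) ∨ (i = A ∧ j = Fin.rev A ∧ 2 * k + 3 = n) := by
    intro i j hij hbij
    have := i.isLt
    have := j.isLt
    rw [Fin.lt_def] at hij
    rw [blk_eq_iff hk] at hbij
    simp only [Fin.ext_iff, Fin.val_rev, vA, vB]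
    omega
  have hmid : 2 * k + 3 = n → Fin.rev B = B := fun h => Fin.ext (by rw [Fin.val_rev, vB]; omega)
  rcases lt_or_gt_of_ne hne with h | h
  · refine Or.inl ⟨h, fun i j hij hb => ?_⟩
    rw [Fin.lt_def]
    rcases key i j hij hb with ⟨rfl, rfl⟩ | ⟨rfl, rfl⟩ | ⟨rfl, rfl, h3⟩
    · exact h
    · rw [← rA, ← rB]; omega
    · rw [hmid h3] at rB; rw [← rA]; omega
  · refine Or.inr ⟨h, fun i j hij hb => ?_⟩
    rw [Fin.lt_def]
    rcases key i j hij hb with ⟨rfl, rfl⟩ | ⟨rfl, rfl⟩ | ⟨rfl, rfl, h3⟩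
    · exact h
    · rw [← rA, ← rB]; omega
    · rw [hmid h3] at rB; rw [← rA]; omega

/-- A descent of a permutation commuting with the reversal. -/
theorem exists_descent {π : Equiv.Perm (Fin n)} (hπ : RevC π) (h1 : π ≠ 1) :
    ∃ k : ℕ, ∃ hk : 2 * k + 2 ≤ n,
      ∀ i j : Fin n, i < j → blk k i = blk k j → π j < π i := by
  by_contra hc
  push Not at hc
  have up : ∀ k : ℕ, ∀ hk : 2 * k + 2 ≤ n,
      (π ⟨k, by omega⟩).val < (π ⟨k + 1, by omega⟩).val := fun k hk => by
    rcases block_dichotomy hk hπ with ⟨h, -⟩ | ⟨-, h⟩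
    · exact h
    · obtain ⟨i, j, hij, hb, hle⟩ := hc k hk
      exact absurd (h i j hij hb) (not_lt.2 hle)
  refine h1 (Equiv.ext fun x => ?_)
  have hsm : StrictMono π := by
    rcases n with _ | m
    · exact fun a => a.elim0
    refine Fin.strictMono_iff_lt_succ.2 fun i => Fin.lt_def.2 ?_
    have := i.isLt
    by_cases h : 2 * i.val + 2 ≤ m + 1
    · exact up i.val h
    · have h2 := up (m - 1 - i.val) (by omega)
      have e1 := congrArg Fin.val (hπ i.castSucc)
      have e2 := congrArg Fin.val (hπ i.succ)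
      rw [Fin.val_rev] at e1 e2
      have p1 : Fin.rev i.castSucc = (⟨m - 1 - i.val + 1, by omega⟩ : Fin (m + 1)) :=
        Fin.ext (by simp [Fin.val_rev]; omega)
      have p2 : Fin.rev i.succ = (⟨m - 1 - i.val, by omega⟩ : Fin (m + 1)) :=
        Fin.ext (by simp [Fin.val_rev]; omega)
      rw [p1] at e1
      rw [p2] at e2
      have := (π i.castSucc).isLt
      have := (π i.succ).isLt
      omega
  exact congrFun ((hsm.range_inj (g := id) strictMono_id).1 (by simp [π.surjective.range_eq])) x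

/-- Inversion number. -/
def invNum (π : Equiv.Perm (Fin n)) : ℕ :=
  (Finset.univ.filter fun z : Fin n × Fin n => z.1 < z.2 ∧ π z.2 < π z.1).card

theorem invNum_lt {k : ℕ} (hk : 2 * k + 2 ≤ n) {π : Equiv.Perm (Fin n)}
    (h : ∀ i j : Fin n, i < j → blk k i = blk k j → π j < π i) :
    invNum (π * tPerm k hk) < invNum π := by
  set w := tPerm k hk with hw
  let e : Fin n × Fin n ↪ Fin n × Fin n :=
    ⟨fun z => (w z.1, w z.2), fun a b hab => Prod.ext (w.injective (congrArg Prod.fst hab))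
      (w.injective (congrArg Prod.snd hab))⟩
  have hAB : (⟨k, by omega⟩ : Fin n) < ⟨k + 1, by omega⟩ := Fin.lt_def.2 (Nat.lt_succ_self k)
  rw [invNum, invNum, ← Finset.card_map e]
  refine Finset.card_lt_card ((Finset.ssubset_iff_of_subset ?_).2
    ⟨((⟨k, by omega⟩ : Fin n), (⟨k + 1, by omega⟩ : Fin n)), ?_, ?_⟩)
  · intro z' hz'
    obtain ⟨z, hz, rfl⟩ := Finset.mem_map.1 hz'
    obtain ⟨hlt, hinv⟩ := (Finset.mem_filter.1 hz).2
    refine Finset.mem_filter.2 ⟨Finset.mem_univ _, ?_, hinv⟩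
    refine tPerm_lt_of_ne hk hlt fun hb => ?_
    have h2 := h _ _ (tPerm_lt hk hlt hb) (by rw [blk_tPerm, blk_tPerm, hb])
    exact lt_asymm h2 hinv
  · exact Finset.mem_filter.2 ⟨Finset.mem_univ _, hAB, h _ _ hAB (blk_node hk)⟩
  · intro hz
    obtain ⟨z, hz, e'⟩ := Finset.mem_map.1 hz
    obtain ⟨hlt, hinv⟩ := (Finset.mem_filter.1 hz).2
    have h1 : w z.1 = ⟨k, by omega⟩ := congrArg Prod.fst e'
    have h2 : w z.2 = ⟨k + 1, by omega⟩ := congrArg Prod.snd e'
    have := tPerm_lt hk hlt (by rw [← blk_tPerm hk z.1, ← blk_tPerm hk z.2, ← hw, h1, h2, blk_node hk])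
    rw [← hw, h1, h2] at this
    exact lt_asymm this hAB

/-- Permutations commuting with the reversal are products of simple reflections. -/
theorem revC_induction {P : Equiv.Perm (Fin n) → Prop} (h1 : P 1)
    (hstep : ∀ π k, ∀ hk : 2 * k + 2 ≤ n, P π → P (π * tPerm k hk)) :
    ∀ {π : Equiv.Perm (Fin n)}, RevC π → P π := by
  intro π
  induction hm : invNum π using Nat.strong_induction_on generalizing π with
  | _ m ih =>
    intro hπ
    by_cases h : π = 1
    · rw [h]; exact h1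
    obtain ⟨k, hk, hd⟩ := exists_descent hπ h
    have := hstep _ k hk (ih _ (hm ▸ invNum_lt hk hd) rfl (hπ.mul (tPerm_revC hk)))
    rwa [mul_assoc, tPerm_sq, mul_one] at this

end CfsgLib.TwistBN
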