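/-
Even permutations commuting with the reversal of `Fin (2m)`.
-/
import Cfsg.Agent.Lib.TwistBN.Blocks

set_option autoImplicit false

namespace CfsgLib.TwistBN.Plus

open Equiv

variable {m : ℕ}

/-- The swap of the two middle positions. -/
def rho (m : ℕ) : Equiv.Perm (Fin (2 * m)) :=
  if h : 1 ≤ m then Equiv.swap ⟨m - 1, by omega⟩ ⟨m, by omega⟩ else 1

theorem rho_val (i : Fin (2 * m)) :
    (rho m i).val = if i.val = m - 1 then m else if i.val = m then m - 1 else i.val := by
  have := i.isLt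
  rw [rho, dif_pos (by omega), Equiv.swap_apply_def]
  simp only [Fin.ext_iff]
  split_ifs <;> first | rfl | omega

theorem rho_sq : rho m * rho m = 1 := by
  refine Equiv.ext fun i => Fin.ext ?_
  rw [Equiv.Perm.mul_apply, rho_val, rho_val, Equiv.Perm.one_apply]
  have := i.isLt
  split_ifs <;> omega

theorem rho_inv : (rho m)⁻¹ = rho m := inv_eq_of_mul_eq_one_right rho_sq

theorem rho_revC : RevC (rho m) := fun i => by
  refine Fin.ext ?_
  rw [Fin.val_rev, rho_val, rho_val, Fin.val_rev]
  have := i.isLt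
  split_ifs <;> omega

theorem sign_rho (hm : 1 ≤ m) : Equiv.Perm.sign (rho m) = -1 := by
  rw [rho, dif_pos hm, Equiv.Perm.sign_swap]
  simp only [ne_eq, Fin.ext_iff]
  omega

theorem sign_tPerm {k : ℕ} (hk : k + 1 < m) :
    Equiv.Perm.sign (tPerm (n := 2 * m) k (by omega)) = 1 := by
  have h : tPerm (n := 2 * m) k (by omega) =
      Equiv.swap (⟨k, by omega⟩ : Fin (2 * m)) ⟨k + 1, by omega⟩ *
        Equiv.swap (⟨2 * m - 2 - k, by omega⟩ : Fin (2 * m)) ⟨2 * m - 1 - k, by omega⟩ := by
    refine Equiv.ext fun i => Fin.ext ?_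
    rw [Equiv.Perm.mul_apply, tPerm_val, tVal, if_neg (by omega), if_neg (by omega),
      Equiv.swap_apply_def, Equiv.swap_apply_def]
    have := i.isLt
    simp only [Fin.ext_iff, apply_ite Fin.val]
    split_ifs <;> omega
  rw [h, map_mul, Equiv.Perm.sign_swap, Equiv.Perm.sign_swap] <;>
    simp only [ne_eq, Fin.ext_iff, mul_neg, mul_one, neg_neg] <;> omega

/-- Inversions between positions which are not opposite. -/
def invD (π : Equiv.Perm (Fin (2 * m))) : ℕ :=
  (Finset.univ.filter fun z : Fin (2 * m) × Fin (2 * m) =>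
    (z.1 < z.2 ∧ π z.2 < π z.1) ∧ z.2 ≠ Fin.rev z.1).card

theorem rho_lt {i j : Fin (2 * m)} (hij : i < j) (hne : j ≠ Fin.rev i) : rho m i < rho m j := by
  rw [Fin.lt_def, rho_val, rho_val]
  rw [Fin.lt_def] at hij
  rw [ne_eq, Fin.ext_iff, Fin.val_rev] at hne
  split_ifs <;> omega

theorem invD_mul_rho (π : Equiv.Perm (Fin (2 * m))) : invD (π * rho m) = invD π := by
  have hr : ∀ i, rho m (rho m i) = i := fun i => Equiv.Perm.congr_fun rho_sq i
  rw [invD, invD]
  refine Finset.card_bij' (fun z _ => (rho m z.1, rho m z.2)) (fun z _ => (rho m z.1, rho m z.2))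
    ?_ ?_ (fun z _ => by simp [hr]) (fun z _ => by simp [hr])
  · intro z hz
    obtain ⟨⟨h1, h2⟩, h3⟩ := (Finset.mem_filter.1 hz).2
    refine Finset.mem_filter.2 ⟨Finset.mem_univ _, ⟨rho_lt h1 h3, h2⟩, ?_⟩
    show rho m z.2 ≠ Fin.rev (rho m z.1)
    rw [rho_revC]
    exact (rho m).injective.ne h3
  · intro z hz
    obtain ⟨⟨h1, h2⟩, h3⟩ := (Finset.mem_filter.1 hz).2
    refine Finset.mem_filter.2 ⟨Finset.mem_univ _, ⟨rho_lt h1 h3, ?_⟩, ?_⟩
    · show π (rho m (rho m z.2)) < π (rho m (rho m z.1))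
      rw [hr, hr]; exact h2
    · show rho m z.2 ≠ Fin.rev (rho m z.1)
      rw [rho_revC]
      exact (rho m).injective.ne h3

theorem invD_lt {k : ℕ} (hk : k + 1 < m) {π : Equiv.Perm (Fin (2 * m))}
    (h : ∀ i j : Fin (2 * m), i < j → blk k i = blk k j → π j < π i) :
    invD (π * tPerm k (by omega)) < invD π := by
  set w := tPerm (n := 2 * m) k (by omega) with hw
  have hk' : 2 * k + 2 ≤ 2 * m := by omega
  let e : Fin (2 * m) × Fin (2 * m) ↪ Fin (2 * m) × Fin (2 * m) :=
    ⟨fun z => (w z.1, w z.2), fun a b hab => Prod.ext (w.injective (congrArg Prod.fst hab))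
      (w.injective (congrArg Prod.snd hab))⟩
  have hAB : (⟨k, by omega⟩ : Fin (2 * m)) < ⟨k + 1, by omega⟩ :=
    Fin.lt_def.2 (Nat.lt_succ_self k)
  have hABr : (⟨k + 1, by omega⟩ : Fin (2 * m)) ≠ Fin.rev ⟨k, by omega⟩ := by
    rw [ne_eq, Fin.ext_iff, Fin.val_rev]; show ¬ k + 1 = 2 * m - (k + 1); omega
  rw [invD, invD, ← Finset.card_map e]
  refine Finset.card_lt_card ((Finset.ssubset_iff_of_subset ?_).2
    ⟨((⟨k, by omega⟩ : Fin (2 * m)), (⟨k + 1, by omega⟩ : Fin (2 * m))), ?_, ?_⟩)
  · intro z' hz'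
    obtain ⟨z, hz, rfl⟩ := Finset.mem_map.1 hz'
    obtain ⟨⟨hlt, hinv⟩, hne⟩ := (Finset.mem_filter.1 hz).2
    refine Finset.mem_filter.2 ⟨Finset.mem_univ _, ⟨?_, hinv⟩, ?_⟩
    · refine tPerm_lt_of_ne hk' hlt fun hb => ?_
      exact lt_asymm (h _ _ (tPerm_lt hk' hlt hb) (by rw [blk_tPerm, blk_tPerm, hb])) hinv
    · show w z.2 ≠ Fin.rev (w z.1)
      rw [hw, tPerm_revC hk']
      exact (tPerm k hk').injective.ne hne
  · exact Finset.mem_filter.2 ⟨Finset.mem_univ _, ⟨hAB, h _ _ hAB (blk_node hk')⟩, hABr⟩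
  · intro hz
    obtain ⟨z, hz, e'⟩ := Finset.mem_map.1 hz
    obtain ⟨⟨hlt, hinv⟩, -⟩ := (Finset.mem_filter.1 hz).2
    have h1 : w z.1 = ⟨k, by omega⟩ := congrArg Prod.fst e'
    have h2 : w z.2 = ⟨k + 1, by omega⟩ := congrArg Prod.snd e'
    have := tPerm_lt hk' hlt
      (by rw [← blk_tPerm hk' z.1, ← blk_tPerm hk' z.2, ← hw, h1, h2, blk_node hk'])
    rw [← hw, h1, h2] at this
    exact lt_asymm this hAB

/-- The permutation of the last node. -/
def tRho (m : ℕ) (hm : 2 ≤ m) : Equiv.Perm (Fin (2 * m)) :=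
  rho m * tPerm (m - 2) (by omega) * rho m

/-- Even permutations commuting with the reversal are products of the simple reflections. -/
theorem revD_induction {P : Equiv.Perm (Fin (2 * m)) → Prop} (h1 : P 1)
    (hstep : ∀ π k, ∀ hk : k + 1 < m, P π → P (π * tPerm k (by omega)))
    (hlast : ∀ π, ∀ hm : 2 ≤ m, P π → P (π * tRho m hm)) :
    ∀ {π : Equiv.Perm (Fin (2 * m))}, RevC π → Equiv.Perm.sign π = 1 → P π := by
  intro π
  induction hn : invD π using Nat.strong_induction_on generalizing π with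
  | _ c ih =>
    intro hπ hs
    by_cases h : ∃ k, ∃ hk : k + 1 < m, ∀ i j : Fin (2 * m), i < j → blk k i = blk k j → π j < π i
    · obtain ⟨k, hk, hd⟩ := h
      have := hstep _ k hk (ih _ (hn ▸ invD_lt hk hd) rfl (hπ.mul (tPerm_revC (by omega)))
        (by rw [map_mul, hs, sign_tPerm hk, one_mul]))
      rwa [mul_assoc, tPerm_sq, mul_one] at this
    push Not at h
    have up : ∀ k, ∀ hk : k + 1 < m, (π ⟨k, by omega⟩).val < (π ⟨k + 1, by omega⟩).val := by
      intro k hk
      rcases block_dichotomy (show 2 * k + 2 ≤ 2 * m by omega) hπ with ⟨h', -⟩ | ⟨-, h'⟩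
      · exact h'
      · obtain ⟨i, j, hij, hb, hle⟩ := h k hk
        exact absurd (h' i j hij hb) (not_lt.2 hle)
    rcases Nat.eq_zero_or_pos m with rfl | hm1
    · rwa [show π = 1 from Equiv.ext fun i => absurd i.isLt (by omega)]
    set π' := π * rho m with hπ'
    have hπ'R : RevC π' := hπ.mul rho_revC
    by_cases hlast' : 2 ≤ m ∧ ∀ i j : Fin (2 * m), i < j → blk (m - 2) i = blk (m - 2) j → π' j < π' i
    · obtain ⟨hm, hd⟩ := hlast'
      have hlt := invD_lt (show m - 2 + 1 < m by omega) hd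
      rw [hπ', invD_mul_rho, ← invD_mul_rho (π * rho m * tPerm (m - 2) (by omega))] at hlt
      have e : π * tRho m hm = π * rho m * tPerm (m - 2) (by omega) * rho m := by
        simp only [tRho, mul_assoc]
      rw [← e, hn] at hlt
      have hsq : tRho m hm * tRho m hm = 1 := by
        calc tRho m hm * tRho m hm = rho m * (tPerm (m - 2) (by omega) * ((rho m * rho m) *
              tPerm (m - 2) (by omega))) * rho m := by simp only [tRho, mul_assoc]
          _ = 1 := by rw [rho_sq, one_mul, tPerm_sq, mul_one, rho_sq]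
      have hs' : Equiv.Perm.sign (tRho m hm) = 1 := by
        rw [tRho, map_mul, map_mul, sign_rho hm1, sign_tPerm (by omega)]; simp
      have := hlast _ hm (ih _ hlt rfl
        (hπ.mul ((rho_revC.mul (tPerm_revC (by omega))).mul rho_revC))
        (by rw [map_mul, hs, hs', one_mul]))
      rwa [mul_assoc, hsq, mul_one] at this
    have hA : ∀ (x : Fin (2 * m)) (a : ℕ), x.val = a → ∀ ha : a < 2 * m, π x = π ⟨a, ha⟩ :=
      fun x a e ha => congrArg π (Fin.ext e)
    rcases lt_or_gt_of_ne (fun e : (π ⟨m - 1, by omega⟩).val = (π ⟨m, by omega⟩).val => by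
        have := congrArg Fin.val (π.injective (Fin.ext e)); dsimp at this; omega) with hmid | hmid
    · -- no descent at all
      by_contra hne
      obtain ⟨k, hk, hd⟩ := exists_descent hπ fun e => hne (e ▸ h1)
      have hd' := hd _ _ (Fin.lt_def.2 (Nat.lt_succ_self k)) (blk_node hk)
      rw [Fin.lt_def] at hd'
      by_cases hkm : k + 1 < m
      · exact absurd (up k hkm) (by omega)
      · have e1 := hA ⟨k, by omega⟩ (m - 1) (show k = m - 1 by omega) (by omega)
        have e2 := hA ⟨k + 1, by omega⟩ m (show k + 1 = m by omega) (by omega)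
        rw [e1, e2] at hd'
        omega
    · exfalso
      have hid : π' = 1 := by
        by_contra hne
        obtain ⟨k, hk, hd⟩ := exists_descent hπ'R hne
        have hd' := hd _ _ (Fin.lt_def.2 (Nat.lt_succ_self k)) (blk_node hk)
        rw [Fin.lt_def, hπ', Equiv.Perm.mul_apply, Equiv.Perm.mul_apply] at hd'
        have r1 := rho_val (⟨k, by omega⟩ : Fin (2 * m))
        have r2 := rho_val (⟨k + 1, by omega⟩ : Fin (2 * m))
        dsimp only at r1 r2
        by_cases hk2 : k + 2 < m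
        · rw [if_neg (by omega), if_neg (by omega)] at r1 r2
          rw [hA _ k r1 (by omega), hA _ (k + 1) r2 (by omega)] at hd'
          exact absurd (up k (by omega)) (by omega)
        · by_cases hk1 : k + 2 = m
          · exact hlast' ⟨by omega, by rwa [show m - 2 = k by omega]⟩
          · rw [if_pos (by omega)] at r1
            rw [if_neg (by omega), if_pos (by omega)] at r2
            rw [hA _ m r1 (by omega), hA _ (m - 1) r2 (by omega)] at hd'
            omega
      have : π = rho m := by rw [← mul_one π, ← rho_sq (m := m), ← mul_assoc, ← hπ', hid, one_mul]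
      rw [this, sign_rho hm1] at hs
      exact absurd hs (by decide)

end CfsgLib.TwistBN.Plus
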