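/-
Fixed points of the twist `g ↦ D (σ g)⁻ᵗ D⁻¹` (antidiagonal transpose) inside `SL_n`.
-/
import Cfsg.Agent.Lib.PronormalPSU.Twist
import Cfsg.Agent.Lib.TwistBN.Blocks

set_option autoImplicit false
set_option linter.unusedSectionVars false

namespace CfsgLib.TwistBN

open Matrix CfsgLib.PronormalPSL CfsgLib.PronormalPSU CfsgLib.Fusion.UniTri CfsgLib.GLUnipotent

variable {F : Type*} [Field F] [Finite F] {n : ℕ}

/-- The twist attached to diagonal signs and a field automorphism. -/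
def th (d : Fin n → Fˣ) (σ : F ≃+* F) : GL (Fin n) F →* GL (Fin n) F :=
  (MulAut.conj (dg d)).toMonoidHom.comp (tw σ)

theorem th_apply (d : Fin n → Fˣ) (σ : F ≃+* F) (g : GL (Fin n) F) (i j : Fin n) :
    (th d σ g).1 i j = (d i : F) * σ ((g⁻¹).1 (Fin.rev j) (Fin.rev i)) * ((d j)⁻¹ : Fˣ) := by
  have h : th d σ g = dg d * tw σ g * dg d⁻¹ := by rw [map_inv]; rfl
  rw [h, Units.val_mul, Units.val_mul, dg_val, dg_val, mul_diagonal, diagonal_mul, tw_apply]
  rfl

/-- The group of fixed points of determinant one. -/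
def fixS (d : Fin n → Fˣ) (σ : F ≃+* F) : Subgroup (GL (Fin n) F) :=
  MonoidHom.eqLocus (th d σ) (MonoidHom.id _) ⊓
    (Matrix.GeneralLinearGroup.det : GL (Fin n) F →* Fˣ).ker

variable {d : Fin n → Fˣ} {σ : F ≃+* F}

theorem mem_fixS {g : GL (Fin n) F} : g ∈ fixS d σ ↔ th d σ g = g ∧ g.1.det = 1 := by
  rw [fixS, Subgroup.mem_inf, MonoidHom.mem_ker, Units.ext_iff]
  exact Iff.rfl

theorem det_uni {u : GL (Fin n) F} (hu : u ∈ uni F n) : u.1.det = 1 := by
  rw [Matrix.det_of_upperTriangular fun x y h => (mem_uni.1 hu).1 x y h]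
  exact Finset.prod_eq_one fun x _ => (mem_uni.1 hu).2 x

theorem th_mem_uni {g : GL (Fin n) F} (hg : g ∈ uni F n) : th d σ g ∈ uni F n := by
  have h := mem_uni.1 ((uni F n).inv_mem hg)
  refine mem_uni.2 ⟨fun x y hxy => ?_, fun x => ?_⟩
  · rw [th_apply, h.1 _ _ (Fin.rev_lt_rev.2 hxy), map_zero, mul_zero, zero_mul]
  · rw [th_apply, h.2, map_one, mul_one, Units.mul_inv]

theorem th_mem_upat {π : Equiv.Perm (Fin n)} (hπ : RevC π) {g : GL (Fin n) F}
    (hg : g ∈ upat F π) : th d σ g ∈ upat F π := by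
  refine mem_upat.2 fun i j hij => ?_
  rw [th_apply, hπ, hπ, mem_upat.1 ((upat F π).inv_mem hg) _ _ (Fin.rev_lt_rev.2 hij), map_zero,
    mul_zero, zero_mul]

theorem th_mono {π : Equiv.Perm (Fin n)} {m : GL (Fin n) F} (hm : Mono π m.1) :
    Mono (Fin.revPerm * π * Fin.revPerm) (th d σ m).1 := by
  intro x y h
  have h0 := tw_mono (σ := σ) hm x y h
  rw [tw_apply] at h0
  rw [th_apply, h0, mul_zero, zero_mul]

theorem mono_perm_unique {π ρ : Equiv.Perm (Fin n)} {m : GL (Fin n) F} (h : Mono π m.1)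
    (h' : Mono ρ m.1) : π = ρ :=
  (mono_unique (a := 1) (one_mem _) (c := 1) (one_mem _) h h' (by simp)).1

theorem revC_of_mem {π : Equiv.Perm (Fin n)} {m : GL (Fin n) F} (hm : Mono π m.1)
    (hf : th d σ m = m) : RevC π := fun i => by
  have h := th_mono (d := d) (σ := σ) hm
  rw [hf] at h
  conv_lhs => rw [mono_perm_unique hm h]
  simp

/-- Bruhat decomposition in the fixed points, with a canonical first factor. -/
theorem exists_th_bruhat {g : GL (Fin n) F} (hg : th d σ g = g) :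
    ∃ a c m π, a ∈ uni F n ∧ th d σ a = a ∧ a ∈ upat F (π * Fin.revPerm) ∧ c ∈ uni F n ∧
      th d σ c = c ∧ th d σ m = m ∧ Mono π m.1 ∧ RevC π ∧ g = a * m * c := by
  obtain ⟨u, hu, w, hw, m, π, hm, e⟩ := exists_uni_mono_uni g
  have e' : th d σ u * th d σ m * th d σ w = g := by
    rw [← map_mul, ← map_mul, ← e]; exact hg
  obtain ⟨hπ, hmm⟩ := mono_unique
    (a := (th d σ u)⁻¹ * u) ((uni F n).mul_mem ((uni F n).inv_mem (th_mem_uni hu)) hu)
    (c := th d σ w * w⁻¹) ((uni F n).mul_mem (th_mem_uni hw) ((uni F n).inv_mem hw))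
    hm (th_mono hm) (by
      calc (th d σ u)⁻¹ * u * m = (th d σ u)⁻¹ * (u * m * w) * w⁻¹ := by group
        _ = th d σ m * (th d σ w * w⁻¹) := by rw [← e, ← e']; group)
  have hrev : RevC π := revC_of_mem hm hmm.symm
  have hrev' : RevC (π * Fin.revPerm) := hrev.mul revC_rev
  obtain ⟨a, ha, b, hb, rfl⟩ := exists_split π hu
  set u₃ := m⁻¹ * b * m * w with hu₃
  have hu₃U : u₃ ∈ uni F n := (uni F n).mul_mem (conj_uni hm hb.1 hb.2) hw
  have e3 : g = a * m * u₃ := by rw [e, hu₃]; group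
  have e4 : th d σ a * m * th d σ u₃ = g := by
    conv_lhs => rw [hmm]
    rw [← map_mul, ← map_mul, ← e3]
    exact hg
  set x := (th d σ a)⁻¹ * a with hx
  have hx1 : x ∈ uni F n := (uni F n).mul_mem ((uni F n).inv_mem (th_mem_uni ha.1)) ha.1
  have hx2 : x ∈ upat F (π * Fin.revPerm) :=
    (upat F _).mul_mem ((upat F _).inv_mem (th_mem_upat hrev' ha.2)) ha.2
  have ex : m⁻¹ * x * m = th d σ u₃ * u₃⁻¹ := by
    calc m⁻¹ * x * m = m⁻¹ * (th d σ a)⁻¹ * (a * m * u₃) * u₃⁻¹ := by rw [hx]; group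
      _ = th d σ u₃ * u₃⁻¹ := by rw [← e3, ← e4]; group
  have hx3 : x ∈ upat F π := by
    refine mem_upat.2 fun i j hij => ?_
    have h := (mem_uni.1 ((uni F n).mul_mem (th_mem_uni (d := d) (σ := σ) hu₃U)
      ((uni F n).inv_mem hu₃U))).1 i j hij
    rw [← ex, conj_apply hm] at h
    refine (mul_eq_zero.1 ((mul_eq_zero.1 h).resolve_right (hm.ne_zero j))).resolve_left ?_
    exact left_ne_zero_of_mul_eq_one (inv_mul_diag hm i)
  have hx0 : x = 1 := eq_one_of_mem_upat hx1 hx2 hx3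
  refine ⟨a, u₃, m, π, ha.1, inv_mul_eq_one.1 hx0, ha.2, hu₃U, ?_, hmm.symm, hm, hrev, e3⟩
  rw [hx0, mul_one, inv_mul_cancel] at ex
  exact mul_inv_eq_one.1 ex.symm

/-- Bruhat decomposition in the fixed points. -/
theorem exists_fixS_bruhat {g : GL (Fin n) F} (hg : g ∈ fixS d σ) :
    ∃ u₁ ∈ uni F n ⊓ fixS d σ, ∃ u₃ ∈ uni F n ⊓ fixS d σ, ∃ m ∈ fixS d σ, ∃ π, Mono π m.1 ∧
      RevC π ∧ g = u₁ * m * u₃ := by
  obtain ⟨a, c, m, π, ha, haf, -, hc, hcf, -, hm, hrev, e⟩ := exists_th_bruhat (mem_fixS.1 hg).1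
  have hA : a ∈ fixS d σ := mem_fixS.2 ⟨haf, det_uni ha⟩
  have hC : c ∈ fixS d σ := mem_fixS.2 ⟨hcf, det_uni hc⟩
  refine ⟨a, ⟨ha, hA⟩, c, ⟨hc, hC⟩, m, ?_, π, hm, hrev, e⟩
  rw [show m = a⁻¹ * g * c⁻¹ by rw [e]; group]
  exact mul_mem (mul_mem (inv_mem hA) hg) (inv_mem hC)

theorem exists_uni_dg {b : GL (Fin n) F} (hb : b ∈ fixS d σ)
    (hb' : b ∈ Cfsg.upperTriangularGL n F) :
    ∃ u ∈ uni F n ⊓ fixS d σ, ∃ v, dg v ∈ fixS d σ ∧ b = u * dg v := by
  obtain ⟨u, hu, v, e⟩ := exists_uni_diag hb'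
  have huU : SpecialLinearGroup.toGL u ∈ uni F n := mem_uni.2 hu
  set u' := SpecialLinearGroup.toGL u with hu'
  have e' : th d σ u' * th d σ (dg v) = u' * dg v := by
    rw [← map_mul, ← e]; exact (mem_fixS.1 hb).1
  obtain ⟨-, hm⟩ := mono_unique
    (a := (th d σ u')⁻¹ * u') ((uni F n).mul_mem ((uni F n).inv_mem (th_mem_uni huU)) huU)
    (c := (1 : GL (Fin n) F)) (one_mem _) (mono_dg v)
    (th_mono (d := d) (σ := σ) (mono_dg v)) (by rw [mul_one, mul_assoc, ← e']; group)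
  rw [← hm] at e'
  have huf : u' ∈ fixS d σ := mem_fixS.2 ⟨mul_right_cancel e', det_uni huU⟩
  refine ⟨u', ⟨huU, huf⟩, v, ?_, e⟩
  rw [show dg v = u'⁻¹ * b by rw [e]; group]
  exact mul_mem (inv_mem huf) hb

/-- The transpose of an invertible matrix. -/
def tpose (g : GL (Fin n) F) : GL (Fin n) F :=
  ⟨g.1ᵀ, (g⁻¹).1ᵀ, by rw [← transpose_mul, g.inv_mul, transpose_one],
    by rw [← transpose_mul, g.mul_inv, transpose_one]⟩

theorem tpose_mem_fixS (hsq : ∀ i, d i * d i = 1) {g : GL (Fin n) F} (hg : g ∈ fixS d σ) :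
    tpose g ∈ fixS d σ := by
  refine mem_fixS.2 ⟨Units.ext (Matrix.ext fun i j => ?_), ?_⟩
  · have h := congrArg (fun x : GL (Fin n) F => x.1 j i) (mem_fixS.1 hg).1
    rw [th_apply] at h
    rw [th_apply, inv_eq_of_mul_eq_one_right (hsq j)]
    rw [inv_eq_of_mul_eq_one_right (hsq i)] at h
    show (d i : F) * σ ((g⁻¹).1ᵀ (Fin.rev j) (Fin.rev i)) * (d j : F) = g.1 j i
    rw [← h, transpose_apply]
    ring
  · show g.1ᵀ.det = 1
    rw [det_transpose]; exact (mem_fixS.1 hg).2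

/-! ## Block projections -/

/-- Block upper triangular. -/
def BUT (k : ℕ) (A : Matrix (Fin n) (Fin n) F) : Prop := ∀ i j, blk k j < blk k i → A i j = 0

/-- Supported on the diagonal blocks. -/
def BD (k : ℕ) (A : Matrix (Fin n) (Fin n) F) : Prop := ∀ i j, blk k i ≠ blk k j → A i j = 0

/-- The block diagonal part. -/
def pr (k : ℕ) (A : Matrix (Fin n) (Fin n) F) : Matrix (Fin n) (Fin n) F :=
  Matrix.of fun i j => if blk k i = blk k j then A i j else 0

theorem BD.but {k : ℕ} {A : Matrix (Fin n) (Fin n) F} (h : BD k A) : BUT k A :=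
  fun i j hij => h i j hij.ne'

theorem but_uni {k : ℕ} {u : GL (Fin n) F} (hu : u ∈ uni F n) : BUT k u.1 := fun i j h =>
  (mem_uni.1 hu).1 i j (not_le.1 fun h' => absurd (blk_mono h') (not_le.2 h))

theorem BUT.mul {k : ℕ} {A B : Matrix (Fin n) (Fin n) F} (hA : BUT k A) (hB : BUT k B) :
    BUT k (A * B) := fun i j h => by
  rw [Matrix.mul_apply]
  refine Finset.sum_eq_zero fun z _ => ?_
  by_cases hz : blk k z < blk k i
  · rw [hA i z hz, zero_mul]
  · rw [hB z j (h.trans_le (not_lt.1 hz)), mul_zero]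

theorem pr_apply {k : ℕ} (A : Matrix (Fin n) (Fin n) F) (i j : Fin n) :
    pr k A i j = if blk k i = blk k j then A i j else 0 := rfl

theorem pr_mul {k : ℕ} {A B : Matrix (Fin n) (Fin n) F} (hA : BUT k A) (hB : BUT k B) :
    pr k (A * B) = pr k A * pr k B := by
  refine Matrix.ext fun i j => ?_
  rw [pr_apply, Matrix.mul_apply, Matrix.mul_apply]
  by_cases h : blk k i = blk k j
  · rw [if_pos h]
    refine Finset.sum_congr rfl fun z _ => ?_
    rw [pr_apply, pr_apply]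
    rcases lt_trichotomy (blk k z) (blk k i) with h' | h' | h'
    · rw [hA i z h', if_neg h'.ne', zero_mul, zero_mul]
    · rw [if_pos h'.symm, if_pos (h'.trans h)]
    · rw [hB z j (h ▸ h'), if_neg h'.ne, mul_zero, zero_mul]
  · rw [if_neg h]
    refine (Finset.sum_eq_zero fun z _ => ?_).symm
    rw [pr_apply, pr_apply]
    by_cases h' : blk k i = blk k z
    · rw [if_neg (show ¬ blk k z = blk k j from fun e => h (h'.trans e)), mul_zero]
    · rw [if_neg h', zero_mul]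

theorem isUni_pr (k : ℕ) (u : uni F n) : IsUni (pr k (u : GL (Fin n) F).1) :=
  ⟨fun x y h => by rw [pr_apply, (mem_uni.1 u.2).1 x y h, ite_self],
    fun x => by rw [pr_apply, if_pos rfl, (mem_uni.1 u.2).2]⟩

/-- The block diagonal part of a unitriangular element. -/
noncomputable def prU (k : ℕ) : uni F n →* uni F n where
  toFun u := ⟨ofUni (isUni_pr k u), mem_uni.2 (isUni_pr k u)⟩
  map_one' := Subtype.ext (Units.ext (Matrix.ext fun i j => by
    show pr k (1 : Matrix (Fin n) (Fin n) F) i j = (1 : Matrix (Fin n) (Fin n) F) i j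
    rw [pr_apply]
    by_cases h : i = j
    · rw [if_pos (h ▸ rfl)]
    · rw [one_apply_ne h, ite_self]))
  map_mul' u v := Subtype.ext (Units.ext (by
    show pr k ((u : GL (Fin n) F).1 * (v : GL (Fin n) F).1) =
      pr k (u : GL (Fin n) F).1 * pr k (v : GL (Fin n) F).1
    exact pr_mul (but_uni u.2) (but_uni v.2)))

theorem prU_apply (k : ℕ) (u : uni F n) (i j : Fin n) :
    (prU k u : GL (Fin n) F).1 i j = if blk k i = blk k j then (u : GL (Fin n) F).1 i j else 0 :=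
  rfl

theorem bd_prU (k : ℕ) (u : uni F n) : BD k (prU k u : GL (Fin n) F).1 :=
  fun i j h => by rw [prU_apply, if_neg h]

theorem prU_prU (k : ℕ) (u : uni F n) : prU k (prU k u) = prU k u :=
  Subtype.ext (Units.ext (Matrix.ext fun i j => by
    rw [prU_apply, prU_apply]; split_ifs <;> rfl))

theorem prU_mem_fixS {k : ℕ} (hk : 2 * k + 2 ≤ n) {u : uni F n}
    (hu : (u : GL (Fin n) F) ∈ fixS d σ) : (prU k u : GL (Fin n) F) ∈ fixS d σ := by
  refine mem_fixS.2 ⟨Units.ext (Matrix.ext fun i j => ?_), det_uni (prU k u).2⟩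
  have h := congrArg (fun x : GL (Fin n) F => x.1 i j) (mem_fixS.1 hu).1
  rw [th_apply] at h
  rw [th_apply, ← Subgroup.coe_inv, ← map_inv, prU_apply, prU_apply, Subgroup.coe_inv]
  by_cases hb : blk k i = blk k j
  · rw [if_pos hb, if_pos ((blk_rev_iff hk j i).2 hb.symm)]; exact h
  · rw [if_neg hb, if_neg fun e => hb ((blk_rev_iff hk j i).1 e).symm, map_zero, mul_zero,
      zero_mul]

end CfsgLib.TwistBN
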