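/-
The split (B, N)-pair of the fixed points of a twist of `SL_n`.
-/
import Cfsg.Agent.Lib.TwistBN.Twist
import Cfsg.Agent.Lib.BNSteinberg.Split

set_option autoImplicit false
set_option maxHeartbeats 800000
set_option linter.unusedSectionVars false

namespace CfsgLib.TwistBN

open Matrix CfsgLib.PronormalPSL CfsgLib.PronormalPSU CfsgLib.Fusion.UniTri CfsgLib.GLUnipotent

variable {F : Type*} [Field F] [Finite F] {n : ℕ} {d : Fin n → Fˣ} {σ : F ≃+* F}

/-- The hypotheses on a twist: signs square to one and every simple node carries an element. -/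
structure Ctx (d : Fin n → Fˣ) (σ : F ≃+* F) : Prop where
  sq : ∀ i, d i * d i = 1
  node : ∀ k, 2 * k + 2 ≤ n → ∃ u ∈ uni F n, u ∈ fixS d σ ∧ BD k u.1 ∧ u ≠ 1

variable (F n) in
/-- The monomial matrices. -/
def monoGL : Subgroup (GL (Fin n) F) where
  carrier := {g | ∃ π, Mono π g.1}
  one_mem' := ⟨1, fun _ _ h => one_apply_ne h⟩
  mul_mem' := fun {a b} ha hb => by
    obtain ⟨π, hπ⟩ := ha
    obtain ⟨ρ, hρ⟩ := hb
    exact ⟨π * ρ, by rw [Units.val_mul]; exact hπ.mul hρ⟩
  inv_mem' := fun {a} ha => ⟨ha.choose⁻¹, Mono.inv ha.choose_spec⟩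

theorem mono_mul {π ρ : Equiv.Perm (Fin n)} {a b : GL (Fin n) F} (ha : Mono π a.1)
    (hb : Mono ρ b.1) : Mono (π * ρ) (a * b).1 := by
  rw [Units.val_mul]; exact ha.mul hb

theorem upper_of_mono_one {a : GL (Fin n) F} (ha : Mono 1 a.1) :
    a ∈ Cfsg.upperTriangularGL n F := fun i j h => ha i j (ne_of_gt h)

theorem uni_le_upper {u : GL (Fin n) F} (hu : u ∈ uni F n) :
    u ∈ Cfsg.upperTriangularGL n F := fun i j h => (mem_uni.1 hu).1 i j h

theorem upper_zero {b : GL (Fin n) F} (hb : b ∈ Cfsg.upperTriangularGL n F) {i j : Fin n}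
    (h : j < i) : b.1 i j = 0 := hb h

theorem perm_one_of_upper {π : Equiv.Perm (Fin n)} {m : GL (Fin n) F} (hm : Mono π m.1)
    (hu : m ∈ Cfsg.upperTriangularGL n F) : π = 1 := by
  obtain ⟨u, hu', v, e⟩ := exists_uni_diag hu
  exact (mono_unique (a := 1) (one_mem _) (c := 1) (one_mem _) hm
    (ρ := 1) (m' := m) (fun x y hxy => by
      rcases lt_or_gt_of_ne hxy with h | h
      · by_contra h0
        have hle : ∀ z, π z ≤ z := fun z => by
          by_contra hz
          exact hm.ne_zero z (upper_zero hu (not_le.1 hz))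
        have hid : ∀ z, π z = z := fun z => by
          induction z using WellFoundedLT.induction with
          | _ z ih =>
            rcases (hle z).lt_or_eq with h' | h'
            · exact π.injective (ih _ h')
            · exact h'
        exact h0 (hm x y (by rw [hid]; exact hxy))
      · exact upper_zero hu h) (by simp)).1

theorem diag_conj_uni {h u : GL (Fin n) F} (hh : Mono 1 h.1) (hu : u ∈ uni F n) :
    h * u * h⁻¹ ∈ uni F n := by
  have h' : Mono 1 (h⁻¹).1 := by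
    have := Mono.inv hh
    rwa [inv_one] at this
  have := conj_uni h' hu (mem_upat.2 fun i j hij => (mem_uni.1 hu).1 i j hij)
  rwa [inv_inv] at this

/-- Monotone permutations on blocks carry block diagonal unitriangular elements into the group. -/
theorem conj_pos {k : ℕ} {π : Equiv.Perm (Fin n)} {m u : GL (Fin n) F} (hm : Mono π m.1)
    (hu : u ∈ uni F n) (hbd : BD k u.1)
    (hpos : ∀ i j : Fin n, i < j → blk k i = blk k j → π⁻¹ i < π⁻¹ j) :
    m⁻¹ * u * m ∈ uni F n := by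
  refine conj_uni hm hu (mem_upat.2 fun i j hij => ?_)
  by_cases hb : blk k (π i) = blk k (π j)
  · rcases lt_trichotomy (π i) (π j) with h | h | h
    · have := hpos _ _ h hb
      simp at this
      exact absurd this (not_lt.2 hij.le)
    · exact absurd (π.injective h) hij.ne'
    · exact (mem_uni.1 hu).1 _ _ h
  · exact hbd _ _ hb

/-- Elements with trivial block part are moved into the group by the reflection. -/
theorem conj_refl {k : ℕ} (hk : 2 * k + 2 ≤ n) {m : GL (Fin n) F} (hm : Mono (tPerm k hk) m.1)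
    {u : uni F n} (hu : prU k u = 1) : m⁻¹ * u * m ∈ uni F n := by
  refine conj_uni hm u.2 (mem_upat.2 fun i j hij => ?_)
  by_cases hb : blk k j = blk k i
  · have h := congrArg (fun x : uni F n => (x : GL (Fin n) F).1 (tPerm k hk i) (tPerm k hk j)) hu
    rw [prU_apply, blk_tPerm, blk_tPerm, if_pos hb.symm] at h
    rw [h]
    exact one_apply_ne fun e => hij.ne' ((tPerm k hk).injective e)
  · exact (mem_uni.1 u.2).1 _ _ (tPerm_lt_of_ne hk hij hb)

theorem mono_tPerm_inv {k : ℕ} (hk : 2 * k + 2 ≤ n) {m : GL (Fin n) F}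
    (hm : Mono (tPerm k hk) m.1) : Mono (tPerm k hk) (m⁻¹).1 := by
  have := Mono.inv hm
  rwa [tPerm_inv] at this

theorem conj_refl' {k : ℕ} (hk : 2 * k + 2 ≤ n) {m : GL (Fin n) F} (hm : Mono (tPerm k hk) m.1)
    {u : uni F n} (hu : prU k u = 1) : m * u * m⁻¹ ∈ uni F n := by
  have := conj_refl hk (mono_tPerm_inv hk hm) hu
  rwa [inv_inv] at this

/-- Block diagonal elements are turned below the diagonal by the reflection. -/
theorem eq_one_of_refl {k : ℕ} (hk : 2 * k + 2 ≤ n) {m : GL (Fin n) F}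
    (hm : Mono (tPerm k hk) m.1) {u : GL (Fin n) F} (hu : u ∈ uni F n) (hbd : BD k u.1)
    (h : m⁻¹ * u * m ∈ Cfsg.upperTriangularGL n F) : u = 1 := by
  refine Units.ext (Matrix.ext fun a b => ?_)
  rw [Units.val_one]
  by_cases hab : a = b
  · subst hab; rw [(mem_uni.1 hu).2, one_apply_eq]
  rw [one_apply_ne hab]
  rcases lt_or_gt_of_ne hab with hlt | hgt
  · by_cases hb : blk k a = blk k b
    · obtain ⟨i, rfl⟩ := (tPerm k hk).surjective a
      obtain ⟨j, rfl⟩ := (tPerm k hk).surjective b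
      rw [blk_tPerm, blk_tPerm] at hb
      have hji : j < i := by
        rcases lt_trichotomy j i with h' | h' | h'
        · exact h'
        · exact absurd (congrArg _ h'.symm) hab
        · exact absurd (tPerm_lt hk h' hb) (not_lt.2 hlt.le)
      have h0 := upper_zero h hji
      rw [conj_apply hm] at h0
      exact (mul_eq_zero.1 ((mul_eq_zero.1 h0).resolve_right (hm.ne_zero j))).resolve_left
        (left_ne_zero_of_mul_eq_one (inv_mul_diag hm i))
    · exact hbd a b hb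
  · exact (mem_uni.1 hu).1 a b hgt

/-- A block diagonal fixed element which is not triangular lies in the cell of the reflection. -/
theorem rank_one {k : ℕ} (hk : 2 * k + 2 ≤ n) {y : GL (Fin n) F} (hy : y ∈ fixS d σ)
    (hbd : BUT k y.1) (hny : y ∉ Cfsg.upperTriangularGL n F) :
    ∃ a ∈ uni F n ⊓ fixS d σ, ∃ c ∈ uni F n ⊓ fixS d σ, ∃ m ∈ fixS d σ,
      Mono (tPerm k hk) m.1 ∧ y = a * m * c := by
  obtain ⟨a, ha, c, hc, m, hm, π, hmono, hrev, e⟩ := exists_fixS_bruhat hy
  have hmb : BUT k m.1 := by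
    rw [show m = a⁻¹ * y * c⁻¹ by rw [e]; group, Units.val_mul, Units.val_mul]
    exact ((but_uni (inv_mem ha.1)).mul hbd).mul (but_uni (inv_mem hc.1))
  have hle : ∀ j, blk k (π j) ≤ blk k j := fun j =>
    not_lt.1 fun h => hmono.ne_zero j (hmb _ _ h)
  have heq : ∀ j, blk k (π j) = blk k j := fun j =>
    (Finset.sum_eq_sum_iff_of_le fun i _ => hle i).1
      (Equiv.sum_comp π fun i => blk k i) j (Finset.mem_univ j)
  rcases eq_one_or_tPerm hk hrev heq with rfl | rfl
  · refine absurd ?_ hny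
    rw [e]
    exact mul_mem (mul_mem (uni_le_upper ha.1) (upper_of_mono_one hmono)) (uni_le_upper hc.1)
  · exact ⟨a, ha, c, hc, m, hm, hmono, e⟩

theorem Ctx.exists_rep (C : Ctx d σ) {k : ℕ} (hk : 2 * k + 2 ≤ n) :
    ∃ m ∈ fixS d σ, Mono (tPerm k hk) m.1 := by
  obtain ⟨u, hu, huf, hbd, hne⟩ := C.node k hk
  have hny : tpose u ∉ Cfsg.upperTriangularGL n F := fun h => hne (Units.ext (Matrix.ext fun a b => by
    rw [Units.val_one]
    rcases lt_trichotomy a b with hab | hab | hab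
    · rw [one_apply_ne hab.ne]; exact upper_zero h hab
    · subst hab; rw [(mem_uni.1 hu).2, one_apply_eq]
    · rw [one_apply_ne hab.ne']; exact (mem_uni.1 hu).1 a b hab))
  obtain ⟨-, -, -, -, m, hm, hmono, -⟩ := rank_one hk (tpose_mem_fixS C.sq huf)
    (fun i j h => hbd j i h.ne) hny
  exact ⟨m, hm, hmono⟩

/-- The reflection representative. -/
noncomputable def sRep (C : Ctx d σ) (k : ℕ) (hk : 2 * k + 2 ≤ n) : fixS d σ :=
  ⟨(C.exists_rep hk).choose, (C.exists_rep hk).choose_spec.1⟩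

theorem sRep_mono (C : Ctx d σ) {k : ℕ} (hk : 2 * k + 2 ≤ n) :
    Mono (tPerm k hk) (sRep C k hk : GL (Fin n) F).1 := (C.exists_rep hk).choose_spec.2

variable (d σ) in
/-- The Borel subgroup. -/
def borel : Subgroup (fixS d σ) := (Cfsg.upperTriangularGL n F).subgroupOf _

variable (d σ) in
/-- The monomial subgroup. -/
def monoN : Subgroup (fixS d σ) := (monoGL F n).subgroupOf _

variable (d σ) in
/-- The unipotent subgroup. -/
def unipU : Subgroup (fixS d σ) := (uni F n).subgroupOf _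

theorem borel_conj {s x : fixS d σ}
    (h : (s : GL (Fin n) F) * (x : GL (Fin n) F) * (s : GL (Fin n) F)⁻¹ ∈ uni F n) :
    s * x * s⁻¹ ∈ borel d σ := by
  rw [borel, Subgroup.mem_subgroupOf, Subgroup.coe_mul, Subgroup.coe_mul, Subgroup.coe_inv]
  exact uni_le_upper h

theorem borel_conj' {s x : fixS d σ}
    (h : (s : GL (Fin n) F)⁻¹ * (x : GL (Fin n) F) * (s : GL (Fin n) F) ∈ uni F n) :
    s⁻¹ * x * s ∈ borel d σ := by
  rw [borel, Subgroup.mem_subgroupOf, Subgroup.coe_mul, Subgroup.coe_mul, Subgroup.coe_inv]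
  exact uni_le_upper h

theorem borel_of_perm_one {x : fixS d σ} (h : Mono 1 (x : GL (Fin n) F).1) : x ∈ borel d σ :=
  upper_of_mono_one h

theorem mem_torus {h : fixS d σ} : h ∈ borel d σ ⊓ monoN d σ ↔ Mono 1 (h : GL (Fin n) F).1 := by
  constructor
  · rintro ⟨hb, π, hπ⟩
    rwa [perm_one_of_upper hπ hb] at hπ
  · exact fun h1 => ⟨upper_of_mono_one h1, 1, h1⟩

theorem Ctx.exists_word (C : Ctx d σ) {π : Equiv.Perm (Fin n)} (hπ : RevC π) :
    ∃ m ∈ Subgroup.closure (Set.range fun k : {k : ℕ // 2 * k + 2 ≤ n} => sRep C k.1 k.2),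
      Mono π (m : GL (Fin n) F).1 := by
  refine revC_induction (P := fun π => ∃ m : fixS d σ,
      m ∈ Subgroup.closure (Set.range fun k : {k : ℕ // 2 * k + 2 ≤ n} => sRep C k.1 k.2) ∧
        Mono π (m : GL (Fin n) F).1)
    ⟨1, one_mem _, fun x y h => one_apply_ne h⟩ ?_ hπ
  rintro π k hk ⟨m, hm, hmono⟩
  exact ⟨m * sRep C k hk, mul_mem hm (Subgroup.subset_closure ⟨⟨k, hk⟩, rfl⟩),
    mono_mul hmono (sRep_mono C hk)⟩

theorem exists_decomp {b : fixS d σ} (hb : b ∈ borel d σ) :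
    ∃ u ∈ unipU d σ, ∃ h ∈ borel d σ ⊓ monoN d σ, b = u * h := by
  obtain ⟨u, hu, v, hv, e⟩ := exists_uni_dg b.2 hb
  exact ⟨⟨u, hu.2⟩, hu.1, ⟨dg v, hv⟩, mem_torus.2 (mono_dg v), Subtype.ext e⟩

/-- Splitting off the block diagonal part. -/
theorem exists_blk_split {k : ℕ} (hk : 2 * k + 2 ≤ n) {u : fixS d σ} (hu : u ∈ unipU d σ) :
    ∃ (uP uO : fixS d σ) (hP : (uP : GL (Fin n) F) ∈ uni F n),
      (uO : GL (Fin n) F) ∈ uni F n ∧ BD k (uO : GL (Fin n) F).1 ∧
      prU k ⟨_, hP⟩ = 1 ∧ u = uP * uO := by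
  refine ⟨u * (⟨_, prU_mem_fixS hk (u := ⟨_, hu⟩) u.2⟩ : fixS d σ)⁻¹,
    ⟨_, prU_mem_fixS hk (u := ⟨_, hu⟩) u.2⟩, mul_mem hu (inv_mem (prU k ⟨_, hu⟩).2),
    (prU k ⟨_, hu⟩).2, bd_prU k _, ?_, (inv_mul_cancel_right _ _).symm⟩
  show prU k ((⟨_, hu⟩ : uni F n) * (prU k ⟨_, hu⟩)⁻¹) = 1
  rw [map_mul, map_inv, prU_prU, mul_inv_cancel]

/-- The double coset step. -/
theorem step {k : ℕ} (hk : 2 * k + 2 ≤ n) {s : fixS d σ}
    (hsπ : Mono (tPerm k hk) (s : GL (Fin n) F).1) {m : fixS d σ} (hmN : m ∈ monoN d σ)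
    {b : fixS d σ} (hb : b ∈ borel d σ) :
    s * b * m ∈ DoubleCoset.doubleCoset (s * m) (borel d σ : Set (fixS d σ)) (borel d σ) ∪
      DoubleCoset.doubleCoset m (borel d σ : Set (fixS d σ)) (borel d σ) := by
  obtain ⟨π, hπ⟩ := hmN
  obtain ⟨u, hu, h, hh, rfl⟩ := exists_decomp hb
  have hh' := mem_torus.1 hh
  obtain ⟨uP, uO, hPU, hOU, hObd, hP, rfl⟩ := exists_blk_split hk hu
  have hsP0 := conj_refl' hk hsπ hP
  have hsP : s * uP * s⁻¹ ∈ borel d σ := borel_conj hsP0
  have hsh : s * h * s⁻¹ ∈ borel d σ := by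
    refine upper_of_mono_one ?_
    have := mono_mul (mono_mul hsπ hh') (mono_tPerm_inv hk hsπ)
    rwa [mul_one, tPerm_sq] at this
  set n' := h * m with hn'
  have hn'π : Mono π (n' : GL (Fin n) F).1 := by
    have := mono_mul hh' hπ
    rwa [one_mul] at this
  have hsplit : s * (uP * uO * h) * m = (s * uP * s⁻¹) * (s * uO * n') := by
    rw [hn']; group
  rcases block_dichotomy hk (revC_of_mem hπ (mem_fixS.1 m.2).1).inv with ⟨-, hpos⟩ | ⟨-, hneg⟩
  · -- positive
    left
    have hc0 := conj_pos hn'π hOU hObd hpos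
    have hc : n'⁻¹ * uO * n' ∈ borel d σ := borel_conj' hc0
    refine DoubleCoset.mem_doubleCoset.2
      ⟨(s * uP * s⁻¹) * (s * h * s⁻¹), mul_mem hsP hsh, _, hc, ?_⟩
    rw [hsplit, hn']; group
  · by_cases hO : (uO : GL (Fin n) F) = 1
    · left
      refine DoubleCoset.mem_doubleCoset.2
        ⟨(s * uP * s⁻¹) * (s * h * s⁻¹), mul_mem hsP hsh, 1, one_mem _, ?_⟩
      rw [hsplit, hn', show uO = 1 from Subtype.ext hO]; group
    right
    set y := s * uO * s⁻¹ with hy
    have hny : (y : GL (Fin n) F) ∉ Cfsg.upperTriangularGL n F := fun hyu => by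
      refine hO (eq_one_of_refl hk (mono_tPerm_inv hk hsπ) hOU hObd ?_)
      rw [inv_inv]
      exact hyu
    have hbd : BUT k (y : GL (Fin n) F).1 := by
      intro i j hij
      have e := conj_apply (mono_tPerm_inv hk hsπ) (uO : GL (Fin n) F) i j
      rw [inv_inv] at e
      refine e.trans ?_
      rw [show (uO : GL (Fin n) F).1 (tPerm k hk i) (tPerm k hk j) = 0 from
        hObd _ _ (by rw [blk_tPerm, blk_tPerm]; exact hij.ne'), mul_zero, zero_mul]
    obtain ⟨a, ha, c, hc, r, hr, hrm, e⟩ := rank_one hk y.2 hbd hny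
    obtain ⟨cP, cO, hcPU, hcOU, hcObd, hcP1, hce⟩ :=
      exists_blk_split hk (u := (⟨c, hc.2⟩ : fixS d σ)) hc.1
    set R : fixS d σ := ⟨r, hr⟩ with hR
    have hRc0 := conj_refl' hk (m := r) hrm hcP1
    have hRc : R * cP * R⁻¹ ∈ borel d σ := borel_conj (s := R) hRc0
    have hsn : Mono (tPerm k hk * π) ((s * n' : fixS d σ) : GL (Fin n) F).1 :=
      mono_mul hsπ hn'π
    have hc' : (s * n')⁻¹ * cO * (s * n') ∈ borel d σ := by
      refine borel_conj' (s := s * n') (x := cO) ?_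
      refine conj_pos hsn hcOU hcObd fun i j hij hb => ?_
      rw [_root_.mul_inv_rev, tPerm_inv, Equiv.Perm.mul_apply, Equiv.Perm.mul_apply]
      exact hneg _ _ (tPerm_lt hk hij hb) (by rw [blk_tPerm, blk_tPerm, hb])
    have hRs : R * s ∈ borel d σ := by
      refine upper_of_mono_one ?_
      have := mono_mul (a := r) hrm hsπ
      rwa [tPerm_sq] at this
    refine DoubleCoset.mem_doubleCoset.2
      ⟨(s * uP * s⁻¹) * ⟨a, ha.2⟩ * (R * cP * R⁻¹) * (R * s) * h,
        mul_mem (mul_mem (mul_mem (mul_mem hsP (uni_le_upper ha.1)) hRc) hRs) hh.1, _, hc', ?_⟩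
    have ey : y = ⟨a, ha.2⟩ * R * (cP * cO) := by
      rw [← hce]; exact Subtype.ext e
    rw [hsplit, show s * uO * n' = y * (s * n') by rw [hy]; group, ey, hn']
    group

/-- The (B, N)-pair. -/
noncomputable def bnPair (C : Ctx d σ) : Cfsg.BNPair (fixS d σ) where
  B := borel d σ
  N := monoN d σ
  S := Set.range fun k : {k : ℕ // 2 * k + 2 ≤ n} => sRep C k.1 k.2
  sup_eq_top := by
    refine eq_top_iff.2 fun g _ => ?_
    obtain ⟨a, ha, c, hc, m, hm, π, hmono, -, e⟩ := exists_fixS_bruhat g.2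
    rw [show g = ⟨a, ha.2⟩ * ⟨m, hm⟩ * ⟨c, hc.2⟩ from Subtype.ext e]
    exact mul_mem (mul_mem (Subgroup.mem_sup_left (uni_le_upper ha.1))
      (Subgroup.mem_sup_right ⟨π, hmono⟩)) (Subgroup.mem_sup_left (uni_le_upper hc.1))
  conj_mem := by
    rintro m ⟨π, hπ⟩ t ht
    refine upper_of_mono_one ?_
    have := mono_mul (mono_mul hπ (mem_torus.1 ht)) (Mono.inv hπ)
    rwa [mul_one, mul_inv_cancel] at this
  subset := by
    rintro _ ⟨k, rfl⟩
    exact ⟨_, sRep_mono C k.2⟩
  sq_mem := by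
    rintro _ ⟨k, rfl⟩
    refine upper_of_mono_one ?_
    have := mono_mul (sRep_mono C k.2) (sRep_mono C k.2)
    rwa [tPerm_sq] at this
  inj := by
    rintro _ ⟨k, rfl⟩ _ ⟨l, rfl⟩ h
    have hm := mono_mul (mono_tPerm_inv k.2 (sRep_mono C k.2)) (sRep_mono C l.2)
    have e := perm_one_of_upper hm h
    rw [← tPerm_inv k.2, inv_mul_eq_one] at e
    obtain ⟨k, hk⟩ := k
    obtain ⟨l, hl⟩ := l
    obtain rfl : k = l := tPerm_inj hk hl e
    rfl
  closure_sup := by
    refine le_antisymm (sup_le ((Subgroup.closure_le _).2 ?_) inf_le_right) fun m hm => ?_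
    · rintro _ ⟨k, rfl⟩
      exact ⟨_, sRep_mono C k.2⟩
    · obtain ⟨π, hπ⟩ := hm
      obtain ⟨w, hw, hwπ⟩ := C.exists_word (revC_of_mem hπ (mem_fixS.1 m.2).1)
      rw [show m = w * (w⁻¹ * m) by group]
      refine mul_mem (Subgroup.mem_sup_left hw) (Subgroup.mem_sup_right (mem_torus.2 ?_))
      have := mono_mul (Mono.inv hwπ) hπ
      rwa [inv_mul_cancel] at this
  mul_mem_union := by
    rintro _ ⟨⟨k, hk⟩, rfl⟩ m hmN b hb
    exact step hk (sRep_mono C hk) hmN hb
  conj_ne := by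
    rintro _ ⟨⟨k, hk⟩, rfl⟩ h
    obtain ⟨u, hu, huf, hbd, hne⟩ := C.node k hk
    set s := sRep C k hk
    have hmem : (⟨u, huf⟩ : fixS d σ) ∈ borel d σ := uni_le_upper hu
    have h1 : s * ⟨u, huf⟩ * s ∈ borel d σ := h.subset (Set.mem_image_of_mem _ hmem)
    have hsq : s * s ∈ borel d σ := by
      refine upper_of_mono_one ?_
      have := mono_mul (sRep_mono C hk) (sRep_mono C hk)
      rwa [tPerm_sq] at this
    refine hne (eq_one_of_refl hk (mono_tPerm_inv hk (sRep_mono C hk)) hu hbd ?_)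
    rw [inv_inv]
    have h2 : s * ⟨u, huf⟩ * s⁻¹ ∈ borel d σ := by
      rw [show s * ⟨u, huf⟩ * s⁻¹ = (s * ⟨u, huf⟩ * s) * (s * s)⁻¹ by group]
      exact mul_mem h1 (inv_mem hsq)
    exact h2

/-- The split structure. -/
theorem split (C : Ctx d σ) (p : ℕ) [Fact p.Prime] [CharP F p] :
    CfsgLib.BNSteinberg.Split (bnPair C) p (unipU d σ) where
  le := fun _ hu => uni_le_upper hu
  normal := fun b hb u hu => by
    obtain ⟨v, hv, h, hh, rfl⟩ := exists_decomp hb
    rw [show v * h * u * (v * h)⁻¹ = v * (h * u * h⁻¹) * v⁻¹ by group]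
    exact mul_mem (mul_mem hv (diag_conj_uni (mem_torus.1 hh) hu)) (inv_mem hv)
  pgroup := fun u => ⟨n, Subtype.ext (Subtype.ext (Units.ext (by
    simpa using (mem_uni.1 u.2).pow_char (p := p))))⟩
  decomp := fun _ hb => exists_decomp hb
  torus := fun h hh k hk => by
    have hm := mem_torus.1 hh
    set c : Fin n → F := fun i => (h : GL (Fin n) F).1 i i
    have hd : (h : GL (Fin n) F).1 = Matrix.diagonal c := Matrix.ext fun i j => by
      by_cases e : i = j
      · subst e; rw [diagonal_apply_eq]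
      · rw [diagonal_apply_ne _ e]; exact hm i j e
    have hk' := congrArg (fun x : fixS d σ => (x : GL (Fin n) F).1) hk
    simp only [SubgroupClass.coe_pow, Units.val_pow_eq_pow_val, hd, Matrix.diagonal_pow,
      OneMemClass.coe_one, Units.val_one] at hk'
    refine Subtype.ext (Units.ext ?_)
    rw [hd, OneMemClass.coe_one, Units.val_one, ← Matrix.diagonal_one]
    congr 1
    funext i
    have hi : c i ^ p ^ k = 1 := by
      simpa using congrFun (congrFun hk' i) i
    have h2 : (c i - 1) ^ p ^ k = 0 := by rw [sub_pow_char_pow, one_pow, hi, sub_self]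
    exact sub_eq_zero.1 (pow_eq_zero_iff (pow_ne_zero _ (Fact.out : p.Prime).ne_zero) |>.1 h2)
  rankone := by
    rintro _ ⟨⟨k, hk⟩, rfl⟩ u hu e he hse
    set s := sRep C k hk
    obtain ⟨eP, eO, hePU, heOU, heObd, heP, rfl⟩ :=
      exists_blk_split hk (show e ∈ unipU d σ from he)
    have h20 := conj_refl hk (sRep_mono C hk) heP
    have h2 : s⁻¹ * eP * s ∈ borel d σ := borel_conj' (s := s) (x := eP) h20
    have h3 : s⁻¹ * eO * s ∈ borel d σ := by
      rw [show s⁻¹ * eO * s = (s⁻¹ * eP * s)⁻¹ * (s⁻¹ * (eP * eO) * s) by group]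
      exact mul_mem (inv_mem h2) hse
    have h3' : (s : GL (Fin n) F)⁻¹ * (eO : GL (Fin n) F) * (s : GL (Fin n) F) ∈
        Cfsg.upperTriangularGL n F := by
      simpa [borel, Subgroup.mem_subgroupOf] using h3
    have he1 : (eO : GL (Fin n) F) = 1 := eq_one_of_refl hk (sRep_mono C hk) heOU heObd h3'
    have hc : prU k ((⟨_, hu⟩ : uni F n) * ⟨_, hePU⟩ * (⟨_, hu⟩ : uni F n)⁻¹) = 1 := by
      rw [map_mul, map_mul, heP, mul_one, ← map_mul, mul_inv_cancel, map_one]
    have hc0 := conj_refl hk (sRep_mono C hk) hc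
    rw [show eP * eO = eP by rw [show eO = 1 from Subtype.ext he1, mul_one]]
    exact borel_conj' (s := s) (x := u * eP * u⁻¹) hc0
  opp := by
    obtain ⟨m, hm, hmr⟩ := C.exists_word (revC_rev (n := n))
    refine ⟨m, ⟨_, hmr⟩, fun u hu hB => Subtype.ext ?_⟩
    have h1 : (u : GL (Fin n) F) ∈ upat F ((1 : Equiv.Perm (Fin n)) * Fin.revPerm) := by
      refine mem_upat.2 fun i j hij => ?_
      rw [one_mul]
      have h0 := upper_zero hB hij
      have e := conj_apply hmr (u : GL (Fin n) F) i j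
      have h0' : ((m : GL (Fin n) F)⁻¹ * u * m).1 i j = 0 := h0
      rw [e] at h0'
      exact (mul_eq_zero.1 ((mul_eq_zero.1 h0').resolve_right (hmr.ne_zero j))).resolve_left
        (left_ne_zero_of_mul_eq_one (inv_mul_diag hmr i))
    exact eq_one_of_mem_upat hu h1 (mem_upat.2 fun i j hij => (mem_uni.1 hu).1 i j hij)

end CfsgLib.TwistBN
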