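/-
Elements of the simple nodes of a twist of `SL_n`.
-/
import Cfsg.Agent.Lib.TwistBN.Pair

set_option autoImplicit false
set_option linter.unusedSectionVars false

namespace CfsgLib.TwistBN

open Matrix CfsgLib.PronormalPSL CfsgLib.PronormalPSU CfsgLib.Fusion.UniTri

variable {F : Type*} [Field F] [Finite F] {n : ℕ} {d : Fin n → Fˣ} {σ : F ≃+* F}

theorem tgl_uni {i j : Fin n} (h : i < j) (c : F) : tgl h.ne c ∈ uni F n := by
  refine mem_uni.2 ⟨fun x y hxy => ?_, fun x => ?_⟩
  · rw [tgl_val, transvection, Matrix.add_apply, one_apply_ne hxy.ne', zero_add,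
      Matrix.single_apply, if_neg]
    rintro ⟨rfl, rfl⟩
    exact lt_asymm hxy h
  · rw [tgl_val, transvection, Matrix.add_apply, one_apply_eq, Matrix.single_apply, if_neg, add_zero]
    rintro ⟨rfl, rfl⟩
    exact h.ne rfl

theorem tgl_apply {i j : Fin n} (h : i ≠ j) (c : F) (x y : Fin n) :
    (tgl h c).1 x y = (if x = y then 1 else 0) + if x = i ∧ y = j then c else 0 := by
  rw [tgl_val, transvection, Matrix.add_apply, Matrix.one_apply, Matrix.single_apply]
  simp [eq_comm]

theorem tgl_inv {i j : Fin n} (h : i ≠ j) (c : F) : (tgl h c)⁻¹ = tgl h (-c) := by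
  refine inv_eq_of_mul_eq_one_right (Units.ext ?_)
  rw [Units.val_mul, tgl_val, tgl_val, transvection_mul_transvection_same _ _ h,
    add_neg_cancel, transvection_zero, Units.val_one]

theorem tgl_mul_apply {i j i' j' : Fin n} (h : i ≠ j) (h' : i' ≠ j') (hji : j ≠ i') (a b : F)
    (x y : Fin n) :
    (tgl h a * tgl h' b).1 x y = (if x = y then 1 else 0) + (if x = i ∧ y = j then a else 0) +
      if x = i' ∧ y = j' then b else 0 := by
  rw [Units.val_mul, tgl_val h a, CfsgLib.Fusion.UniTri.transvection_mul_apply, tgl_apply,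
    tgl_apply, if_neg (fun e : j = i' ∧ y = j' => hji e.1), add_zero]
  by_cases hx : x = i <;> by_cases hy : y = j
  · subst hx hy; simp [h]; ring
  · subst hx; simp [hy, Ne.symm hy]
  · simp [hx]
  · simp [hx]

theorem sign_fix (hsq : ∀ i, d i * d i = 1) (i : Fin n) : σ (d i : F) = d i := by
  have h : ((d i : F)) * (d i : F) = 1 := by rw [← Units.val_mul, hsq, Units.val_one]
  rcases mul_self_eq_one_iff.1 h with e | e <;> simp [e]

theorem th_eq_of_entries (hsq : ∀ i, d i * d i = 1) {g : GL (Fin n) F}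
    (h : ∀ i j, (d i : F) * σ ((g⁻¹).1 (Fin.rev j) (Fin.rev i)) * (d j : F) = g.1 i j) :
    th d σ g = g := Units.ext (Matrix.ext fun i j => by
  rw [th_apply, inv_eq_of_mul_eq_one_right (hsq j)]; exact h i j)

theorem long_mem (hsq : ∀ i, d i * d i = 1) {a : Fin n} (ha : a < Fin.rev a) {c : F}
    (hc : -((d a : F) * (d (Fin.rev a) : F)) * σ c = c) : tgl ha.ne c ∈ fixS d σ := by
  refine mem_fixS.2 ⟨th_eq_of_entries hsq fun i j => ?_, det_uni (tgl_uni ha c)⟩
  rw [tgl_inv, tgl_apply, tgl_apply, map_add]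
  have h1 : (Fin.rev j = a ∧ Fin.rev i = Fin.rev a) ↔ i = a ∧ j = Fin.rev a := by
    constructor
    · rintro ⟨rfl, e⟩; exact ⟨Fin.rev_injective e, (Fin.rev_rev j).symm⟩
    · rintro ⟨rfl, rfl⟩; exact ⟨Fin.rev_rev _, rfl⟩
  by_cases hij : i = j
  · subst hij
    have e1 : ¬(i = a ∧ i = Fin.rev a) := fun e => ha.ne (e.1.symm.trans e.2)
    rw [if_pos rfl, if_pos rfl, if_neg e1, if_neg (fun e => e1 (h1.1 e)), map_one, map_zero,
      add_zero, mul_one, ← Units.val_mul, hsq, Units.val_one]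
  rw [if_neg (fun e => hij (Fin.rev_injective e).symm), if_neg hij, map_zero, zero_add, zero_add,
    apply_ite σ, map_zero, map_neg]
  by_cases he : i = a ∧ j = Fin.rev a
  · rw [if_pos he, if_pos (h1.2 he), he.1, he.2]
    linear_combination hc
  · rw [if_neg he, if_neg (fun e => he (h1.1 e)), mul_zero, zero_mul]

theorem short_mem (hsq : ∀ i, d i * d i = 1) {a b : Fin n} (hab : a < b) (hb : b < Fin.rev b)
    (hdd : d a * d b * (d (Fin.rev b) * d (Fin.rev a)) = 1) :
    tgl hab.ne 1 * tgl (Fin.rev_lt_rev.2 hab).ne (-((d (Fin.rev b) : F) * (d (Fin.rev a) : F))) ∈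
      fixS d σ := by
  obtain ⟨c, hc⟩ : ∃ c : F, c = -((d (Fin.rev b) : F) * (d (Fin.rev a) : F)) := ⟨_, rfl⟩
  rw [← hc]
  have hbb : b ≠ Fin.rev b := hb.ne
  have hσc : σ c = c := by rw [hc, map_neg, map_mul, sign_fix hsq, sign_fix hsq]
  have hσnc : σ (-c) = -c := by rw [map_neg, hσc]
  have hσ1 : σ (-1) = -1 := by rw [map_neg, map_one]
  refine mem_fixS.2 ⟨th_eq_of_entries hsq fun i j => ?_,
    det_uni (mul_mem (tgl_uni hab 1) (tgl_uni (Fin.rev_lt_rev.2 hab) c))⟩
  have hne2 : Fin.rev a ≠ a := ((hab.trans hb).trans (Fin.rev_lt_rev.2 hab)).ne'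
  rw [_root_.mul_inv_rev, tgl_inv, tgl_inv, tgl_mul_apply _ _ hne2, tgl_mul_apply _ _ hbb,
    map_add, map_add]
  have h1 : ∀ x y : Fin n,
      (Fin.rev j = Fin.rev y ∧ Fin.rev i = Fin.rev x) ↔ i = x ∧ j = y := fun x y =>
    ⟨fun e => ⟨Fin.rev_injective e.2, Fin.rev_injective e.1⟩, by rintro ⟨rfl, rfl⟩; simp⟩
  have h2 : (Fin.rev j = a ∧ Fin.rev i = b) ↔ i = Fin.rev b ∧ j = Fin.rev a := by
    rw [← h1, Fin.rev_rev, Fin.rev_rev]
  rw [apply_ite σ, apply_ite σ, apply_ite σ, map_one, map_zero, hσnc, hσ1]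
  by_cases hij : i = j
  · subst hij
    have e1 : ¬(i = a ∧ i = b) := fun e => hab.ne (e.1.symm.trans e.2)
    have e2 : ¬(i = Fin.rev b ∧ i = Fin.rev a) := fun e =>
      hab.ne' (Fin.rev_injective (e.1.symm.trans e.2))
    rw [if_pos rfl, if_pos rfl, if_neg e1, if_neg e2, if_neg (fun e => e1 ((h1 a b).1 e)),
      if_neg (fun e => e2 (h2.1 e)), add_zero, add_zero, mul_one, ← Units.val_mul, hsq,
      Units.val_one]
  rw [if_neg (fun e => hij (Fin.rev_injective e).symm), if_neg hij, zero_add, zero_add]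
  by_cases he : i = a ∧ j = b
  · have he' : ¬(i = Fin.rev b ∧ j = Fin.rev a) := fun e =>
      (hab.trans hb).ne (he.1.symm.trans e.1)
    rw [if_pos he, if_neg he', if_pos ((h1 a b).2 he), if_neg (fun e => he' (h2.1 e)), he.1, he.2,
      add_zero, add_zero, hc, neg_neg]
    have := congrArg Units.val hdd
    push_cast at this
    linear_combination this
  · rw [if_neg he, if_neg (fun e => he ((h1 a b).1 e))]
    by_cases he' : i = Fin.rev b ∧ j = Fin.rev a
    · rw [if_pos he', if_pos (h2.2 he'), he'.1, he'.2, zero_add, zero_add, hc]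
      ring
    · rw [if_neg he', if_neg (fun e => he' (h2.1 e))]
      ring

theorem node_short (hsq : ∀ i, d i * d i = 1)
    (hpair : ∀ a b : Fin n, b.val = a.val + 1 → b < Fin.rev b →
      d a * d b * (d (Fin.rev b) * d (Fin.rev a)) = 1) {k : ℕ} (hn : 2 * k + 4 ≤ n) :
    ∃ u ∈ uni F n, u ∈ fixS d σ ∧ BD k u.1 ∧ u ≠ 1 := by
  have hk : 2 * k + 2 ≤ n := by omega
  set a : Fin n := ⟨k, by omega⟩ with hA
  have va : a.val = k := rfl
  set b : Fin n := ⟨k + 1, by omega⟩ with hB
  have vb : b.val = k + 1 := rfl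
  have hab : a < b := Fin.lt_def.2 (by omega)
  have hb : b < Fin.rev b := Fin.lt_def.2 (by rw [Fin.val_rev]; omega)
  refine ⟨_, mul_mem (tgl_uni hab 1)
    (tgl_uni (Fin.rev_lt_rev.2 hab) (-((d (Fin.rev b) : F) * (d (Fin.rev a) : F)))),
    short_mem hsq hab hb (hpair a b rfl hb), fun i j hij => ?_, fun h => ?_⟩
  · rw [tgl_mul_apply _ _ hb.ne, if_neg (fun e => hij (by rw [e])), if_neg, if_neg]
    · simp
    · rintro ⟨rfl, rfl⟩
      exact hij ((blk_rev_iff hk _ _).2 (blk_node hk).symm)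
    · rintro ⟨rfl, rfl⟩
      exact hij (blk_node hk)
  · have e := congrArg (fun g : GL (Fin n) F => g.1 a b) h
    have hb' : ¬(a = Fin.rev b ∧ b = Fin.rev a) := fun e' => (hab.trans hb).ne e'.1
    simp only [tgl_mul_apply _ _ hb.ne, if_neg hab.ne, and_self, if_true, if_neg hb',
      Units.val_one, one_apply_ne hab.ne, zero_add, add_zero] at e
    exact one_ne_zero e

theorem Ctx.of (hsq : ∀ i, d i * d i = 1)
    (hpair : ∀ a b : Fin n, b.val = a.val + 1 → b < Fin.rev b →
      d a * d b * (d (Fin.rev b) * d (Fin.rev a)) = 1)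
    (hlong : ∀ a : Fin n, a < Fin.rev a → ∃ c : F, c ≠ 0 ∧
      -((d a : F) * (d (Fin.rev a) : F)) * σ c = c) : Ctx d σ where
  sq := hsq
  node k hk := by
    set a : Fin n := ⟨k, by omega⟩ with hA
    have va : a.val = k := rfl
    by_cases hn : 2 * k + 4 ≤ n
    · exact node_short hsq hpair hn
    · have ha : a < Fin.rev a := Fin.lt_def.2 (by rw [Fin.val_rev]; omega)
      obtain ⟨c, hc0, hc⟩ := hlong a ha
      refine ⟨_, tgl_uni ha c, long_mem hsq ha hc, fun i j hij => ?_, fun h => ?_⟩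
      · rw [tgl_apply, if_neg (fun e => hij (by rw [e])), if_neg, add_zero]
        rintro ⟨rfl, rfl⟩
        refine hij ?_
        rw [blk_eq_iff hk, Fin.val_rev]
        omega
      · have e := congrArg (fun g : GL (Fin n) F => g.1 a (Fin.rev a)) h
        simp only [tgl_apply, if_neg ha.ne, and_self, if_true, Units.val_one, one_apply_ne ha.ne,
          zero_add] at e
        exact hc0 e

end CfsgLib.TwistBN
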