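/-
The special unitary and symplectic groups as fixed points of twists.
-/
import Cfsg.Agent.Lib.TwistBN.Node
import Cfsg.Agent.Lib.TwistBN.Central
import Cfsg.Agent.Lib.PronormalPSU.Even

set_option autoImplicit false
set_option linter.unusedSectionVars false
set_option linter.style.haveILetI false

namespace CfsgLib.TwistBN

open Matrix CfsgLib.PronormalPSL CfsgLib.PronormalPSU CfsgLib.UnitarySpec

variable {F : Type*} [Field F] [Finite F] {n : ℕ}

/-- The Gram matrix of a twist. -/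
def gram (d : Fin n → Fˣ) : Matrix (Fin n) (Fin n) F :=
  Matrix.of fun i j => if j = Fin.rev i then (d i : F) else 0

theorem gram_mul (d : Fin n → Fˣ) (A : Matrix (Fin n) (Fin n) F) (i j : Fin n) :
    (gram d * A) i j = (d i : F) * A (Fin.rev i) j := by
  rw [Matrix.mul_apply, Finset.sum_eq_single (Fin.rev i)]
  · simp [gram]
  · intro z _ hz; rw [gram, Matrix.of_apply, if_neg hz, zero_mul]
  · simp

theorem mul_gram (d : Fin n → Fˣ) (A : Matrix (Fin n) (Fin n) F) (i j : Fin n) :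
    (A * gram d) i j = A i (Fin.rev j) * (d (Fin.rev j) : F) := by
  rw [Matrix.mul_apply, Finset.sum_eq_single (Fin.rev j)]
  · simp [gram]
  · intro z _ hz
    rw [gram, Matrix.of_apply, if_neg (fun e => hz (by rw [e, Fin.rev_rev])), mul_zero]
  · simp

theorem th_eq_iff (d : Fin n → Fˣ) (σ : F ≃+* F) (g : GL (Fin n) F) :
    th d σ g = g ↔ g.1 * gram d * (g.1.map σ)ᵀ = gram d := by
  have hmm : ∀ A B : Matrix (Fin n) (Fin n) F, (A * B).map σ = A.map σ * B.map σ :=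
    fun A B => Matrix.map_mul (f := σ.toRingHom)
  have hinv : ((g⁻¹).1.map σ)ᵀ * (g.1.map σ)ᵀ = 1 := by
    rw [← transpose_mul, ← hmm, g.mul_inv,
      Matrix.map_one _ (map_zero σ) (map_one σ), transpose_one]
  have key : th d σ g = g ↔ gram d * ((g⁻¹).1.map σ)ᵀ = g.1 * gram d := by
    constructor
    · intro h
      refine Matrix.ext fun i j => ?_
      have e := congrArg (fun x : GL (Fin n) F => x.1 i (Fin.rev j)) h
      rw [th_apply, Fin.rev_rev] at e
      rw [gram_mul, mul_gram, transpose_apply, map_apply, ← e, mul_assoc, ← Units.val_mul,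
        inv_mul_cancel, Units.val_one, mul_one]
    · intro h
      refine Units.ext (Matrix.ext fun i j => ?_)
      have e := congrFun (congrFun h i) (Fin.rev j)
      rw [gram_mul, mul_gram, transpose_apply, map_apply, Fin.rev_rev] at e
      rw [th_apply, e, Units.mul_inv_cancel_right]
  rw [key]
  constructor
  · intro h
    rw [← h, Matrix.mul_assoc, hinv, Matrix.mul_one]
  · intro h
    conv_lhs => rw [← h]
    rw [Matrix.mul_assoc, Matrix.mul_assoc]
    congr 1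
    have : (g.1.map σ)ᵀ * ((g⁻¹).1.map σ)ᵀ = 1 := by
      rw [← transpose_mul, ← hmm, g.inv_mul,
        Matrix.map_one _ (map_zero σ) (map_one σ), transpose_one]
    rw [this, Matrix.mul_one]

theorem isU_conj_iff {σ : F ≃+* F} {X : GL (Fin n) F}
    (hX : X.1ᵀ * antiJ F n * X.1.map σ = 1) : ∀ A : Matrix (Fin n) (Fin n) F,
    IsU σ 1 A ↔ IsU σ (antiJ F n) (X.1 * A * (X⁻¹).1) := by
  have hmm : ∀ A B : Matrix (Fin n) (Fin n) F, (A * B).map σ = A.map σ * B.map σ :=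
    fun A B => Matrix.map_mul (f := σ.toRingHom)
  intro A
  have hJ : antiJ F n = (X⁻¹).1ᵀ * (X⁻¹).1.map σ := by
    calc antiJ F n = (X.1 * (X⁻¹).1)ᵀ * antiJ F n * (X.1 * (X⁻¹).1).map σ := by
          rw [X.mul_inv, transpose_one, Matrix.map_one _ (map_zero σ) (map_one σ), Matrix.one_mul,
            Matrix.mul_one]
      _ = (X⁻¹).1ᵀ * (X.1ᵀ * antiJ F n * X.1.map σ) * (X⁻¹).1.map σ := by
          rw [transpose_mul, hmm]; simp only [Matrix.mul_assoc]
      _ = _ := by rw [hX, Matrix.mul_one]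
  have e : (X.1 * A * (X⁻¹).1)ᵀ * antiJ F n * (X.1 * A * (X⁻¹).1).map σ =
      (X⁻¹).1ᵀ * (Aᵀ * 1 * A.map σ) * (X⁻¹).1.map σ := by
    rw [transpose_mul, transpose_mul, hmm, hmm]
    calc _ = (X⁻¹).1ᵀ * (Aᵀ * (X.1ᵀ * antiJ F n * X.1.map σ) * A.map σ) * (X⁻¹).1.map σ := by
          simp only [Matrix.mul_assoc]
      _ = _ := by rw [hX]
  constructor
  · intro h
    show _ = _
    rw [e, show Aᵀ * 1 * A.map σ = 1 from h, Matrix.mul_one, ← hJ]
  · intro h
    show Aᵀ * 1 * A.map σ = 1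
    have h' : (X⁻¹).1ᵀ * (Aᵀ * 1 * A.map σ) * (X⁻¹).1.map σ = (X⁻¹).1ᵀ * (X⁻¹).1.map σ := by
      rw [← e, ← hJ]; exact h
    have h1 : X.1ᵀ * (X⁻¹).1ᵀ = 1 := by rw [← transpose_mul, X.inv_mul, transpose_one]
    have h2 : (X⁻¹).1.map σ * X.1.map σ = 1 := by
      rw [← hmm, X.inv_mul, Matrix.map_one _ (map_zero σ) (map_one σ)]
    have h'' := congrArg (fun M => X.1ᵀ * M * X.1.map σ) h'
    calc Aᵀ * 1 * A.map σ
        = (X.1ᵀ * (X⁻¹).1ᵀ) * (Aᵀ * 1 * A.map σ) * ((X⁻¹).1.map σ * X.1.map σ) := by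
          rw [h1, h2, Matrix.one_mul (Aᵀ * 1 * A.map σ), Matrix.mul_one (Aᵀ * 1 * A.map σ)]
      _ = X.1ᵀ * ((X⁻¹).1ᵀ * (X⁻¹).1.map σ) * X.1.map σ := by
          simp only [Matrix.mul_assoc] at h'' ⊢
          exact h''
      _ = (X.1ᵀ * (X⁻¹).1ᵀ) * ((X⁻¹).1.map σ * X.1.map σ) := by simp only [Matrix.mul_assoc]
      _ = 1 := by rw [h1, h2, Matrix.one_mul]

theorem su_equiv [Fintype F] {q : ℕ} (hF : Fintype.card F = q ^ 2) :
    ∃ (d : Fin n → Fˣ) (σ : F ≃+* F), Ctx d σ ∧ Nonempty (Cfsg.SU n F q ≃* fixS d σ) := by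
  obtain ⟨σ₀, hσ₀, hinv, hne₀⟩ := CfsgLib.Classical.exists_qPow hF
  let σ : F ≃+* F := RingEquiv.ofBijective σ₀ ⟨σ₀.injective, fun a => ⟨σ₀ a, hinv a⟩⟩
  have hσ : ∀ a, σ a = a ^ q := hσ₀
  have hne : σ ≠ RingEquiv.refl F := fun h => hne₀ (RingHom.ext fun a => RingEquiv.congr_fun h a)
  set d : Fin n → Fˣ := 1 with hd
  have hC : Ctx d σ := Ctx.of (fun i => by simp [hd]) (fun a b _ _ => by simp [hd]) fun a _ => by
    obtain ⟨x, hx⟩ : ∃ x, σ x ≠ x := by
      by_contra h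
      push Not at h
      exact hne (RingEquiv.ext h)
    refine ⟨x - σ x, sub_ne_zero.2 (Ne.symm hx), ?_⟩
    rw [map_sub, show σ (σ x) = x from hinv x]
    simp [hd]
  obtain ⟨X, hX⟩ := exists_congr_one (σ := σ) hinv hne (H := antiJ F n)
    (by rw [antiJ_transpose, antiJ_map])
    (fun h => by
      have := congrArg Matrix.det (antiJ_sq (F := F) (n := n))
      rw [det_mul, h, zero_mul, det_one] at this
      exact zero_ne_one this)
  let ψ : Cfsg.SU n F q →* GL (Fin n) F := (MulAut.conj X).toMonoidHom.comp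
    (SpecialLinearGroup.toGL.comp (Cfsg.SU n F q).subtype)
  have hψinj : Function.Injective ψ := (MulAut.conj X).injective.comp
    (SpecialLinearGroup.toGL_injective.comp (Subgroup.subtype_injective _))
  have hψval : ∀ s, (ψ s).1 = X.1 * s.1.1 * (X⁻¹).1 := fun s => rfl
  have htr := isU_conj_iff (σ := σ) hX
  have hfix : ∀ g : GL (Fin n) F, g ∈ fixS d σ ↔ IsU σ (antiJ F n) g.1 ∧ g.1.det = 1 := fun g => by
    rw [mem_fixS, ← mem_fixG_iff hinv, mem_fixG]
    refine and_congr_left' ?_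
    have : th d σ g = tw σ g := Units.ext (Matrix.ext fun i j => by
      rw [th_apply, tw_apply]; simp [hd])
    rw [this]
  have hψmem : ∀ s, ψ s ∈ fixS d σ := fun s => (hfix _).2 ⟨by
    rw [hψval]; exact (htr _).1 ((mem_SU_iff hσ s.1).1 s.2), by
    rw [hψval, det_units_conj]; exact s.1.2⟩
  let f : Cfsg.SU n F q →* fixS d σ := ψ.codRestrict (fixS d σ) hψmem
  have hf : Function.Bijective f := by
    refine ⟨fun a b h => hψinj (congrArg Subtype.val h), fun g => ?_⟩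
    obtain ⟨hU, hdet⟩ := (hfix _).1 g.2
    have h1 : ((X⁻¹).1 * g.1.1 * X.1).det = 1 := by rw [det_units_conj']; exact hdet
    have e : X.1 * ((X⁻¹).1 * g.1.1 * X.1) * (X⁻¹).1 = g.1.1 := by
      rw [← Units.val_mul, ← Units.val_mul, ← Units.val_mul, ← Units.val_mul]
      congr 1
      group
    obtain ⟨s, hs⟩ := exists_su hσ _ h1 ((htr _).2 (e.symm ▸ hU))
    exact ⟨s, Subtype.ext (Units.ext (by show (ψ s).1 = _; rw [hψval, hs]; exact e))⟩
  exact ⟨d, σ, hC, ⟨MulEquiv.ofBijective f hf⟩⟩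

theorem psu_steinberg [Fintype F] {q : ℕ} (p : ℕ) [Fact p.Prime] [CharP F p]
    (hF : Fintype.card F = q ^ 2) :
    ∃ χ : Cfsg.PSU n F q → ℂ, Cfsg.IsIrrCharacter (Cfsg.PSU n F q) χ ∧
      ∀ Q : Sylow p (Cfsg.PSU n F q), χ 1 = Nat.card Q ∧
        ∀ x : Cfsg.PSU n F q, x ∈ Q → x ≠ 1 → χ x = 0 := by
  obtain ⟨d, σ, hC, ⟨e⟩⟩ := su_equiv (n := n) hF
  exact (split hC p).exists_quot_center e

end CfsgLib.TwistBN
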