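/-
The symplectic groups as fixed points of twists.
-/
import Cfsg.Agent.Lib.TwistBN.Instances

set_option autoImplicit false
set_option linter.unusedSectionVars false

namespace CfsgLib.TwistBN

open Matrix CfsgLib.PronormalPSL CfsgLib.PronormalPSU

variable {F : Type*} [Field F] {m : ℕ}

/-- The pairing of the two halves. -/
def halves (m : ℕ) : Fin m ⊕ Fin m ≃ Fin (2 * m) where
  toFun := Sum.elim (fun i => ⟨i.val, by omega⟩) (fun i => ⟨2 * m - 1 - i.val, by omega⟩)
  invFun j := if h : j.val < m then Sum.inl ⟨j.val, h⟩ else Sum.inr ⟨2 * m - 1 - j.val, by omega⟩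
  left_inv x := by
    rcases x with i | i
    · simp [i.isLt]
    · have h : ¬ (2 * m - 1 - i.val < m) := by have := i.isLt; omega
      show (if h : (2 * m - 1 - i.val) < m then _ else _) = _
      rw [dif_neg h]
      exact congrArg Sum.inr (Fin.ext (by show 2 * m - 1 - (2 * m - 1 - i.val) = i.val; omega))
  right_inv j := by
    by_cases h : j.val < m
    · simp [h]
    · simp only [dif_neg h, Sum.elim_inr]
      exact Fin.ext (by show 2 * m - 1 - (2 * m - 1 - j.val) = j.val; omega)

variable (F) in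
/-- The signs. -/
def spD (m : ℕ) : Fin (2 * m) → Fˣ := fun i => if i.val < m then -1 else 1

theorem gram_spD : gram (spD F m) = Matrix.reindex (halves m) (halves m) (Matrix.J (Fin m) F) := by
  refine Matrix.ext fun i j => ?_
  obtain ⟨x, rfl⟩ := (halves m).surjective i
  obtain ⟨y, rfl⟩ := (halves m).surjective j
  rw [Matrix.reindex_apply, Matrix.submatrix_apply, Equiv.symm_apply_apply, Equiv.symm_apply_apply,
    gram, Matrix.of_apply, Matrix.J]
  have hl : ∀ i : Fin m, (spD F m (halves m (Sum.inl i)) : F) = -1 := fun i => by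
    have : (halves m (Sum.inl i)).val < m := i.isLt
    simp [spD, this]
  have hr : ∀ i : Fin m, (spD F m (halves m (Sum.inr i)) : F) = 1 := fun i => by
    have : ¬ (halves m (Sum.inr i)).val < m := by
      show ¬ 2 * m - 1 - i.val < m
      have := i.isLt; omega
    simp [spD, this]
  have vl : ∀ i : Fin m, (halves m (Sum.inl i)).val = i.val := fun _ => rfl
  have vr : ∀ i : Fin m, (halves m (Sum.inr i)).val = 2 * m - 1 - i.val := fun _ => rfl
  rcases x with i | i <;> rcases y with j | j <;>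
    · have := i.isLt
      have := j.isLt
      simp only [hl, hr, Fin.ext_iff, Fin.val_rev, vl, vr, Matrix.fromBlocks_apply₁₁,
        Matrix.fromBlocks_apply₁₂, Matrix.fromBlocks_apply₂₁, Matrix.fromBlocks_apply₂₂,
        Matrix.zero_apply, Matrix.neg_apply, Matrix.one_apply]
      split_ifs <;> first
        | omega
        | simp

theorem sp_equiv [Fintype F] (m : ℕ) :
    ∃ d : Fin (2 * m) → Fˣ, Ctx d (RingEquiv.refl F) ∧
      Nonempty (Matrix.symplecticGroup (Fin m) F ≃* fixS d (RingEquiv.refl F)) := by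
  classical
  set d := spD F m with hd
  have hsq : ∀ i, d i * d i = 1 := fun i => by
    show spD F m i * spD F m i = 1
    unfold spD; split_ifs <;> simp
  have hC : Ctx d (RingEquiv.refl F) := Ctx.of hsq
    (fun a b hab hb => by
      rw [Fin.lt_def, Fin.val_rev] at hb
      show spD F m a * spD F m b * (spD F m (Fin.rev b) * spD F m (Fin.rev a)) = 1
      simp only [spD, Fin.val_rev]
      split_ifs <;> first
        | omega
        | simp)
    (fun a ha => ⟨1, one_ne_zero, by
      rw [Fin.lt_def, Fin.val_rev] at ha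
      have h1 : a.val < m := by omega
      have h2 : ¬ (2 * m - (a.val + 1) < m) := by omega
      simp [hd, spD, Fin.val_rev, h1, h2]⟩)
  let R := Matrix.reindexAlgEquiv F F (halves m)
  have hR : ∀ A, R A = Matrix.reindex (halves m) (halves m) A := fun A => rfl
  let ψ : Matrix.symplecticGroup (Fin m) F →* GL (Fin (2 * m)) F :=
    ((R : Matrix (Fin m ⊕ Fin m) (Fin m ⊕ Fin m) F →* Matrix (Fin (2 * m)) (Fin (2 * m)) F).comp
      (Matrix.symplecticGroup (Fin m) F).subtype).toHomUnits
  have hψval : ∀ s, (ψ s).1 = R s.1 := fun s => rfl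
  have hfix : ∀ g : GL (Fin (2 * m)) F, g ∈ fixS d (RingEquiv.refl F) ↔
      R.symm g.1 ∈ Matrix.symplecticGroup (Fin m) F := fun g => by
    obtain ⟨A, hA⟩ : ∃ A, g.1 = R A := ⟨R.symm g.1, (R.apply_symm_apply _).symm⟩
    have e1 : R A * gram d * (R A)ᵀ = R (A * Matrix.J (Fin m) F * Aᵀ) := by
      rw [map_mul, map_mul, hR Aᵀ, Matrix.reindex_apply, ← Matrix.transpose_submatrix,
        ← Matrix.reindex_apply, ← hR, hR (Matrix.J (Fin m) F), ← gram_spD]
    rw [mem_fixS, th_eq_iff, RingEquiv.coe_refl, Matrix.map_id, hA, R.symm_apply_apply,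
      SymplecticGroup.mem_iff, e1, hd, gram_spD, ← hR, R.injective.eq_iff]
    refine ⟨fun h => h.1, fun h => ⟨h, ?_⟩⟩
    rw [hR, Matrix.reindex_apply, Matrix.det_submatrix_equiv_self,
      SymplecticGroup.det_eq_one (SymplecticGroup.mem_iff.2 h)]
  have hψmem : ∀ s, ψ s ∈ fixS d (RingEquiv.refl F) := fun s => (hfix _).2 (by
    rw [hψval, R.symm_apply_apply]; exact s.2)
  let f : Matrix.symplecticGroup (Fin m) F →* fixS d (RingEquiv.refl F) :=
    ψ.codRestrict _ hψmem
  have hf : Function.Bijective f := by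
    refine ⟨fun a b h => Subtype.ext (R.injective ?_), fun g => ?_⟩
    · exact congrArg (fun x : fixS d (RingEquiv.refl F) => (x : GL (Fin (2 * m)) F).1) h
    · exact ⟨⟨_, (hfix _).1 g.2⟩, Subtype.ext (Units.ext (R.apply_symm_apply _))⟩
  exact ⟨d, hC, ⟨MulEquiv.ofBijective f hf⟩⟩

theorem psp_steinberg [Fintype F] (p : ℕ) [Fact p.Prime] [CharP F p] (m : ℕ) :
    ∃ χ : Cfsg.PSp m F → ℂ, Cfsg.IsIrrCharacter (Cfsg.PSp m F) χ ∧
      ∀ Q : Sylow p (Cfsg.PSp m F), χ 1 = Nat.card Q ∧
        ∀ x : Cfsg.PSp m F, x ∈ Q → x ≠ 1 → χ x = 0 := by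
  obtain ⟨d, hC, ⟨e⟩⟩ := sp_equiv (F := F) m
  exact (split hC p).exists_quot_center e

end CfsgLib.TwistBN
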