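/-
The hyperbolic orthogonal group inside the fixed points of the untwisted transpose inverse.
-/
import Cfsg.Agent.Lib.TwistBN.PlusPerm
import Cfsg.Agent.Lib.TwistBN.Symplectic

set_option autoImplicit false
set_option linter.unusedSectionVars false

namespace CfsgLib.TwistBN.Plus

open Matrix CfsgLib.PronormalPSL CfsgLib.PronormalPSU CfsgLib.Fusion.UniTri CfsgLib.GLUnipotent

variable {F : Type*} [Field F] [Finite F] {m : ℕ}

/-- The hyperbolic form in antidiagonal coordinates. -/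
def QS (v : Fin (2 * m) → F) : F := Cfsg.quadFormPlus m F (v ∘ halves m)

variable (F m) in
/-- The isometry group. -/
def oGL : Subgroup (GL (Fin (2 * m)) F) := Cfsg.isometryGroup F (QS (F := F) (m := m))

theorem mem_oGL {g : GL (Fin (2 * m)) F} : g ∈ oGL F m ↔ ∀ v, QS (g.1 *ᵥ v) = QS v :=
  ⟨fun h v => h v v, fun h u _ => h u⟩

/-- The polar form. -/
def PB (u v : Fin (2 * m) → F) : F := u ⬝ᵥ (gram (1 : Fin (2 * m) → Fˣ) *ᵥ v)

theorem gram_one_mulVec (v : Fin (2 * m) → F) (i : Fin (2 * m)) :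
    (gram (1 : Fin (2 * m) → Fˣ) *ᵥ v) i = v (Fin.rev i) := by
  simp [Matrix.mulVec, dotProduct, gram]

theorem rev_halves_inl (i : Fin m) : Fin.rev (halves m (Sum.inl i)) = halves m (Sum.inr i) :=
  Fin.ext (by rw [Fin.val_rev]; show 2 * m - (i.val + 1) = 2 * m - 1 - i.val; omega)

theorem rev_halves_inr (i : Fin m) : Fin.rev (halves m (Sum.inr i)) = halves m (Sum.inl i) := by
  rw [← rev_halves_inl, Fin.rev_rev]

theorem QS_add (u v : Fin (2 * m) → F) : QS (u + v) = QS u + QS v + PB u v := by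
  have h : PB u v = ∑ i : Fin m, (u (halves m (Sum.inl i)) * v (halves m (Sum.inr i)) +
      u (halves m (Sum.inr i)) * v (halves m (Sum.inl i))) := by
    simp only [PB, dotProduct, gram_one_mulVec]
    rw [← (halves m).sum_comp, Fintype.sum_sum_type, Finset.sum_add_distrib]
    congr 1 <;> refine Finset.sum_congr rfl fun i _ => ?_
    · rw [rev_halves_inl]
    · rw [rev_halves_inr]
  simp only [QS, Cfsg.quadFormPlus, Function.comp_apply, Pi.add_apply, h, ← Finset.sum_add_distrib]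
  exact Finset.sum_congr rfl fun i _ => by ring

theorem QS_smul (x : F) (v : Fin (2 * m) → F) : QS (x • v) = x * x * QS v := by
  simp only [QS, Cfsg.quadFormPlus, Function.comp_apply, Pi.smul_apply, smul_eq_mul, Finset.mul_sum]
  exact Finset.sum_congr rfl fun i _ => by ring

theorem QS_eq_zero {v : Fin (2 * m) → F} (h : ∀ y, y.val < m → v y = 0 ∨ v (Fin.rev y) = 0) :
    QS v = 0 := by
  unfold QS Cfsg.quadFormPlus
  refine Finset.sum_eq_zero fun i _ => ?_
  rcases h (halves m (Sum.inl i)) i.isLt with e | e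
  · show v (halves m (Sum.inl i)) * _ = 0
    rw [e, zero_mul]
  · show _ * v (halves m (Sum.inr i)) = 0
    rw [← rev_halves_inl, e, mul_zero]

theorem QS_zero : QS (0 : Fin (2 * m) → F) = 0 := QS_eq_zero fun _ _ => Or.inl rfl

theorem QS_single (j : Fin (2 * m)) (x : F) : QS (Pi.single j x) = 0 := by
  refine QS_eq_zero fun y hy => ?_
  by_cases e : y = j
  · refine Or.inr (Pi.single_eq_of_ne ?_ _)
    intro e'
    have := congrArg Fin.val (e'.trans e.symm)
    rw [Fin.val_rev] at this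
    omega
  · exact Or.inl (Pi.single_eq_of_ne e _)

theorem th_one_iff {g : GL (Fin (2 * m)) F} :
    th 1 (RingEquiv.refl F) g = g ↔
      g.1ᵀ * gram (1 : Fin (2 * m) → Fˣ) * g.1 = gram (1 : Fin (2 * m) → Fˣ) := by
  have hJJ : gram (1 : Fin (2 * m) → Fˣ) * gram (1 : Fin (2 * m) → Fˣ) =
      (1 : Matrix (Fin (2 * m)) (Fin (2 * m)) F) := by
    refine Matrix.ext fun i j => ?_
    rw [gram_mul]
    simp [gram, Matrix.one_apply, eq_comm]
  rw [th_eq_iff, RingEquiv.coe_refl, Matrix.map_id]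
  set J := gram (1 : Fin (2 * m) → Fˣ) (F := F) with hJdef
  constructor
  · intro h
    have h1 : g.1 * (J * g.1ᵀ * J) = 1 := by
      rw [← Matrix.mul_assoc, ← Matrix.mul_assoc, h, hJJ]
    have h2 : J * g.1ᵀ * J * g.1 = 1 := mul_eq_one_comm.1 h1
    calc g.1ᵀ * J * g.1 = J * (J * g.1ᵀ * J * g.1) := by
          simp only [← Matrix.mul_assoc, hJJ, Matrix.one_mul]
      _ = J := by rw [h2, Matrix.mul_one]
  · intro h
    have h1 : J * g.1ᵀ * J * g.1 = 1 := by
      rw [Matrix.mul_assoc, Matrix.mul_assoc, ← Matrix.mul_assoc g.1ᵀ, h, hJJ]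
    have h2 : g.1 * (J * g.1ᵀ * J) = 1 := mul_eq_one_comm.1 h1
    calc g.1 * J * g.1ᵀ = g.1 * (J * g.1ᵀ * J) * J := by
          simp only [Matrix.mul_assoc, hJJ, Matrix.mul_one]
      _ = J := by rw [h2, Matrix.one_mul]

theorem PB_mul {g : GL (Fin (2 * m)) F} (u v : Fin (2 * m) → F) :
    PB (g.1 *ᵥ u) (g.1 *ᵥ v) =
      u ⬝ᵥ ((g.1ᵀ * gram (1 : Fin (2 * m) → Fˣ) * g.1) *ᵥ v) := by
  rw [PB, ← Matrix.mulVec_mulVec, ← Matrix.mulVec_mulVec, dotProduct_mulVec u g.1ᵀ,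
    Matrix.vecMul_transpose]

theorem mem_oGL_iff {g : GL (Fin (2 * m)) F} :
    g ∈ oGL F m ↔ th 1 (RingEquiv.refl F) g = g ∧ ∀ j, QS (fun i => g.1 i j) = 0 := by
  have hcol : ∀ j, g.1 *ᵥ Pi.single j 1 = fun i => g.1 i j := fun j => by
    rw [Matrix.mulVec_single_one]; rfl
  rw [mem_oGL]
  constructor
  · intro h
    have hB : ∀ u v, PB (g.1 *ᵥ u) (g.1 *ᵥ v) = PB u v := fun u v => by
      have e := QS_add (g.1 *ᵥ u) (g.1 *ᵥ v)
      rw [← Matrix.mulVec_add, h, h, h, QS_add] at e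
      linear_combination -e
    refine ⟨th_one_iff.2 (Matrix.ext fun i j => ?_), fun j => by rw [← hcol, h, QS_single]⟩
    have e := hB (Pi.single i 1) (Pi.single j 1)
    rw [PB_mul] at e
    simpa [PB, Matrix.mulVec_single_one] using e
  · rintro ⟨h1, h2⟩ v
    have hB : ∀ u w, PB (g.1 *ᵥ u) (g.1 *ᵥ w) = PB u w := fun u w => by
      rw [PB_mul, th_one_iff.1 h1]; rfl
    let D : (Fin (2 * m) → F) →+ F :=
      AddMonoidHom.mk' (fun w => QS (g.1 *ᵥ w) - QS w) fun u w => by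
        rw [Matrix.mulVec_add, QS_add, QS_add, hB]; ring
    have hD : ∀ j x, D (Pi.single j x) = 0 := fun j x => by
      show QS (g.1 *ᵥ Pi.single j x) - QS (Pi.single j x) = 0
      rw [QS_single, sub_zero, show (Pi.single j x : Fin (2 * m) → F) = x • Pi.single j 1 by
        rw [← Pi.single_smul, smul_eq_mul, mul_one], Matrix.mulVec_smul, QS_smul, hcol, h2, mul_zero]
    have : D v = 0 := by
      rw [← Finset.univ_sum_single v, map_sum]
      exact Finset.sum_eq_zero fun j _ => hD j (v j)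
    exact sub_eq_zero.1 this

theorem th_of_mem {g : GL (Fin (2 * m)) F} (h : g ∈ oGL F m) : th 1 (RingEquiv.refl F) g = g :=
  (mem_oGL_iff.1 h).1

theorem mono_mem {π : Equiv.Perm (Fin (2 * m))} {g : GL (Fin (2 * m)) F} (hm : Mono π g.1)
    (hf : th 1 (RingEquiv.refl F) g = g) : g ∈ oGL F m := by
  refine mem_oGL_iff.2 ⟨hf, fun j => QS_eq_zero fun y hy => ?_⟩
  by_cases e : y = π j
  · refine Or.inr (hm _ _ fun e' => ?_)
    have := congrArg Fin.val (e'.trans e.symm)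
    rw [Fin.val_rev] at this
    omega
  · exact Or.inl (hm _ _ e)

theorem perm_mem {π : Equiv.Perm (Fin (2 * m))} (hπ : RevC π) :
    permGL (2 * m) F π ∈ oGL F m := by
  refine mono_mem (mono_permGL π) (th_eq_of_entries (fun _ => by simp) fun i j => ?_)
  simp only [Pi.one_apply, Units.val_one, one_mul, mul_one, RingEquiv.refl_apply]
  rw [← map_inv, permGL_apply, permGL_apply]
  refine if_congr ?_ rfl rfl
  rw [show (Fin.rev j = π⁻¹ (Fin.rev i)) ↔ Fin.rev j = Fin.rev (π⁻¹ i) by rw [hπ.inv],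
    Fin.rev_inj]
  exact ⟨fun e => by rw [e]; exact (π.apply_symm_apply i).symm, fun e => by
    rw [e]; exact (π.symm_apply_apply j).symm⟩

/-- Elements supported on the blocks of an outer node lie in the group. -/
theorem bd_mem {k : ℕ} (hk : k + 1 < m) {g : GL (Fin (2 * m)) F} (hbd : BD k g.1)
    (hf : th 1 (RingEquiv.refl F) g = g) : g ∈ oGL F m := by
  refine mem_oGL_iff.2 ⟨hf, fun j => QS_eq_zero fun y hy => ?_⟩
  by_cases e : blk k y = blk k j
  · refine Or.inr (hbd _ _ fun e' => ?_)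
    have h := (blk_eq_iff (n := 2 * m) (by omega) y (Fin.rev y)).1 (e.trans e'.symm)
    rw [Fin.val_rev] at h
    omega
  · exact Or.inl (hbd _ _ e)

/-- Bruhat decomposition in the isometry group, with a canonical first factor. -/
theorem exists_o_bruhat_upat {g : GL (Fin (2 * m)) F} (hg : g ∈ oGL F m) :
    ∃ a c r π, a ∈ uni F (2 * m) ⊓ oGL F m ∧ a ∈ upat F (π * Fin.revPerm) ∧
      c ∈ uni F (2 * m) ⊓ oGL F m ∧ r ∈ oGL F m ∧ Mono π r.1 ∧ RevC π ∧ g = a * r * c := by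
  obtain ⟨a, c, r, π, ha, haf, hap, hc, hcf, hrf, hr, hrev, e⟩ := exists_th_bruhat (th_of_mem hg)
  have hr' : r ∈ oGL F m := mono_mem hr hrf
  have hlow : ∀ u ∈ uni F (2 * m), ∀ j : Fin (2 * m), j.val < m →
      QS (fun i => u.1 i j) = 0 := fun u hu j hj => QS_eq_zero fun y hy => by
    refine Or.inr ((mem_uni.1 hu).1 _ _ (Fin.lt_def.2 ?_))
    rw [Fin.val_rev]
    omega
  have ha' : a ∈ oGL F m := by
    refine mem_oGL_iff.2 ⟨haf, fun x => ?_⟩
    obtain ⟨q, rfl⟩ := π.surjective x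
    by_cases hq : q.val < m
    · have hci := hlow _ (inv_mem hc) q hq
      have h1 : (a * r).1 = (g * c⁻¹).1 := by rw [e, mul_inv_cancel_right]
      have h2 : QS (fun i => (a * r).1 i q) = 0 := by
        have h3 : (fun i => (g * c⁻¹).1 i q) = g.1 *ᵥ fun i => (c⁻¹).1 i q := rfl
        rw [h1, h3, mem_oGL.1 hg]
        exact hci
      have h4 : (fun i => (a * r).1 i q) = r.1 (π q) q • fun i => a.1 i (π q) := by
        funext i
        rw [Units.val_mul, Matrix.mul_apply, Finset.sum_eq_single (π q)]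
        · simp [mul_comm]
        · intro z _ hz; rw [hr z q hz, mul_zero]
        · simp
      rw [h4, QS_smul] at h2
      exact (mul_eq_zero.1 h2).resolve_left (mul_ne_zero (hr.ne_zero q) (hr.ne_zero q))
    · refine QS_eq_zero fun y _ => ?_
      obtain ⟨i, rfl⟩ := π.surjective y
      have hz : ∀ p, p < q → a.1 (π p) (π q) = 0 := fun p hp => by
        have h := mem_upat.1 hap (Fin.rev p) (Fin.rev q) (Fin.rev_lt_rev.2 hp)
        simpa using h
      by_cases hiq : i < q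
      · exact Or.inl (hz i hiq)
      · right
        show a.1 (Fin.rev (π i)) (π q) = 0
        rw [hrev]
        refine hz _ ?_
        rw [Fin.lt_def, Fin.val_rev]
        rw [not_lt, Fin.le_def] at hiq
        omega
  refine ⟨a, c, r, π, ⟨ha, ha'⟩, hap, ⟨hc, ?_⟩, hr', hr, hrev, e⟩
  rw [show c = (a * r)⁻¹ * g by rw [e]; group]
  exact (oGL F m).mul_mem ((oGL F m).inv_mem ((oGL F m).mul_mem ha' hr')) hg

/-- Bruhat decomposition in the isometry group. -/
theorem exists_o_bruhat {g : GL (Fin (2 * m)) F} (hg : g ∈ oGL F m) :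
    ∃ a c r π, a ∈ uni F (2 * m) ⊓ oGL F m ∧ c ∈ uni F (2 * m) ⊓ oGL F m ∧ r ∈ oGL F m ∧
      Mono π r.1 ∧ RevC π ∧ g = a * r * c := by
  obtain ⟨a, c, r, π, ha, -, rest⟩ := exists_o_bruhat_upat hg
  exact ⟨a, c, r, π, ha, rest⟩

variable (F m) in
/-- The upper triangular isometries. -/
def BO : Subgroup (GL (Fin (2 * m)) F) := Cfsg.upperTriangularGL (2 * m) F ⊓ oGL F m

theorem uni_BO {u : GL (Fin (2 * m)) F} (hu : u ∈ uni F (2 * m) ⊓ oGL F m) : u ∈ BO F m :=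
  ⟨uni_le_upper hu.1, hu.2⟩

theorem diag_BO {h : GL (Fin (2 * m)) F} (hm : Mono 1 h.1) (hh : h ∈ oGL F m) : h ∈ BO F m :=
  ⟨upper_of_mono_one hm, hh⟩

theorem exists_BO_decomp {b : GL (Fin (2 * m)) F} (hb : b ∈ BO F m) :
    ∃ u ∈ uni F (2 * m) ⊓ oGL F m, ∃ h ∈ oGL F m, Mono 1 h.1 ∧ b = u * h := by
  obtain ⟨a, c, r, π, ha, hc, hr, hrm, -, e⟩ := exists_o_bruhat hb.2
  have hru : r ∈ Cfsg.upperTriangularGL (2 * m) F := by
    rw [show r = a⁻¹ * b * c⁻¹ by rw [e]; group]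
    exact mul_mem (mul_mem (inv_mem (uni_le_upper ha.1)) hb.1) (inv_mem (uni_le_upper hc.1))
  have h1 := perm_one_of_upper hrm hru
  subst h1
  refine ⟨a * (r * c * r⁻¹), ⟨mul_mem ha.1 (diag_conj_uni hrm hc.1), ?_⟩, r, hr, hrm, by rw [e]; group⟩
  exact (oGL F m).mul_mem ha.2 ((oGL F m).mul_mem ((oGL F m).mul_mem hr hc.2) ((oGL F m).inv_mem hr))

theorem prU_oGL {k : ℕ} (hk : k + 1 < m) {u : uni F (2 * m)}
    (hu : (u : GL (Fin (2 * m)) F) ∈ oGL F m) : (prU k u : GL (Fin (2 * m)) F) ∈ oGL F m := by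
  have hu' : (u : GL (Fin (2 * m)) F) ∈ fixS 1 (RingEquiv.refl F) :=
    mem_fixS.2 ⟨th_of_mem hu, det_uni u.2⟩
  exact bd_mem hk (bd_prU k u) (mem_fixS.1 (prU_mem_fixS (by omega) hu')).1

/-- Splitting off the block diagonal part. -/
theorem exists_o_split {k : ℕ} (hk : k + 1 < m) {u : GL (Fin (2 * m)) F}
    (hu : u ∈ uni F (2 * m) ⊓ oGL F m) :
    ∃ (uP uO : GL (Fin (2 * m)) F) (hP : uP ∈ uni F (2 * m)), uP ∈ oGL F m ∧
      uO ∈ uni F (2 * m) ∧ uO ∈ oGL F m ∧ BD k uO.1 ∧ prU k ⟨uP, hP⟩ = 1 ∧ u = uP * uO := by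
  refine ⟨u * (prU k ⟨u, hu.1⟩ : GL (Fin (2 * m)) F)⁻¹, prU k ⟨u, hu.1⟩,
    mul_mem hu.1 (inv_mem (prU k ⟨u, hu.1⟩).2),
    mul_mem hu.2 (inv_mem (prU_oGL hk (u := ⟨u, hu.1⟩) hu.2)),
    (prU k ⟨u, hu.1⟩).2, prU_oGL hk (u := ⟨u, hu.1⟩) hu.2, bd_prU k _, ?_,
    (inv_mul_cancel_right _ _).symm⟩
  show prU k ((⟨u, hu.1⟩ : uni F (2 * m)) * (prU k ⟨u, hu.1⟩)⁻¹) = 1
  rw [map_mul, map_inv, prU_prU, mul_inv_cancel]

/-- Rank one. -/
theorem rankO {k : ℕ} (hk : k + 1 < m) {y : GL (Fin (2 * m)) F} (hy : y ∈ oGL F m)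
    (hbd : BUT k y.1) (hny : y ∉ Cfsg.upperTriangularGL (2 * m) F) :
    ∃ a c r, a ∈ uni F (2 * m) ⊓ oGL F m ∧ c ∈ uni F (2 * m) ⊓ oGL F m ∧ r ∈ oGL F m ∧
      Mono (tPerm k (show 2 * k + 2 ≤ 2 * m by omega)) r.1 ∧ y = a * r * c := by
  have hk' : 2 * k + 2 ≤ 2 * m := by omega
  obtain ⟨a, c, r, π, ha, hc, hr, hmono, hrev, e⟩ := exists_o_bruhat hy
  have hmb : BUT k r.1 := by
    rw [show r = a⁻¹ * y * c⁻¹ by rw [e]; group, Units.val_mul, Units.val_mul]
    exact ((but_uni (inv_mem ha.1)).mul hbd).mul (but_uni (inv_mem hc.1))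
  have hle : ∀ j, blk k (π j) ≤ blk k j := fun j =>
    not_lt.1 fun h => hmono.ne_zero j (hmb _ _ h)
  have heq : ∀ j, blk k (π j) = blk k j := fun j =>
    (Finset.sum_eq_sum_iff_of_le fun i _ => hle i).1
      (Equiv.sum_comp π fun i => blk k i) j (Finset.mem_univ j)
  rcases eq_one_or_tPerm hk' hrev heq with rfl | rfl
  · refine absurd ?_ hny
    rw [e]
    exact mul_mem (mul_mem (uni_le_upper ha.1) (upper_of_mono_one hmono)) (uni_le_upper hc.1)
  · exact ⟨a, c, r, ha, hc, hr, hmono, e⟩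

end CfsgLib.TwistBN.Plus
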