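/-
The split (B, N)-pair of the index two subgroup of the hyperbolic orthogonal group.
-/
import Cfsg.Agent.Lib.TwistBN.Plus
import Cfsg.Agent.Lib.BNSteinberg.Split

set_option autoImplicit false
set_option linter.unusedSectionVars false
set_option maxHeartbeats 800000

namespace CfsgLib.TwistBN.Plus

open Matrix CfsgLib.PronormalPSL CfsgLib.PronormalPSU CfsgLib.Fusion.UniTri CfsgLib.GLUnipotent

variable {F : Type*} [Field F] [Finite F] {m : ℕ}

variable (F) in
/-- A permutation matrix. -/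
abbrev pP (π : Equiv.Perm (Fin (2 * m))) : GL (Fin (2 * m)) F := permGL (2 * m) F π

theorem pP_sq {T : Equiv.Perm (Fin (2 * m))} (hT : T * T = 1) : pP F T * pP F T = 1 := by
  rw [← map_mul, hT, map_one]

theorem pP_inv {T : Equiv.Perm (Fin (2 * m))} (hT : T * T = 1) : (pP F T)⁻¹ = pP F T :=
  inv_eq_of_mul_eq_one_right (pP_sq hT)

theorem pP_mul (a b : Equiv.Perm (Fin (2 * m))) : pP F (a * b) = pP F a * pP F b := map_mul _ _ _

theorem pP_rho_cancel (x : GL (Fin (2 * m)) F) : pP F (rho m) * (pP F (rho m) * x) = x := by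
  rw [← mul_assoc, pP_sq rho_sq, one_mul]

theorem pP_rho_cancel' : pP F (rho m) * pP F (rho m) = (1 : GL (Fin (2 * m)) F) := pP_sq rho_sq

/-- Conjugation of the upper triangular isometries by the swap. -/
theorem rho_conj_BO {b : GL (Fin (2 * m)) F} (hb : b ∈ BO F m) :
    pP F (rho m) * b * pP F (rho m) ∈ BO F m := by
  obtain ⟨u, hu, h, hh, hhm, rfl⟩ := exists_BO_decomp hb
  have hR : pP F (rho m) ∈ oGL F m := perm_mem rho_revC
  rw [show pP F (rho m) * (u * h) * pP F (rho m) =
    ((pP F (rho m))⁻¹ * u * pP F (rho m)) * ((pP F (rho m))⁻¹ * h * pP F (rho m)) by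
      rw [pP_inv rho_sq]
      calc _ = pP F (rho m) * u * (pP F (rho m) * pP F (rho m)) * h * pP F (rho m) := by
            rw [pP_sq rho_sq]; group
        _ = _ := by group]
  refine (BO F m).mul_mem ⟨uni_le_upper (conj_uni (mono_permGL _) hu.1 (mem_upat.2 fun i j hij => ?_)),
    (oGL F m).mul_mem ((oGL F m).mul_mem ((oGL F m).inv_mem hR) hu.2) hR⟩
    (diag_BO ?_ ((oGL F m).mul_mem ((oGL F m).mul_mem ((oGL F m).inv_mem hR) hh) hR))
  · by_cases hpair : rho m j < rho m i
    · exact (mem_uni.1 hu.1).1 _ _ hpair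
    · have hi := rho_val i
      have hj := rho_val j
      have := i.isLt
      rw [Fin.lt_def] at hij hpair
      have hval : i.val = m ∧ j.val = m - 1 := by
        split_ifs at hi hj <;> omega
      have h0 := (mem_oGL_iff.1 hu.2).2 ⟨m, by omega⟩
      have e : QS (fun x => u.1 x ⟨m, by omega⟩) = u.1 ⟨m - 1, by omega⟩ ⟨m, by omega⟩ := by
        unfold QS Cfsg.quadFormPlus
        rw [Finset.sum_eq_single (⟨m - 1, by omega⟩ : Fin m)]
        · have e2 : halves m (Sum.inr (⟨m - 1, by omega⟩ : Fin m)) = (⟨m, by omega⟩ : Fin (2 * m)) :=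
            Fin.ext (by show 2 * m - 1 - (m - 1) = m; omega)
          show u.1 (halves m (Sum.inl _)) _ * u.1 (halves m (Sum.inr _)) _ = _
          rw [e2, (mem_uni.1 hu.1).2, mul_one]
          rfl
        · intro y _ hy
          show u.1 (halves m (Sum.inl _)) _ * u.1 (halves m (Sum.inr y)) _ = 0
          rw [(mem_uni.1 hu.1).1 (halves m (Sum.inr y)) _ (Fin.lt_def.2 ?_), mul_zero]
          show m < 2 * m - 1 - y.val
          rw [ne_eq, Fin.ext_iff] at hy
          have := y.isLt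
          dsimp only at hy
          omega
        · simp
      rw [show rho m i = (⟨m - 1, by omega⟩ : Fin (2 * m)) from Fin.ext (by
          split_ifs at hi <;> (dsimp only; omega)),
        show rho m j = (⟨m, by omega⟩ : Fin (2 * m)) from Fin.ext (by
          split_ifs at hj <;> (dsimp only; omega))]
      exact e.symm.trans h0
  · rw [pP_inv rho_sq]
    have := mono_mul (mono_mul (mono_permGL (F := F) (rho m)) hhm) (mono_permGL (F := F) (rho m))
    rwa [mul_one, rho_sq] at this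

/-- What is needed from a reflection. -/
structure Node (F : Type*) [Field F] [Finite F] (T : Equiv.Perm (Fin (2 * m))) : Prop where
  rev : RevC T
  even : Equiv.Perm.sign T = 1
  sq : T * T = 1
  step : ∀ π, RevC π → ∀ b ∈ BO F m, ∃ b₁ ∈ BO F m, ∃ b₂ ∈ BO F m,
    pP F T * b * pP F π = b₁ * pP F (T * π) * b₂ ∨ pP F T * b * pP F π = b₁ * pP F π * b₂
  rank : ∀ u ∈ uni F (2 * m) ⊓ oGL F m, ∀ e ∈ uni F (2 * m) ⊓ oGL F m,
    pP F T * e * pP F T ∈ BO F m → pP F T * (u * e * u⁻¹) * pP F T ∈ BO F m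
  moves : ∃ b ∈ BO F m, pP F T * b * pP F T ∉ BO F m

theorem Node.conj {T : Equiv.Perm (Fin (2 * m))} (hT : Node F T) (hm : 1 ≤ m) :
    Node F (rho m * T * rho m) where
  rev := (rho_revC.mul hT.rev).mul rho_revC
  even := by rw [map_mul, map_mul, hT.even, sign_rho hm]; simp
  sq := by
    calc rho m * T * rho m * (rho m * T * rho m) = rho m * (T * (rho m * rho m) * T) * rho m := by
          simp only [mul_assoc]
      _ = 1 := by rw [rho_sq, mul_one, hT.sq, mul_one, rho_sq]
  step := fun π hπ b hb => by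
    obtain ⟨b₁, hb₁, b₂, hb₂, h⟩ :=
      hT.step (rho m * π * rho m) ((rho_revC.mul hπ).mul rho_revC) _ (rho_conj_BO hb)
    refine ⟨_, rho_conj_BO hb₁, _, rho_conj_BO hb₂, ?_⟩
    have key : pP F (rho m * T * rho m) * b * pP F π =
        pP F (rho m) * (pP F T * (pP F (rho m) * b * pP F (rho m)) * pP F (rho m * π * rho m)) *
          pP F (rho m) := by
      simp only [pP_mul, mul_assoc, pP_rho_cancel, pP_rho_cancel', mul_one]
    rcases h with e | e
    · left
      rw [key, e]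
      simp only [pP_mul, mul_assoc, pP_rho_cancel, pP_rho_cancel', mul_one]
    · right
      rw [key, e]
      simp only [pP_mul, mul_assoc, pP_rho_cancel, pP_rho_cancel', mul_one]
  rank := fun u hu e he h => by
    have hR : pP F (rho m) ∈ oGL F m := perm_mem rho_revC
    have hconj : ∀ x ∈ uni F (2 * m) ⊓ oGL F m,
        pP F (rho m) * x * pP F (rho m) ∈ uni F (2 * m) ⊓ oGL F m := by
      intro x hx
      obtain ⟨hxB, hxo⟩ := rho_conj_BO (uni_BO hx)
      refine ⟨mem_uni.2 ⟨fun i j hij => upper_zero hxB hij, fun i => ?_⟩, hxo⟩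
      have e := conj_apply (mono_permGL (F := F) (rho m)) x i i
      rw [pP_inv rho_sq] at e
      rw [e, (mem_uni.1 hx.1).2, mul_one]
      have := inv_mul_diag (mono_permGL (F := F) (rho m)) i
      rwa [pP_inv rho_sq] at this
    have h1 : pP F T * (pP F (rho m) * e * pP F (rho m)) * pP F T ∈ BO F m := by
      have := rho_conj_BO h
      simpa only [pP_mul, mul_assoc, pP_rho_cancel, pP_rho_cancel', mul_one] using this
    have h2 := rho_conj_BO (hT.rank _ (hconj u hu) _ (hconj e he) h1)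
    have e' : (pP F (rho m) * u * pP F (rho m)) * (pP F (rho m) * e * pP F (rho m)) *
        (pP F (rho m) * u * pP F (rho m))⁻¹ = pP F (rho m) * (u * e * u⁻¹) * pP F (rho m) := by
      simp only [_root_.mul_inv_rev, pP_inv rho_sq, mul_assoc]
      simp only [pP_rho_cancel]
    rw [e'] at h2
    simpa only [pP_mul, mul_assoc, pP_rho_cancel, pP_rho_cancel', mul_one] using h2
  moves := by
    obtain ⟨b, hb, h⟩ := hT.moves
    refine ⟨_, rho_conj_BO hb, fun h' => h ?_⟩
    have h'' := rho_conj_BO h'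
    simpa only [pP_mul, mul_assoc, pP_rho_cancel, pP_rho_cancel', mul_one] using h''

theorem conj_mem_BO {T : Equiv.Perm (Fin (2 * m))} (hT : RevC T) (hsq : T * T = 1)
    {x : GL (Fin (2 * m)) F} (hx : x ∈ oGL F m) (h : pP F T * x * (pP F T)⁻¹ ∈ uni F (2 * m)) :
    pP F T * x * pP F T ∈ BO F m := by
  rw [pP_inv hsq] at h
  exact ⟨uni_le_upper h, (oGL F m).mul_mem ((oGL F m).mul_mem (perm_mem hT) hx) (perm_mem hT)⟩

theorem node_tPerm {k : ℕ} (hk : k + 1 < m) :
    Node F (tPerm (n := 2 * m) k (show 2 * k + 2 ≤ 2 * m by omega)) := by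
  have hk' : 2 * k + 2 ≤ 2 * m := by omega
  set T := tPerm (n := 2 * m) k hk' with hT
  have hTsq : T * T = 1 := tPerm_sq hk'
  have hTR : RevC T := tPerm_revC hk'
  have hsπ : Mono T (pP F T).1 := mono_permGL T
  refine ⟨hTR, sign_tPerm hk, hTsq, ?_, ?_, ?_⟩
  · intro π hπR b hb
    obtain ⟨u, hu, h, hh, hhm, rfl⟩ := exists_BO_decomp hb
    obtain ⟨uP, uO, hPU, hPo, hOU, hOo, hObd, hP, rfl⟩ := exists_o_split hk hu
    have hsP0 := conj_refl' hk' hsπ hP
    have hsP : pP F T * uP * pP F T ∈ BO F m := conj_mem_BO hTR hTsq hPo hsP0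
    have hsh : pP F T * h * pP F T ∈ BO F m := by
      refine diag_BO ?_ ((oGL F m).mul_mem ((oGL F m).mul_mem (perm_mem hTR) hh) (perm_mem hTR))
      have := mono_mul (mono_mul hsπ hhm) hsπ
      rwa [mul_one, hTsq] at this
    set w := h * pP F π with hw
    have hwπ : Mono π w.1 := by
      have := mono_mul hhm (mono_permGL (F := F) π)
      rwa [one_mul] at this
    have hwo : w ∈ oGL F m := (oGL F m).mul_mem hh (perm_mem hπR)
    have hsplit : pP F T * (uP * uO * h) * pP F π =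
        (pP F T * uP * pP F T) * (pP F T * uO * w) := by
      rw [hw, show (pP F T * uP * pP F T) * (pP F T * uO * (h * pP F π)) =
        pP F T * uP * (pP F T * pP F T) * uO * h * pP F π by group, pP_sq hTsq]
      group
    have hconjw : ∀ x ∈ oGL F m, ∀ y ∈ oGL F m, y⁻¹ * x * y ∈ oGL F m := fun x hx y hy =>
      (oGL F m).mul_mem ((oGL F m).mul_mem ((oGL F m).inv_mem hy) hx) hy
    rcases block_dichotomy hk' hπR.inv with ⟨-, hpos⟩ | ⟨-, hneg⟩
    · have hc0 := conj_pos hwπ hOU hObd hpos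
      refine ⟨_, (BO F m).mul_mem hsP hsh, _, ⟨uni_le_upper hc0, hconjw _ hOo _ hwo⟩, Or.inl ?_⟩
      rw [hsplit, hw, pP_mul, show (pP F T * uP * pP F T) * (pP F T * h * pP F T) *
        (pP F T * pP F π) * ((h * pP F π)⁻¹ * uO * (h * pP F π)) =
          (pP F T * uP * pP F T) * (pP F T * h * (pP F T * pP F T) * h⁻¹ * uO * (h * pP F π)) by group,
        pP_sq hTsq]
      group
    · by_cases hO : uO = 1
      · refine ⟨_, (BO F m).mul_mem hsP hsh, 1, (BO F m).one_mem, Or.inl ?_⟩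
        rw [hsplit, hw, hO, pP_mul, show (pP F T * uP * pP F T) * (pP F T * h * pP F T) *
          (pP F T * pP F π) * 1 =
            (pP F T * uP * pP F T) * (pP F T * h * (pP F T * pP F T) * pP F π) by group,
          pP_sq hTsq]
        group
      set y := pP F T * uO * pP F T with hy
      have hyo : y ∈ oGL F m :=
        (oGL F m).mul_mem ((oGL F m).mul_mem (perm_mem hTR) hOo) (perm_mem hTR)
      have hny : y ∉ Cfsg.upperTriangularGL (2 * m) F := fun hyu => by
        refine hO (eq_one_of_refl hk' hsπ hOU hObd ?_)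
        rw [pP_inv hTsq]
        exact hyu
      have hbd : BUT k y.1 := by
        intro i j hij
        have e := conj_apply hsπ uO i j
        rw [pP_inv hTsq] at e
        refine e.trans ?_
        rw [show uO.1 (T i) (T j) = 0 from
          hObd _ _ (by rw [hT, blk_tPerm, blk_tPerm]; exact hij.ne'), mul_zero, zero_mul]
      obtain ⟨a, c, r, ha, hc, hr, hrm, e⟩ := rankO hk hyo hbd hny
      obtain ⟨cP, cO, hcPU, hcPo, hcOU, hcOo, hcObd, hcP1, hce⟩ := exists_o_split hk hc
      have hRc0 := conj_refl' hk' (m := r) hrm hcP1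
      have hRc : r * cP * r⁻¹ ∈ BO F m :=
        ⟨uni_le_upper hRc0, (oGL F m).mul_mem ((oGL F m).mul_mem hr hcPo) ((oGL F m).inv_mem hr)⟩
      have hsn : Mono (T * π) (pP F T * w).1 := mono_mul hsπ hwπ
      have hc'0 : (pP F T * w)⁻¹ * cO * (pP F T * w) ∈ uni F (2 * m) := by
        refine conj_pos hsn hcOU hcObd fun i j hij hb => ?_
        rw [_root_.mul_inv_rev, hT, tPerm_inv, Equiv.Perm.mul_apply, Equiv.Perm.mul_apply]
        exact hneg _ _ (tPerm_lt hk' hij hb) (by rw [blk_tPerm, blk_tPerm, hb])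
      have hRs : r * pP F T ∈ BO F m := by
        refine diag_BO ?_ ((oGL F m).mul_mem hr (perm_mem hTR))
        have := mono_mul hrm hsπ
        rwa [← hT, hTsq] at this
      refine ⟨(pP F T * uP * pP F T) * a * (r * cP * r⁻¹) * (r * pP F T) * h,
        (BO F m).mul_mem ((BO F m).mul_mem ((BO F m).mul_mem ((BO F m).mul_mem hsP (uni_BO ha)) hRc) hRs)
          (diag_BO hhm hh), _,
        ⟨uni_le_upper hc'0, hconjw _ hcOo _ ((oGL F m).mul_mem (perm_mem hTR) hwo)⟩, Or.inr ?_⟩
      have e1 : pP F T * uO * w = y * (pP F T * w) := by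
        rw [hy, show pP F T * uO * pP F T * (pP F T * w) =
          pP F T * uO * (pP F T * pP F T) * w by group, pP_sq hTsq]
        group
      rw [hsplit, e1, e, hce, hw]
      group
  · intro u hu e he hse
    obtain ⟨eP, eO, hePU, hePo, heOU, heOo, heObd, heP, rfl⟩ := exists_o_split hk he
    have h20 := conj_refl' hk' hsπ heP
    have h2 : pP F T * eP * pP F T ∈ BO F m := conj_mem_BO hTR hTsq hePo h20
    have h3 : pP F T * eO * pP F T ∈ BO F m := by
      have := (BO F m).mul_mem ((BO F m).inv_mem h2) hse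
      rwa [show (pP F T * eP * pP F T)⁻¹ * (pP F T * (eP * eO) * pP F T) =
        (pP F T)⁻¹ * eO * pP F T by group, pP_inv hTsq] at this
    have he1 : eO = 1 := by
      refine eq_one_of_refl hk' hsπ heOU heObd ?_
      rw [pP_inv hTsq]
      exact h3.1
    subst he1
    rw [mul_one]
    have hc : prU k ((⟨u, hu.1⟩ : uni F (2 * m)) * ⟨eP, hePU⟩ * (⟨u, hu.1⟩ : uni F (2 * m))⁻¹) = 1 := by
      rw [map_mul, map_mul, heP, mul_one, ← map_mul, mul_inv_cancel, map_one]
    have hc0 := conj_refl' hk' hsπ hc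
    exact conj_mem_BO hTR hTsq ((oGL F m).mul_mem ((oGL F m).mul_mem hu.2 hePo) ((oGL F m).inv_mem hu.2)) hc0
  · obtain ⟨u, hu, huf, hbd, hne⟩ := node_short (d := (1 : Fin (2 * m) → Fˣ)) (σ := RingEquiv.refl F)
      (fun _ => by simp) (fun _ _ _ _ => by simp) (show 2 * k + 4 ≤ 2 * m by omega)
    have huo : u ∈ oGL F m := bd_mem hk hbd (mem_fixS.1 huf).1
    refine ⟨u, uni_BO ⟨hu, huo⟩, fun h => hne (eq_one_of_refl hk' hsπ hu hbd ?_)⟩
    rw [pP_inv hTsq]
    exact h.1

/-- The index of the simple reflections. -/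
abbrev Idx (m : ℕ) : Type := {_i : Fin m // 2 ≤ m}

/-- The simple reflections. -/
def tD {m : ℕ} (i : Idx m) : Equiv.Perm (Fin (2 * m)) :=
  if h : i.1.val + 1 < m then tPerm i.1.val (by omega) else tRho m i.2

theorem node_tD (i : Idx m) : Node F (tD i) := by
  unfold tD
  split_ifs with h
  · exact node_tPerm h
  · exact (node_tPerm (k := m - 2) (by have := i.2; omega)).conj (by have := i.2; omega)

theorem tD_inj : Function.Injective (tD (m := m)) := by
  rintro ⟨i, hi⟩ ⟨j, hj⟩ h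
  have hne : ∀ k, ∀ hk : k + 1 < m, tPerm (n := 2 * m) k (by omega) ≠ tRho m hi := by
    intro k hk e
    have e' := congrArg (fun π : Equiv.Perm (Fin (2 * m)) => (π ⟨m - 2, by omega⟩).val) e
    have r1 := rho_val (⟨m - 2, by omega⟩ : Fin (2 * m))
    have r1' : rho m (⟨m - 2, by omega⟩ : Fin (2 * m)) = ⟨m - 2, by omega⟩ := Fin.ext (by
      rw [r1]; dsimp only; split_ifs <;> omega)
    simp only [tRho, Equiv.Perm.mul_apply, r1', rho_val, tPerm_val, tVal] at e'
    split_ifs at e' <;> omega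
  simp only [tD] at h
  have := i.isLt
  have := j.isLt
  split_ifs at h with h1 h2 h2
  · exact Subtype.ext (Fin.ext (tPerm_inj (by omega) (by omega) h))
  · exact absurd h (hne _ h1)
  · exact absurd h.symm (hne _ h2)
  · exact Subtype.ext (Fin.ext (show i.val = j.val by simp only [not_lt] at *; omega))

variable (F m) in
/-- The group generated by the upper triangular isometries and the simple reflections. -/
def GP : Subgroup (GL (Fin (2 * m)) F) :=
  Subgroup.closure ((BO F m : Set (GL (Fin (2 * m)) F)) ∪ Set.range fun i : Idx m => pP F (tD i))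

theorem BO_le_GP : BO F m ≤ GP F m := fun _ hx => Subgroup.subset_closure (Or.inl hx)

theorem refl_mem_GP (i : Idx m) : pP F (tD i) ∈ GP F m := Subgroup.subset_closure (Or.inr ⟨i, rfl⟩)

theorem GP_le : GP F m ≤ oGL F m := (Subgroup.closure_le _).2 (by
  rintro x (hx | ⟨i, rfl⟩)
  · exact hx.2
  · exact perm_mem (node_tD (F := F) i).rev)

theorem pP_mem_GP {π : Equiv.Perm (Fin (2 * m))} (hπ : RevC π) (hs : Equiv.Perm.sign π = 1) :
    pP F π ∈ GP F m := by
  refine revD_induction (P := fun π => pP F π ∈ GP F m) (by rw [pP, map_one]; exact one_mem _)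
    ?_ ?_ hπ hs
  · intro π k hk h
    rw [pP, map_mul]
    refine mul_mem h ?_
    have := refl_mem_GP (F := F) (⟨⟨k, by omega⟩, by omega⟩ : Idx m)
    rwa [tD, dif_pos hk] at this
  · intro π hm h
    rw [pP, map_mul]
    refine mul_mem h ?_
    have := refl_mem_GP (F := F) (⟨⟨m - 1, by omega⟩, hm⟩ : Idx m)
    rwa [tD, dif_neg (show ¬(m - 1 + 1 < m) by omega)] at this

/-- The cells. -/
theorem exists_cell_GP {g : GL (Fin (2 * m)) F} (hg : g ∈ GP F m) :
    ∃ b ∈ BO F m, ∃ π, RevC π ∧ Equiv.Perm.sign π = 1 ∧ ∃ b' ∈ BO F m, g = b * pP F π * b' := by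
  have hstep : ∀ (i : Idx m) (x : GL (Fin (2 * m)) F),
      (∃ b ∈ BO F m, ∃ π, RevC π ∧ Equiv.Perm.sign π = 1 ∧ ∃ b' ∈ BO F m, x = b * pP F π * b') →
      ∃ b ∈ BO F m, ∃ π, RevC π ∧ Equiv.Perm.sign π = 1 ∧ ∃ b' ∈ BO F m,
        pP F (tD i) * x = b * pP F π * b' := by
    rintro i x ⟨b, hb, π, hπ, hs, b', hb', rfl⟩
    obtain ⟨b₁, hb₁, b₂, hb₂, e | e⟩ := (node_tD (F := F) i).step π hπ b hb
    · exact ⟨b₁, hb₁, _, (node_tD (F := F) i).rev.mul hπ,
        by rw [map_mul, (node_tD (F := F) i).even, hs, one_mul], _, mul_mem hb₂ hb', by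
          rw [← mul_assoc, ← mul_assoc, e, mul_assoc]⟩
    · exact ⟨b₁, hb₁, π, hπ, hs, _, mul_mem hb₂ hb', by
          rw [← mul_assoc, ← mul_assoc, e, mul_assoc]⟩
  induction hg using Subgroup.closure_induction_left with
  | one => exact ⟨1, one_mem _, 1, fun _ => rfl, map_one _, 1, one_mem _, by simp [pP]⟩
  | mul_left x hx y _ ih =>
    rcases hx with hx | ⟨i, rfl⟩
    · obtain ⟨b, hb, π, hπ, hs, b', hb', rfl⟩ := ih
      exact ⟨x * b, mul_mem hx hb, π, hπ, hs, b', hb', by simp only [mul_assoc]⟩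
    · exact hstep i y ih
  | inv_mul_cancel x hx y _ ih =>
    rcases hx with hx | ⟨i, rfl⟩
    · obtain ⟨b, hb, π, hπ, hs, b', hb', rfl⟩ := ih
      exact ⟨x⁻¹ * b, mul_mem (inv_mem hx) hb, π, hπ, hs, b', hb', by simp only [mul_assoc]⟩
    · rw [pP_inv (node_tD (F := F) i).sq]
      exact hstep i y ih

/-- Monomial elements of the group have even permutations. -/
theorem sign_mono {g : GL (Fin (2 * m)) F} (hg : g ∈ GP F m) {π : Equiv.Perm (Fin (2 * m))}
    (hm : Mono π g.1) : RevC π ∧ Equiv.Perm.sign π = 1 := by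
  obtain ⟨b, hb, π', hπ', hs, b', hb', e⟩ := exists_cell_GP hg
  obtain ⟨u, hu, h, -, hhm, rfl⟩ := exists_BO_decomp hb
  obtain ⟨u', hu', h', -, hhm', rfl⟩ := exists_BO_decomp hb'
  have hh' : Mono 1 (h'⁻¹).1 := by
    have := Mono.inv hhm'
    rwa [inv_one] at this
  have hc : h'⁻¹ * u' * h' ∈ uni F (2 * m) := by
    have := diag_conj_uni hh' hu'.1
    rwa [inv_inv] at this
  have hM : Mono π' (h * pP F π' * h').1 := by
    have := mono_mul (mono_mul hhm (mono_permGL (F := F) π')) hhm'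
    rwa [one_mul, mul_one] at this
  have hh := (mono_unique (a := u) hu.1 (c := (h'⁻¹ * u' * h')⁻¹) (inv_mem hc) hM hm
    (by rw [e]; group)).1
  exact hh ▸ ⟨hπ', hs⟩

variable (F m) in
/-- The (B, N)-pair. -/
noncomputable def bnPair : Cfsg.BNPair (GP F m) where
  B := (BO F m).subgroupOf (GP F m)
  N := (monoGL F (2 * m)).subgroupOf (GP F m)
  S := Set.range fun i : Idx m => (⟨pP F (tD i), refl_mem_GP i⟩ : GP F m)
  sup_eq_top := by
    refine eq_top_iff.2 fun g _ => ?_
    obtain ⟨b, hb, π, hπ, hs, b', hb', e⟩ := exists_cell_GP g.2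
    rw [show g = ⟨b, BO_le_GP hb⟩ * ⟨pP F π, pP_mem_GP hπ hs⟩ * ⟨b', BO_le_GP hb'⟩ from Subtype.ext e]
    exact mul_mem (mul_mem (Subgroup.mem_sup_left hb)
      (Subgroup.mem_sup_right ⟨π, mono_permGL π⟩)) (Subgroup.mem_sup_left hb')
  conj_mem := by
    rintro n ⟨π, hπ⟩ t ⟨ht, ρ, hρ⟩
    have h1 := perm_one_of_upper hρ ht.1
    subst h1
    refine diag_BO ?_ (GP_le (n * t * n⁻¹).2)
    have := mono_mul (mono_mul hπ hρ) (Mono.inv hπ)
    rwa [mul_one, mul_inv_cancel] at this
  subset := by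
    rintro _ ⟨i, rfl⟩
    exact ⟨_, mono_permGL _⟩
  sq_mem := by
    rintro _ ⟨i, rfl⟩
    show pP F (tD i) * pP F (tD i) ∈ BO F m
    rw [pP_sq (node_tD (F := F) i).sq]
    exact one_mem _
  inj := by
    rintro _ ⟨i, rfl⟩ _ ⟨j, rfl⟩ h
    have h' : (pP F (tD i))⁻¹ * pP F (tD j) ∈ BO F m := h
    rw [pP, pP, ← map_inv, ← map_mul] at h'
    have e := perm_one_of_upper (mono_permGL (F := F) _) h'.1
    rw [inv_mul_eq_one] at e
    rw [tD_inj e]
  closure_sup := by
    refine le_antisymm (sup_le ((Subgroup.closure_le _).2 ?_) inf_le_right) fun n hn => ?_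
    · rintro _ ⟨i, rfl⟩
      exact ⟨_, mono_permGL _⟩
    · obtain ⟨π, hπ⟩ := hn
      obtain ⟨hπR, hs⟩ := sign_mono n.2 hπ
      set q : GP F m := ⟨pP F π, pP_mem_GP hπR hs⟩ with hq
      rw [show n = q * (q⁻¹ * n) by group]
      refine mul_mem (Subgroup.mem_sup_left ?_) (Subgroup.mem_sup_right ?_)
      · refine revD_induction (P := fun π => ∀ h : pP F π ∈ GP F m,
          (⟨pP F π, h⟩ : GP F m) ∈ Subgroup.closure
            (Set.range fun i : Idx m => (⟨pP F (tD i), refl_mem_GP i⟩ : GP F m))) ?_ ?_ ?_ hπR hs _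
        · intro h
          rw [show (⟨pP F 1, h⟩ : GP F m) = 1 from Subtype.ext (map_one _)]
          exact one_mem _
        · intro π' k hk ih h
          have hi : tD (⟨⟨k, by omega⟩, by omega⟩ : Idx m) = tPerm k (by omega) := by
            rw [tD, dif_pos hk]
          have hπ' : pP F π' ∈ GP F m := by
            have := mul_mem h (inv_mem (refl_mem_GP (F := F) (⟨⟨k, by omega⟩, by omega⟩ : Idx m)))
            rwa [hi, pP_mul, mul_inv_cancel_right] at this
          rw [show (⟨pP F (π' * tPerm k (by omega)), h⟩ : GP F m) =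
            ⟨pP F π', hπ'⟩ * ⟨pP F (tD (⟨⟨k, by omega⟩, by omega⟩ : Idx m)), refl_mem_GP _⟩ from
            Subtype.ext (show pP F (π' * _) = pP F π' * pP F (tD _) by rw [hi, pP_mul])]
          exact mul_mem (ih hπ') (Subgroup.subset_closure ⟨_, rfl⟩)
        · intro π' hm ih h
          have hi : tD (⟨⟨m - 1, by omega⟩, hm⟩ : Idx m) = tRho m hm := by
            rw [tD, dif_neg (show ¬(m - 1 + 1 < m) by omega)]
          have hπ' : pP F π' ∈ GP F m := by
            have := mul_mem h (inv_mem (refl_mem_GP (F := F) (⟨⟨m - 1, by omega⟩, hm⟩ : Idx m)))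
            rwa [hi, pP_mul, mul_inv_cancel_right] at this
          rw [show (⟨pP F (π' * tRho m hm), h⟩ : GP F m) =
            ⟨pP F π', hπ'⟩ * ⟨pP F (tD (⟨⟨m - 1, by omega⟩, hm⟩ : Idx m)), refl_mem_GP _⟩ from
            Subtype.ext (show pP F (π' * _) = pP F π' * pP F (tD _) by rw [hi, pP_mul])]
          exact mul_mem (ih hπ') (Subgroup.subset_closure ⟨_, rfl⟩)
      · have hd : Mono 1 ((q⁻¹ * n : GP F m) : GL (Fin (2 * m)) F).1 := by
          have := mono_mul (Mono.inv (mono_permGL (F := F) π)) hπ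
          rwa [inv_mul_cancel] at this
        exact ⟨diag_BO hd (GP_le (q⁻¹ * n).2), 1, hd⟩
  mul_mem_union := by
    rintro _ ⟨i, rfl⟩ n ⟨π, hπ⟩ b hb
    obtain ⟨hπR, hs⟩ := sign_mono n.2 hπ
    have hd : Mono 1 ((n : GL (Fin (2 * m)) F) * (pP F π)⁻¹).1 := by
      have := mono_mul hπ (Mono.inv (mono_permGL (F := F) π))
      rwa [mul_inv_cancel] at this
    set h : GL (Fin (2 * m)) F := (n : GL (Fin (2 * m)) F) * (pP F π)⁻¹ with hh
    have hho : h ∈ oGL F m := mul_mem (GP_le n.2) (inv_mem (perm_mem hπR))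
    have en : (n : GL (Fin (2 * m)) F) = h * pP F π := by rw [hh, inv_mul_cancel_right]
    obtain ⟨b₁, hb₁, b₂, hb₂, e | e⟩ :=
      (node_tD (F := F) i).step π hπR _ (mul_mem hb (diag_BO hd hho))
    · left
      have hT := (node_tD (F := F) i)
      have hsh : pP F (tD i) * h⁻¹ * pP F (tD i) ∈ BO F m := by
        refine diag_BO ?_ (mul_mem (mul_mem (perm_mem hT.rev) (inv_mem hho)) (perm_mem hT.rev))
        have := mono_mul (mono_mul (mono_permGL (F := F) (tD i)) (Mono.inv hd)) (mono_permGL (F := F) (tD i))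
        rwa [inv_one, mul_one, hT.sq] at this
      refine DoubleCoset.mem_doubleCoset.2 ⟨⟨b₁ * (pP F (tD i) * h⁻¹ * pP F (tD i)),
        BO_le_GP (mul_mem hb₁ hsh)⟩, mul_mem hb₁ hsh, ⟨b₂, BO_le_GP hb₂⟩, hb₂, Subtype.ext ?_⟩
      show pP F (tD i) * (b : GL (Fin (2 * m)) F) * (n : GL (Fin (2 * m)) F) =
        b₁ * (pP F (tD i) * h⁻¹ * pP F (tD i)) * (pP F (tD i) * (n : GL (Fin (2 * m)) F)) * b₂
      rw [en, show b₁ * (pP F (tD i) * h⁻¹ * pP F (tD i)) * (pP F (tD i) * (h * pP F π)) * b₂ =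
        b₁ * (pP F (tD i) * (h⁻¹ * (pP F (tD i) * pP F (tD i)) * h) * pP F π) * b₂ by group,
        pP_sq hT.sq, mul_one, inv_mul_cancel, mul_one, ← pP_mul, ← e]
      simp only [Subgroup.coe_subtype, mul_assoc]
    · right
      refine DoubleCoset.mem_doubleCoset.2 ⟨⟨b₁ * h⁻¹, BO_le_GP (mul_mem hb₁ (inv_mem (diag_BO hd hho)))⟩,
        mul_mem hb₁ (inv_mem (diag_BO hd hho)), ⟨b₂, BO_le_GP hb₂⟩, hb₂, Subtype.ext ?_⟩
      show pP F (tD i) * (b : GL (Fin (2 * m)) F) * (n : GL (Fin (2 * m)) F) =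
        b₁ * h⁻¹ * (n : GL (Fin (2 * m)) F) * b₂
      rw [en, mul_assoc b₁, inv_mul_cancel_left, ← e]
      simp only [Subgroup.coe_subtype, mul_assoc]
  conj_ne := by
    rintro _ ⟨i, rfl⟩ h
    obtain ⟨b, hb, hne⟩ := (node_tD (F := F) i).moves
    exact hne (h.subset (Set.mem_image_of_mem
      (fun b : GP F m => (⟨pP F (tD i), refl_mem_GP i⟩ : GP F m) * b * ⟨pP F (tD i), refl_mem_GP i⟩)
      (show (⟨b, BO_le_GP hb⟩ : GP F m) ∈ (BO F m).subgroupOf (GP F m) from hb)))

/-- The long element. -/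
theorem opp_perm : ∃ π : Equiv.Perm (Fin (2 * m)), RevC π ∧ Equiv.Perm.sign π = 1 ∧
    rho m * π * rho m = π ∧
    ∀ u ∈ uni F (2 * m) ⊓ oGL F m, (pP F π)⁻¹ * u * pP F π ∈ BO F m → u = 1 := by
  let π : Equiv.Perm (Fin (2 * m)) :=
    if Equiv.Perm.sign (Fin.revPerm : Equiv.Perm (Fin (2 * m))) = 1 then Fin.revPerm
    else rho m * Fin.revPerm
  have hπ : π = Fin.revPerm ∨ (π = rho m * Fin.revPerm ∧ 1 ≤ m) := by
    by_cases h : Equiv.Perm.sign (Fin.revPerm : Equiv.Perm (Fin (2 * m))) = 1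
    · exact Or.inl (if_pos h)
    · refine Or.inr ⟨if_neg h, Nat.one_le_iff_ne_zero.2 fun h0 => h ?_⟩
      subst h0
      rw [show (Fin.revPerm : Equiv.Perm (Fin (2 * 0))) = 1 from
        Equiv.ext fun i => absurd i.isLt (by omega)]
      exact map_one _
  have hπR : RevC π := by
    rcases hπ with e | ⟨e, -⟩ <;> rw [e]
    · exact revC_rev
    · exact rho_revC.mul revC_rev
  have hs : Equiv.Perm.sign π = 1 := by
    by_cases h : Equiv.Perm.sign (Fin.revPerm : Equiv.Perm (Fin (2 * m))) = 1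
    · rwa [show π = Fin.revPerm from if_pos h]
    · rcases hπ with e | ⟨-, hm⟩
      · exact absurd (e.symm.trans (if_neg h)) (fun e' => h (by
          have := congrArg Equiv.Perm.sign e'
          rw [map_mul] at this
          rcases Int.units_eq_one_or (Equiv.Perm.sign (rho m)) with e1 | e1
          · exfalso
            have hm0 : m = 0 := by
              by_contra hm0
              rw [sign_rho (by omega)] at e1
              exact absurd e1 (by decide)
            subst hm0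
            exact h (by rw [show (Fin.revPerm : Equiv.Perm (Fin (2 * 0))) = 1 from
              Equiv.ext fun i => absurd i.isLt (by omega)]; exact map_one _)
          · rw [e1, neg_one_mul] at this
            rcases Int.units_eq_one_or (Equiv.Perm.sign (Fin.revPerm : Equiv.Perm (Fin (2 * m)))) with e2 | e2
            · exact e2
            · rw [e2] at this; exact absurd this (by decide)))
      · rw [show π = rho m * Fin.revPerm from if_neg h, map_mul, sign_rho hm,
          (Int.units_eq_one_or _).resolve_left h]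
        rfl
  refine ⟨π, hπR, hs, ?_, fun u huo hB' => ?_⟩
  · have hc : rho m * Fin.revPerm * rho m = (Fin.revPerm : Equiv.Perm (Fin (2 * m))) := Equiv.ext fun i => by
      simp only [Equiv.Perm.mul_apply, Fin.revPerm_apply]
      rw [← rho_revC, Fin.rev_inj]
      exact Equiv.Perm.congr_fun rho_sq i
    rcases hπ with e | ⟨e, -⟩ <;> rw [e]
    · exact hc
    · rw [show rho m * (rho m * Fin.revPerm) * rho m = rho m * (rho m * Fin.revPerm * rho m) by
        simp only [mul_assoc], hc]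
  obtain ⟨hu, huo⟩ := huo
  have hz : ∀ i j, j < i → u.1 (π i) (π j) = 0 := by
    intro i j hij
    have h0' := upper_zero hB'.1 hij
    rw [conj_apply (mono_permGL (F := F) π)] at h0'
    exact (mul_eq_zero.1 ((mul_eq_zero.1 h0').resolve_right ((mono_permGL (F := F) π).ne_zero j))).resolve_left
      (left_ne_zero_of_mul_eq_one (inv_mul_diag (mono_permGL (F := F) π) i))
  refine Units.ext (Matrix.ext fun a b => ?_)
  by_cases hab : a = b
  · subst hab
    rw [Units.val_one, one_apply_eq]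
    exact (mem_uni.1 hu).2 a
  rw [Units.val_one, one_apply_ne hab]
  rcases lt_or_gt_of_ne hab with hlt | hgt
  swap
  · exact (mem_uni.1 hu).1 a b hgt
  obtain ⟨i, rfl⟩ := π.surjective a
  obtain ⟨j, rfl⟩ := π.surjective b
  by_cases hij : j < i
  · exact hz i j hij
  have hij' : i < j := lt_of_le_of_ne (not_lt.1 hij) fun e => hab (congrArg π e)
  rcases hπ with e | ⟨e, hm⟩
  · rw [e, Fin.revPerm_apply, Fin.revPerm_apply] at hlt
    exact absurd (Fin.rev_lt_rev.1 hlt) (not_lt.2 hij'.le)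
  · rw [e, Equiv.Perm.mul_apply, Equiv.Perm.mul_apply, Fin.revPerm_apply, Fin.revPerm_apply] at hlt ⊢
    have hji : Fin.rev j < Fin.rev i := Fin.rev_lt_rev.2 hij'
    set x := Fin.rev i
    set y := Fin.rev j
    have hx := rho_val x
    have hy := rho_val y
    have := x.isLt
    rw [Fin.lt_def] at hlt hji
    have hval : x.val = m ∧ y.val = m - 1 := by
      split_ifs at hx hy <;> omega
    have hB2 := rho_conj_BO (uni_BO (F := F) (m := m) ⟨hu, huo⟩)
    have h0 := upper_zero hB2.1 (show y < x by rw [Fin.lt_def]; omega)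
    have e' := conj_apply (mono_permGL (F := F) (rho m)) (u : GL (Fin (2 * m)) F) x y
    rw [pP_inv rho_sq] at e'
    simp only [Subgroup.coe_subtype, pP] at h0 e'
    rw [e'] at h0
    exact (mul_eq_zero.1 ((mul_eq_zero.1 h0).resolve_right ((mono_permGL (F := F) (rho m)).ne_zero y))).resolve_left
      (left_ne_zero_of_mul_eq_one (by
        have := inv_mul_diag (mono_permGL (F := F) (rho m)) x
        rwa [pP_inv rho_sq] at this))

/-- The split structure. -/
theorem split (p : ℕ) [Fact p.Prime] [CharP F p] :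
    CfsgLib.BNSteinberg.Split (bnPair F m) p ((uni F (2 * m)).subgroupOf (GP F m)) where
  le := fun u hu => uni_BO ⟨hu, GP_le u.2⟩
  normal := fun b hb u hu => by
    obtain ⟨v, hv, h, -, hhm, e⟩ := exists_BO_decomp hb
    show (b : GL (Fin (2 * m)) F) * (u : GL (Fin (2 * m)) F) * (b : GL (Fin (2 * m)) F)⁻¹ ∈ uni F (2 * m)
    rw [show (b : GL (Fin (2 * m)) F) = v * h from e, show v * h * (u : GL (Fin (2 * m)) F) * (v * h)⁻¹ =
      v * (h * (u : GL (Fin (2 * m)) F) * h⁻¹) * v⁻¹ by group]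
    exact mul_mem (mul_mem hv.1 (diag_conj_uni hhm hu)) (inv_mem hv.1)
  pgroup := fun u => ⟨2 * m, Subtype.ext (Subtype.ext (Units.ext (by
    simpa using (mem_uni.1 u.2).pow_char (p := p))))⟩
  decomp := fun b hb => by
    obtain ⟨v, hv, h, hho, hhm, e⟩ := exists_BO_decomp hb
    exact ⟨⟨v, BO_le_GP (uni_BO hv)⟩, hv.1, ⟨h, BO_le_GP (diag_BO hhm hho)⟩,
      ⟨diag_BO hhm hho, 1, hhm⟩, Subtype.ext e⟩
  torus := fun h hh k hk => by
    obtain ⟨hb, π, hπ⟩ := hh
    have h1 := perm_one_of_upper hπ hb.1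
    subst h1
    set c : Fin (2 * m) → F := fun i => (h : GL (Fin (2 * m)) F).1 i i
    have hd : (h : GL (Fin (2 * m)) F).1 = Matrix.diagonal c := Matrix.ext fun i j => by
      by_cases e : i = j
      · subst e; rw [diagonal_apply_eq]
      · rw [diagonal_apply_ne _ e]; exact hπ i j e
    have hk' := congrArg (fun x : GP F m => (x : GL (Fin (2 * m)) F).1) hk
    simp only [SubgroupClass.coe_pow, Units.val_pow_eq_pow_val, hd, Matrix.diagonal_pow,
      OneMemClass.coe_one, Units.val_one] at hk'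
    refine Subtype.ext (Units.ext ?_)
    rw [hd, OneMemClass.coe_one, Units.val_one, ← Matrix.diagonal_one]
    congr 1
    funext i
    have hi : c i ^ p ^ k = 1 := by simpa using congrFun (congrFun hk' i) i
    have h2 : (c i - 1) ^ p ^ k = 0 := by rw [sub_pow_char_pow, one_pow, hi, sub_self]
    exact sub_eq_zero.1 (pow_eq_zero_iff (pow_ne_zero _ (Fact.out : p.Prime).ne_zero) |>.1 h2)
  rankone := by
    rintro _ ⟨i, rfl⟩ u hu e he hse
    have hT := node_tD (F := F) i
    have hse' : pP F (tD i) * (e : GL (Fin (2 * m)) F) * pP F (tD i) ∈ BO F m := by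
      have h : (pP F (tD i))⁻¹ * (e : GL (Fin (2 * m)) F) * pP F (tD i) ∈ BO F m := hse
      rwa [pP_inv hT.sq] at h
    show (pP F (tD i))⁻¹ * ((u : GL (Fin (2 * m)) F) * e * (u : GL (Fin (2 * m)) F)⁻¹) * pP F (tD i) ∈ BO F m
    rw [pP_inv hT.sq]
    exact hT.rank _ ⟨hu, GP_le u.2⟩ _ ⟨he, GP_le e.2⟩ hse'
  opp := by
    obtain ⟨π, hπR, hs, -, h⟩ := opp_perm (F := F) (m := m)
    exact ⟨⟨pP F π, pP_mem_GP hπR hs⟩, ⟨π, mono_permGL π⟩, fun u hu hB =>
      Subtype.ext (h _ ⟨hu, GP_le u.2⟩ hB)⟩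

end CfsgLib.TwistBN.Plus
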