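/-
The defect zero character at the prime two of a group of order dividing eighteen, modulo the centre.
-/
import Cfsg.Prelude.Def_Characters
import Cfsg.Agent.Lib.Char.DefectZero
import Cfsg.Agent.Lib.Char.Integral
import Cfsg.Agent.Lib.Char.Linear

set_option autoImplicit false
set_option linter.style.haveILetI false

namespace CfsgLib.TwistBN

theorem exists_quot_center_of_dvd_eighteen {p : ℕ} [Fact p.Prime] (hp2 : p = 2) {H : Type*} [Group H] [Finite H]
    (h18 : Nat.card H ∣ 18) :
    ∃ χ : H ⧸ Subgroup.center H → ℂ, Cfsg.IsIrrCharacter (H ⧸ Subgroup.center H) χ ∧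
      ∀ Q : Sylow p (H ⧸ Subgroup.center H), χ 1 = Nat.card Q ∧
        ∀ x : H ⧸ Subgroup.center H, x ∈ Q → x ≠ 1 → χ x = 0 := by
  classical
  subst hp2
  haveI := Fintype.ofFinite H
  set K := H ⧸ Subgroup.center H
  haveI := Fintype.ofFinite K
  have hK18 : Nat.card K ∣ 18 := (Subgroup.card_quotient_dvd_card _).trans h18
  by_cases h2 : 2 ∣ Nat.card K
  · have hv : (Nat.card K).factorization 2 = 1 := by
      have h1 := (Nat.prime_two.dvd_iff_one_le_factorization Nat.card_pos.ne').1 h2
      have h4 : ¬ 2 ^ 2 ∣ Nat.card K := fun h => by
        have := h.trans hK18; norm_num at this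
      have := mt (Nat.prime_two.pow_dvd_iff_le_factorization Nat.card_pos.ne').2 h4
      omega
    obtain ⟨A, hAi, hAc⟩ : ∃ A : Subgroup K, A.index = 2 ∧ ∀ a ∈ A, ∀ b ∈ A, a * b = b * a := by
      obtain ⟨c, hc⟩ := h2
      have hc9 : c ∣ 9 := by
        have := hc ▸ hK18
        exact Nat.dvd_of_mul_dvd_mul_left two_pos this
      obtain ⟨k, hk2, hk⟩ := (Nat.dvd_prime_pow Nat.prime_three).1 (show c ∣ 3 ^ 2 from hc9)
      haveI : Fact (Nat.Prime 3) := ⟨Nat.prime_three⟩
      let T : Sylow 3 K := default
      have hT : Nat.card T = c := by
        rw [T.card_eq_multiplicity, hc, hk, Nat.factorization_mul (by norm_num) (by positivity),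
          Finsupp.add_apply, Nat.prime_two.factorization, Finsupp.single_eq_of_ne (by norm_num),
          Nat.prime_three.factorization_pow, Finsupp.single_eq_same, zero_add]
      refine ⟨T, ?_, fun a ha b hb => ?_⟩
      · have := Subgroup.card_mul_index (T : Subgroup K)
        rw [hT, hc] at this
        have hc0 : 0 < c := by rw [hk]; positivity
        exact Nat.eq_of_mul_eq_mul_left hc0 (by rw [this, mul_comm])
      · have hcomm : ∀ x y : T, x * y = y * x := by
          rcases Nat.lt_or_ge k 2 with hk1 | hk1
          · haveI : IsCyclic T := by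
              interval_cases k
              · haveI : Subsingleton T := (Nat.card_eq_one_iff_unique.1 (by rw [hT, hk, pow_zero])).1
                infer_instance
              · exact isCyclic_of_prime_card (p := 3) (by rw [hT, hk, pow_one])
            exact fun x y => (IsCyclic.commGroup (α := T)).mul_comm x y
          · obtain rfl : k = 2 := by omega
            exact fun x y => (IsPGroup.commutative_of_card_eq_prime_sq (p := 3) (G := T) (hT.trans hk)) x y
        exact congrArg Subtype.val (hcomm ⟨a, ha⟩ ⟨b, hb⟩)
    have hne : ¬ ∀ a b : K, a * b = b * a := by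
      intro hK
      obtain ⟨t, ht⟩ := exists_prime_orderOf_dvd_card' 2 (h2.trans (Subgroup.card_quotient_dvd_card _))
      have ht2 : t * t = 1 := by rw [← sq, ← ht, pow_orderOf_eq_one]
      have hkey : ∀ a : H, Odd (orderOf a) → t * a * t⁻¹ = a := by
        intro a ha
        set c := t * a * t⁻¹ * a⁻¹ with hc
        have hcZ : c ∈ Subgroup.center H := by
          rw [← QuotientGroup.eq_one_iff, hc]
          simp only [QuotientGroup.mk_mul, QuotientGroup.mk_inv]
          rw [hK (t : K) (a : K)]
          group
        have hcc : ∀ x, x * c = c * x := Subgroup.mem_center_iff.1 hcZ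
        have h1 : t * a * t⁻¹ = c * a := by rw [hc]; group
        have h2 : a = c * (c * a) := by
          calc a = t * t * a * (t * t)⁻¹ := by rw [ht2]; group
            _ = t * (t * a * t⁻¹) * t⁻¹ := by group
            _ = t * (c * a) * t⁻¹ := by rw [h1]
            _ = c * (t * a * t⁻¹) := by rw [← mul_assoc t c a, hcc t]; group
            _ = c * (c * a) := by rw [h1]
        have hcsq : c ^ 2 = 1 := by
          rw [sq]
          have := h2.symm
          rwa [← mul_assoc, mul_eq_right] at this
        have hodd : c ^ orderOf a = 1 := by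
          have h3 : (c * a) ^ orderOf a = 1 := by
            rw [← h1, conj_pow, pow_orderOf_eq_one, mul_one, mul_inv_cancel]
          rwa [(show Commute c a from (hcc a).symm).mul_pow, pow_orderOf_eq_one, mul_one] at h3
        have : c = 1 := by
          have := pow_gcd_eq_one.2 ⟨hcsq, hodd⟩
          rwa [Nat.Coprime.gcd_eq_one (Nat.coprime_two_left.2 ha), pow_one] at this
        rw [h1, this, one_mul]
      have htZ : t ∈ Subgroup.center H := by
        refine Subgroup.mem_center_iff.2 fun a => ?_
        obtain ⟨e, he⟩ : ∃ e, e = orderOf a := ⟨_, rfl⟩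
        have hdvd : e ∣ 18 := he ▸ (orderOf_dvd_natCard a).trans h18
        rcases Nat.even_or_odd e with heven | hoddE
        · -- split the odd part
          obtain ⟨f, hf⟩ := heven
          have h9 : Odd f := by
            have : f ∣ 9 := Nat.dvd_of_mul_dvd_mul_left two_pos (by rw [two_mul, ← hf]; exact hdvd)
            exact (show Odd 9 by decide).of_dvd_nat this
          have hb : orderOf (a ^ 2) = f := by
            rw [orderOf_pow, ← he, hf, ← two_mul, Nat.gcd_eq_right (dvd_mul_right 2 f),
              Nat.mul_div_cancel_left _ two_pos]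
          have hbt := hkey _ (hb ▸ h9)
          -- the involution part is central
          have hinv : ∀ s : H, s * s = 1 → t * s = s * t := by
            intro s hs
            by_cases hs1 : s = 1
            · simp [hs1]
            have hos : orderOf s = 2 := orderOf_eq_prime (by rw [sq, hs]) hs1
            haveI : Fact (Nat.Prime 2) := ⟨Nat.prime_two⟩
            have hcz : Nat.card (Subgroup.zpowers t) = 2 := by rw [Nat.card_zpowers, ht]
            have hcs : Nat.card (Subgroup.zpowers s) = 2 := by rw [Nat.card_zpowers, hos]
            have hv2 : (Nat.card H).factorization 2 = 1 := by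
              have h1 := (Nat.prime_two.dvd_iff_one_le_factorization Nat.card_pos.ne').1
                (hcz ▸ Subgroup.card_subgroup_dvd_card _)
              have h4 : ¬ 2 ^ 2 ∣ Nat.card H := fun h => by
                have := h.trans h18; norm_num at this
              have := mt (Nat.prime_two.pow_dvd_iff_le_factorization Nat.card_pos.ne').2 h4
              omega
            obtain ⟨g, hg⟩ := MulAction.exists_smul_eq H
              (Sylow.ofCard (Subgroup.zpowers t) (by rw [hcz, hv2, pow_one]) : Sylow 2 H)
              (Sylow.ofCard (Subgroup.zpowers s) (by rw [hcs, hv2, pow_one]) : Sylow 2 H)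
            have hmem : g * t * g⁻¹ ∈ Subgroup.zpowers s := by
              have : MulAut.conj g t ∈ ((g • Sylow.ofCard (Subgroup.zpowers t) (by rw [hcz, hv2, pow_one]) :
                  Sylow 2 H) : Subgroup H) := by
                rw [Sylow.coe_subgroup_smul]
                exact Subgroup.smul_mem_pointwise_smul t (MulAut.conj g) _ (Subgroup.mem_zpowers t)
              rw [hg] at this
              exact this
            have hts : g * t * g⁻¹ = s := by
              obtain ⟨i, hi⟩ := hmem
              have hi' : s ^ i = g * t * g⁻¹ := hi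
              have hne1 : g * t * g⁻¹ ≠ 1 := fun e => by
                rw [conj_eq_one_iff] at e
                rw [e, orderOf_one] at ht
                exact absurd ht (by norm_num)
              rcases Int.even_or_odd i with ⟨j, hj⟩ | ⟨j, hj⟩
              · rw [hj, ← two_mul, _root_.zpow_mul, zpow_two, hs, one_zpow] at hi'
                exact absurd hi'.symm hne1
              · rw [hj, zpow_add_one, _root_.zpow_mul, zpow_two, hs, one_zpow, one_mul] at hi'
                exact hi'.symm
            -- `t` and `s` differ by a central element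
            have hc : (s : K) = (t : K) := by
              rw [← hts]
              simp only [QuotientGroup.mk_mul, QuotientGroup.mk_inv]
              rw [hK (g : K) (t : K), mul_assoc, mul_inv_cancel, mul_one]
            have hz := Subgroup.mem_center_iff.1 (QuotientGroup.eq.1 hc) t
            calc t * s = s * (t * (s⁻¹ * t)) * t⁻¹ * (s * t * t⁻¹) := by rw [hz]; group
              _ = s * t := by group
          have hsplit : a = (a ^ 2) ^ ((f + 1) / 2) * a ^ f := by
            rw [← pow_mul, ← pow_add, show 2 * ((f + 1) / 2) + f = e + 1 by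
              obtain ⟨j, hj⟩ := h9; omega, pow_succ, he, pow_orderOf_eq_one, one_mul]
          have hf2 : a ^ f * a ^ f = 1 := by rw [← pow_add, ← hf, he, pow_orderOf_eq_one]
          have hA : Commute t (a ^ 2) := by
            show t * a ^ 2 = a ^ 2 * t
            calc t * a ^ 2 = t * a ^ 2 * t⁻¹ * t := by group
              _ = a ^ 2 * t := by rw [hbt]
          have := (hA.pow_right ((f + 1) / 2)).mul_right (show Commute t (a ^ f) from hinv _ hf2)
          rw [← hsplit] at this
          exact this.eq.symm
        · have := hkey a (he ▸ hoddE)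
          calc a * t = t * a * t⁻¹ * t := by rw [this]
            _ = t * a := by group
      have hind : ¬ 2 ∣ Nat.card K := fun h => by
        have hz : 2 ∣ Nat.card (Subgroup.center H) := by
          have h' : orderOf (⟨t, htZ⟩ : Subgroup.center H) = 2 := by rw [Subgroup.orderOf_mk, ht]
          exact h' ▸ orderOf_dvd_natCard _
        have := Nat.mul_dvd_mul h hz
        rw [← Subgroup.card_eq_card_quotient_mul_card_subgroup] at this
        have := this.trans h18
        norm_num at this
      exact hind h2
    rw [CfsgLib.Char.comm_iff_forall_linear] at hne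
    push Not at hne
    obtain ⟨χ, hχ⟩ := hne
    obtain ⟨d, hd0, hd⟩ := CfsgLib.Char.exists_degree_pos χ.2
    have hd2 : d ≤ 2 := by
      have := CfsgLib.Char.degree_le_index_of_comm χ.2 A hAc
      rw [hd, hAi] at this
      simp only [Complex.natCast_re, Nat.cast_ofNat] at this
      exact_mod_cast this
    have hd1 : d ≠ 1 := fun h => hχ (by rw [hd, h, Nat.cast_one])
    obtain rfl : d = 2 := by omega
    refine ⟨χ, χ.2, fun Q => ⟨?_, fun x hx hx1 => ?_⟩⟩
    · rw [hd, Q.card_eq_multiplicity, hv, pow_one]
    · refine CfsgLib.Char.vanish_of_defect_zero χ.2 Nat.prime_two (n := 1) (by rwa [pow_one])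
        (fun h => by have := h.trans hK18; norm_num at this) hd (by norm_num) ?_
      obtain ⟨k, hk⟩ := IsPGroup.iff_orderOf.1 Q.2 ⟨x, hx⟩
      rw [Subgroup.orderOf_mk] at hk
      refine hk ▸ dvd_pow_self 2 fun h0 => hx1 ?_
      rwa [h0, pow_zero, orderOf_eq_one_iff] at hk
  · refine ⟨fun _ => 1, CfsgLib.Char.isIrrCharacter_one, fun Q => ?_⟩
    have hQ : Nat.card Q = 1 := by
      rw [Q.card_eq_multiplicity, Nat.factorization_eq_zero_of_not_dvd h2, pow_zero]
    refine ⟨by rw [hQ, Nat.cast_one], fun x hx hx1 => absurd ?_ hx1⟩
    exact congrArg Subtype.val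
      ((Nat.card_eq_one_iff_unique.1 hQ).1.elim (⟨x, hx⟩ : Q) 1)

end CfsgLib.TwistBN
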