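/-
The Steinberg character of the hyperbolic orthogonal groups.
-/
import Cfsg.Agent.Lib.TwistBN.PlusPair
import Cfsg.Agent.Lib.TwistBN.IndexTwo
import Cfsg.Agent.Lib.TwistBN.SmallTwo
import Cfsg.Agent.Lib.Classical.QuadPOmega

set_option autoImplicit false
set_option linter.unusedSectionVars false
set_option linter.style.haveILetI false

namespace CfsgLib.TwistBN.Plus

open Matrix CfsgLib.PronormalPSL CfsgLib.PronormalPSU CfsgLib.Classical

variable {F : Type*} [Field F] [Finite F] {m : ℕ}

theorem commutator_le_index_two {G : Type*} [Group G] {N : Subgroup G} (h : N.index = 2) :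
    commutator G ≤ N := by
  rw [commutator_def, Subgroup.commutator_le]
  intro a _ b _
  rw [commutatorElement_def, Subgroup.mul_mem_iff_of_index_two h,
    Subgroup.mul_mem_iff_of_index_two h, Subgroup.mul_mem_iff_of_index_two h,
    Subgroup.inv_mem_iff, Subgroup.inv_mem_iff]
  tauto

theorem GP_index (hm : 1 ≤ m) : ((GP F m).subgroupOf (oGL F m)).index = 2 := by
  refine Subgroup.index_eq_two_iff.2 ⟨⟨pP F (rho m), perm_mem rho_revC⟩, fun b => ?_⟩
  have hR : pP F (rho m) ∉ GP F m := fun h => by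
    have := (sign_mono h (mono_permGL (rho m))).2
    rw [sign_rho hm] at this
    exact absurd this (by decide)
  have hcell : ∀ (x : GL (Fin (2 * m)) F), x ∈ oGL F m →
      ∀ π, RevC π → Equiv.Perm.sign π = 1 → Mono π x.1 → x ∈ GP F m := by
    intro x hx π hπ hs hxm
    have hd : Mono 1 (x * (pP F π)⁻¹).1 := by
      have := mono_mul hxm (Mono.inv (mono_permGL (F := F) π))
      rwa [mul_inv_cancel] at this
    rw [show x = x * (pP F π)⁻¹ * pP F π by group]
    exact mul_mem (BO_le_GP (diag_BO hd (mul_mem hx (inv_mem (perm_mem hπ))))) (pP_mem_GP hπ hs)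
  obtain ⟨a, c, r, π, ha, hc, hr, hrm, hπ, e⟩ := exists_o_bruhat b.2
  have hexcl : (b : GL (Fin (2 * m)) F) * pP F (rho m) ∈ GP F m →
      (b : GL (Fin (2 * m)) F) ∉ GP F m := fun h1 h2 => hR (by
    have := mul_mem (inv_mem h2) h1
    rwa [inv_mul_cancel_left] at this)
  rcases Int.units_eq_one_or (Equiv.Perm.sign π) with hs | hs
  · have hb : (b : GL (Fin (2 * m)) F) ∈ GP F m := by
      rw [e]
      exact mul_mem (mul_mem (BO_le_GP (uni_BO ha)) (hcell r hr π hπ hs hrm)) (BO_le_GP (uni_BO hc))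
    exact Or.inr ⟨hb, fun h => hexcl h hb⟩
  · have hrR : r * pP F (rho m) ∈ GP F m :=
      hcell _ (mul_mem hr (perm_mem rho_revC)) _ (hπ.mul rho_revC)
        (by rw [map_mul, hs, sign_rho hm]; rfl) (mono_mul hrm (mono_permGL (rho m)))
    have hb : (b : GL (Fin (2 * m)) F) * pP F (rho m) ∈ GP F m := by
      rw [e, show a * r * c * pP F (rho m) =
        a * (r * pP F (rho m)) * ((pP F (rho m))⁻¹ * c * pP F (rho m)) by group]
      refine mul_mem (mul_mem (BO_le_GP (uni_BO ha)) hrR) (BO_le_GP ?_)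
      rw [pP_inv rho_sq]
      exact rho_conj_BO (uni_BO hc)
    exact Or.inl ⟨hb, hexcl hb⟩

/-- The isometry group of the standard hyperbolic form. -/
noncomputable def isoOGL (m : ℕ) :
    Cfsg.isometryGroup F (Cfsg.quadFormPlus m F) ≃* oGL F m :=
  ((Units.mapEquiv (Matrix.reindexAlgEquiv F F (halves m)).toMulEquiv).subgroupMap
    (Cfsg.isometryGroup F (Cfsg.quadFormPlus m F))).trans (MulEquiv.subgroupCongr (by
      ext g
      rw [Subgroup.mem_map, mem_oGL]
      have key : ∀ (A : Matrix (Fin m ⊕ Fin m) (Fin m ⊕ Fin m) F) v,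
          ((Matrix.reindexAlgEquiv F F (halves m) A) *ᵥ v) ∘ halves m = A *ᵥ (v ∘ halves m) := by
        intro A v
        funext i
        simp only [Function.comp_apply, Matrix.reindexAlgEquiv_apply, Matrix.reindex_apply,
          Matrix.mulVec, dotProduct, Matrix.submatrix_apply, Equiv.symm_apply_apply]
        rw [← (halves m).sum_comp]
        simp
      constructor
      · rintro ⟨x, hx, rfl⟩ v
        show QS ((Matrix.reindexAlgEquiv F F (halves m) x.1) *ᵥ v) = QS v
        rw [QS, QS, key]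
        exact hx _ (v ∘ halves m)
      · intro h
        obtain ⟨x, rfl⟩ := (Units.mapEquiv (Matrix.reindexAlgEquiv F F (halves m)).toMulEquiv).surjective g
        refine ⟨x, fun u _ => ?_, rfl⟩
        have h' := h (u ∘ (halves m).symm)
        have e : (u ∘ (halves m).symm) ∘ halves m = u := by funext i; simp
        change QS ((Matrix.reindexAlgEquiv F F (halves m) x.1) *ᵥ (u ∘ (halves m).symm)) = _ at h'
        rw [QS, QS, key, e] at h'
        exact h'))

theorem omega_plus_equiv [Fintype F] (p : ℕ) [Fact p.Prime] [CharP F p] (m : ℕ) (hm : 1 ≤ m)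
    (hex : ¬(m = 2 ∧ Fintype.card F = 2)) :
    Nonempty (Cfsg.Omega F (Cfsg.quadFormPlus m F) ≃* GP F m) ∨
      (p ≠ 2 ∧ ∃ M : Subgroup (GP F m), M.index = 2 ∧
        Nonempty (Cfsg.Omega F (Cfsg.quadFormPlus m F) ≃* M)) := by
  classical
  let e := isoOGL (F := F) m
  set O' : Subgroup (oGL F m) := (Cfsg.Omega F (Cfsg.quadFormPlus m F)).map e.toMonoidHom with hO'
  have hO : O' = commutator (oGL F m) := map_commutator_equiv e
  set N := (GP F m).subgroupOf (oGL F m) with hN
  have hNi : N.index = 2 := GP_index hm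
  have hle : O' ≤ N := hO ▸ commutator_le_index_two hNi
  let eN : N ≃* GP F m := Subgroup.subgroupOfEquivOfLe GP_le
  let M : Subgroup (GP F m) := (O'.subgroupOf N).map eN.toMonoidHom
  let e' : Cfsg.Omega F (Cfsg.quadFormPlus m F) ≃* M :=
    ((e.subgroupMap _).trans (Subgroup.subgroupOfEquivOfLe hle).symm).trans (eN.subgroupMap _)
  have hidx : O'.index = (Cfsg.Omega F (Cfsg.quadFormPlus m F)).index :=
    Subgroup.index_map_equiv _ e
  have hM : M.index * 2 = O'.index := by
    rw [show M.index = (O'.subgroupOf N).index from Subgroup.index_map_equiv _ eN]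
    have h := Subgroup.relIndex_mul_index hle
    rw [hNi] at h
    exact h
  have hQ := polarNondeg_qPlus (F := F) m
  have hcard : Fintype.card (Fin m ⊕ Fin m) = 2 * m := by simp [two_mul]
  by_cases h2 : (2 : F) = 0
  · haveI : CharP F 2 := CharTwo.of_one_ne_zero_of_two_eq_zero one_ne_zero h2
    have hi := index_Omega_two (qPlus m F) hQ (by omega) (by
      by_contra h
      push Not at h
      exact hex ⟨by omega, h.1⟩)
    rw [coe_qPlus] at hi
    have hMtop : M = ⊤ := Subgroup.index_eq_one.1 (by omega)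
    exact Or.inl ⟨(e'.trans (MulEquiv.subgroupCongr hMtop)).trans Subgroup.topEquiv⟩
  · have hi := index_Omega_odd (qPlus m F) h2 hQ (by omega)
    rw [coe_qPlus] at hi
    have hp2 : p ≠ 2 := by
      rintro rfl
      exact h2 (by exact_mod_cast CharP.cast_eq_zero F 2)
    exact Or.inr ⟨hp2, M, by omega, ⟨e'⟩⟩

theorem pomega_plus_steinberg [Fintype F] (p : ℕ) [Fact p.Prime] [CharP F p] (m : ℕ) (hm : 1 ≤ m)
    (hex : ¬(m = 2 ∧ Fintype.card F = 2)) :
    ∃ χ : Cfsg.POmega F (Cfsg.quadFormPlus m F) → ℂ,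
      Cfsg.IsIrrCharacter (Cfsg.POmega F (Cfsg.quadFormPlus m F)) χ ∧
      ∀ Q : Sylow p (Cfsg.POmega F (Cfsg.quadFormPlus m F)), χ 1 = Nat.card Q ∧
        ∀ x : Cfsg.POmega F (Cfsg.quadFormPlus m F), x ∈ Q → x ≠ 1 → χ x = 0 := by
  rcases omega_plus_equiv (F := F) p m hm hex with he | ⟨hp2, M, hM, ⟨e⟩⟩
  · exact (split (F := F) (m := m) p).exists_quot_center he.some
  · exact (split (F := F) (m := m) p).exists_quot_center_index_two hp2 M hM e

/-- The exceptional case: two planes over the field of two elements. -/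
theorem pomega_plus_steinberg_two [Fintype F] (p : ℕ) [Fact p.Prime] [CharP F p]
    (hq : Fintype.card F = 2) :
    ∃ χ : Cfsg.POmega F (Cfsg.quadFormPlus 2 F) → ℂ,
      Cfsg.IsIrrCharacter (Cfsg.POmega F (Cfsg.quadFormPlus 2 F)) χ ∧
      ∀ Q : Sylow p (Cfsg.POmega F (Cfsg.quadFormPlus 2 F)), χ 1 = Nat.card Q ∧
        ∀ x : Cfsg.POmega F (Cfsg.quadFormPlus 2 F), x ∈ Q → x ≠ 1 → χ x = 0 := by
  classical
  obtain ⟨n, -, hn⟩ := FiniteField.card F p
  have hp2 : p = 2 := by
    have h : p ∣ 2 := hq ▸ hn ▸ dvd_pow_self p n.pos.ne'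
    exact (Nat.prime_dvd_prime_iff_eq Fact.out Nat.prime_two).1 h
  let e := isoOGL (F := F) 2
  set O' : Subgroup (oGL F 2) := (Cfsg.Omega F (Cfsg.quadFormPlus 2 F)).map e.toMonoidHom with hO'
  have hO : O' = commutator (oGL F 2) := map_commutator_equiv e
  haveI : O'.Normal := by rw [hO]; infer_instance
  set N := (GP F 2).subgroupOf (oGL F 2) with hN
  have hNi : N.index = 2 := GP_index (by omega)
  have hle : O' ≤ N := hO ▸ commutator_le_index_two hNi
  let eN : N ≃* GP F 2 := Subgroup.subgroupOfEquivOfLe GP_le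
  let M : Subgroup (GP F 2) := (O'.subgroupOf N).map eN.toMonoidHom
  haveI : M.Normal := Subgroup.Normal.map inferInstance _ eN.surjective
  let e' : Cfsg.Omega F (Cfsg.quadFormPlus 2 F) ≃* M :=
    ((e.subgroupMap _).trans (Subgroup.subgroupOfEquivOfLe hle).symm).trans (eN.subgroupMap _)
  have h36 : Nat.card (GP F 2) = 36 := by
    have h := N.card_mul_index
    rw [hNi, ← Nat.card_congr e.toEquiv, card_isometryGroup_coe (qPlus 2 F) (coe_qPlus 2),
      card_qAut_qPlus, card_qAut_plus, Nat.card_congr eN.toEquiv, hq] at h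
    rw [Finset.prod_range_one] at h
    omega
  by_cases h4 : 4 ∣ Nat.card M
  · have hodd : ∀ x : GP F 2, ∀ k : ℕ, x ^ 2 ^ k = 1 → x ∈ M := by
      intro x k hx
      rw [← QuotientGroup.eq_one_iff]
      obtain ⟨j, hj⟩ := h4
      have hi : (Nat.card (GP F 2 ⧸ M)).Coprime (2 ^ k) := by
        refine Nat.Coprime.pow_right _ (Nat.coprime_two_right.2 (Odd.of_dvd_nat (show Odd 9 by decide) ⟨j, ?_⟩))
        have h := M.card_mul_index
        rw [h36, hj] at h
        show 9 = M.index * j
        nlinarith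
      have h1 : (x : GP F 2 ⧸ M) ^ Nat.card (GP F 2 ⧸ M) = 1 := pow_card_eq_one'
      have h2 : (x : GP F 2 ⧸ M) ^ 2 ^ k = 1 := by rw [← QuotientGroup.mk_pow, hx, QuotientGroup.mk_one]
      have h3 := pow_gcd_eq_one.2 ⟨h1, h2⟩
      rw [hi.gcd_eq_one, pow_one] at h3
      exact h3
    have hMtop : M = ⊤ := by
      refine eq_top_iff.2 fun g _ => ?_
      have key : GP F 2 ≤ M.map (GP F 2).subtype := by
        conv_lhs => rw [GP]
        refine (Subgroup.closure_le _).2 ?_
        rintro x (hx | ⟨i, rfl⟩)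
        · obtain ⟨v, hv, h, hho, hhm, rfl⟩ := exists_BO_decomp hx
          have hh1 : h = 1 := by
            refine Units.ext (Matrix.ext fun a b => ?_)
            by_cases hab : a = b
            · subst hab
              rw [Units.val_one, one_apply_eq]
              have := FiniteField.pow_card_sub_one_eq_one (h.1 a a) (hhm.ne_zero a)
              rwa [hq, pow_one] at this
            · rw [Units.val_one, one_apply_ne hab]; exact hhm a b hab
          rw [hh1, mul_one]
          obtain ⟨k, hk⟩ := (split (F := F) (m := 2) p).pgroup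
            ⟨⟨v, BO_le_GP (uni_BO hv)⟩, hv.1⟩
          subst hp2
          exact ⟨⟨v, BO_le_GP (uni_BO hv)⟩, hodd _ k (congrArg Subtype.val hk), rfl⟩
        · exact ⟨⟨_, refl_mem_GP i⟩, hodd _ 1 (Subtype.ext (by
            rw [pow_one, sq]; exact pP_sq (node_tD (F := F) i).sq)), rfl⟩
      obtain ⟨y, hy, he⟩ := key g.2
      rwa [← Subtype.ext he]
    exact (split (F := F) (m := 2) p).exists_quot_center
      ((e'.trans (MulEquiv.subgroupCongr hMtop)).trans Subgroup.topEquiv)
  · have h18 : Nat.card M ∣ 18 := by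
      have h : Nat.card M ∈ Nat.divisors 36 :=
        Nat.mem_divisors.2 ⟨h36 ▸ Subgroup.card_subgroup_dvd_card M, by norm_num⟩
      exact (show ∀ n ∈ Nat.divisors 36, ¬ 4 ∣ n → n ∣ 18 by decide) _ h h4
    exact exists_quot_center_of_dvd_eighteen hp2 ((Nat.card_congr e'.toEquiv).symm ▸ h18)

end CfsgLib.TwistBN.Plus
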