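/-
Fixed points of the graph-field automorphism of the hyperbolic orthogonal group.
-/
import Cfsg.Agent.Lib.TwistBN.PlusPair

set_option autoImplicit false
set_option linter.unusedSectionVars false

namespace CfsgLib.TwistBN.Minus

open Matrix CfsgLib.PronormalPSL CfsgLib.PronormalPSU CfsgLib.Fusion.UniTri CfsgLib.GLUnipotent
open CfsgLib.TwistBN.Plus

variable {F : Type*} [Field F] [Finite F] {m : ℕ} {σ : F ≃+* F}

variable (m) in
/-- The graph-field automorphism. -/
noncomputable def psi (σ : F ≃+* F) : GL (Fin (2 * m)) F →* GL (Fin (2 * m)) F :=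
  (MulAut.conj (pP F (rho m))).toMonoidHom.comp (Matrix.GeneralLinearGroup.map σ.toRingHom)

theorem psi_def (g : GL (Fin (2 * m)) F) :
    psi m σ g = pP F (rho m) * Matrix.GeneralLinearGroup.map σ.toRingHom g * pP F (rho m) := by
  show pP F (rho m) * _ * (pP F (rho m))⁻¹ = _
  rw [pP_inv rho_sq]

theorem psi_apply (g : GL (Fin (2 * m)) F) (i j : Fin (2 * m)) :
    (psi m σ g).1 i j = σ (g.1 (rho m i) (rho m j)) := by
  have e := conj_apply (mono_permGL (F := F) (rho m)) (Matrix.GeneralLinearGroup.map σ.toRingHom g) i j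
  rw [psi_def]
  rw [pP_inv rho_sq] at e
  refine e.trans ?_
  rw [permGL_apply, permGL_apply, if_pos (show i = rho m (rho m i) from (Equiv.Perm.congr_fun rho_sq i).symm), if_pos rfl, one_mul,
    mul_one]
  rfl

theorem map_mem_oGL {g : GL (Fin (2 * m)) F} (hg : g ∈ oGL F m) :
    Matrix.GeneralLinearGroup.map σ.toRingHom g ∈ oGL F m := by
  obtain ⟨h1, h2⟩ := mem_oGL_iff.1 hg
  have hJ : (gram (1 : Fin (2 * m) → Fˣ)).map σ = gram (1 : Fin (2 * m) → Fˣ) := by
    refine Matrix.ext fun i j => ?_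
    simp [gram, apply_ite σ]
  refine mem_oGL_iff.2 ⟨th_one_iff.2 ?_, fun j => ?_⟩
  · have h := congrArg (fun A : Matrix (Fin (2 * m)) (Fin (2 * m)) F => A.map σ) (th_one_iff.1 h1)
    simp only [Matrix.map_mul, hJ, Matrix.transpose_map] at h
    exact h
  · have h := congrArg σ (h2 j)
    rw [map_zero] at h
    refine Eq.trans ?_ h
    simp only [QS, Cfsg.quadFormPlus, map_sum, map_mul]
    rfl

theorem psi_mem_oGL {g : GL (Fin (2 * m)) F} (hg : g ∈ oGL F m) : psi m σ g ∈ oGL F m := by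
  rw [psi_def]
  exact mul_mem (mul_mem (perm_mem rho_revC) (map_mem_oGL hg)) (perm_mem rho_revC)

theorem map_uni {g : GL (Fin (2 * m)) F} (hg : g ∈ uni F (2 * m)) :
    Matrix.GeneralLinearGroup.map σ.toRingHom g ∈ uni F (2 * m) := by
  refine mem_uni.2 ⟨fun i j hij => ?_, fun i => ?_⟩
  · show σ (g.1 i j) = 0
    rw [(mem_uni.1 hg).1 i j hij, map_zero]
  · show σ (g.1 i i) = 1
    rw [(mem_uni.1 hg).2, map_one]

theorem psi_uni {g : GL (Fin (2 * m)) F} (hg : g ∈ uni F (2 * m) ⊓ oGL F m) :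
    psi m σ g ∈ uni F (2 * m) ⊓ oGL F m := by
  refine ⟨mem_uni.2 ⟨fun i j hij => ?_, fun i => ?_⟩, psi_mem_oGL hg.2⟩
  · have h := (rho_conj_BO (uni_BO ⟨map_uni (σ := σ) hg.1, map_mem_oGL hg.2⟩)).1
    rw [← psi_def] at h
    exact upper_zero h hij
  · rw [psi_apply, (mem_uni.1 hg.1).2, map_one]

theorem psi_mono {π : Equiv.Perm (Fin (2 * m))} {g : GL (Fin (2 * m)) F} (hg : Mono π g.1) :
    Mono (rho m * π * rho m) (psi m σ g).1 := fun x y h => by
  rw [psi_apply, hg _ _ fun e => h ?_, map_zero]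
  rw [Equiv.Perm.mul_apply, Equiv.Perm.mul_apply, ← e, ← Equiv.Perm.mul_apply, rho_sq]
  rfl

theorem psi_pP (π : Equiv.Perm (Fin (2 * m))) : psi m σ (pP F π) = pP F (rho m * π * rho m) := by
  refine Units.ext (Matrix.ext fun i j => ?_)
  rw [psi_apply, permGL_apply, permGL_apply, apply_ite σ, map_one, map_zero]
  refine if_congr ?_ rfl rfl
  rw [Equiv.Perm.mul_apply, Equiv.Perm.mul_apply]
  constructor
  · intro e
    rw [← e, ← Equiv.Perm.mul_apply, rho_sq]
    rfl
  · rintro rfl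
    rw [← Equiv.Perm.mul_apply (rho m) (rho m), rho_sq]
    rfl

variable (m σ) in
/-- The fixed points. -/
noncomputable def fixP : Subgroup (GL (Fin (2 * m)) F) :=
  MonoidHom.eqLocus (psi m σ) (MonoidHom.id _)

theorem mem_fixP {g : GL (Fin (2 * m)) F} : g ∈ fixP m σ ↔ psi m σ g = g := Iff.rfl

theorem pP_fixP {π : Equiv.Perm (Fin (2 * m))} (h : rho m * π * rho m = π) :
    pP F π ∈ fixP m σ := by
  rw [mem_fixP, psi_pP, h]

variable (m σ) in
/-- The fixed points of the group generated by the upper triangular isometries and the reflections. -/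
noncomputable def GM : Subgroup (GL (Fin (2 * m)) F) := GP F m ⊓ fixP m σ

variable (m σ) in
/-- The fixed unipotent isometries. -/
noncomputable def UM : Subgroup (GL (Fin (2 * m)) F) := uni F (2 * m) ⊓ oGL F m ⊓ fixP m σ

variable (m σ) in
/-- The fixed upper triangular isometries. -/
noncomputable def BM : Subgroup (GL (Fin (2 * m)) F) := BO F m ⊓ fixP m σ

theorem UM_le_BM : UM m σ ≤ BM m σ := fun _ h => ⟨uni_BO h.1, h.2⟩

theorem BM_le_GM : BM m σ ≤ GM m σ := fun _ h => ⟨BO_le_GP h.1, h.2⟩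

theorem GM_le_oGL : GM m σ ≤ oGL F m := fun _ h => GP_le h.1

theorem diag_BM {h : GL (Fin (2 * m)) F} (hm : Mono 1 h.1) (hh : h ∈ oGL F m) (hf : h ∈ fixP m σ) :
    h ∈ BM m σ := ⟨diag_BO hm hh, hf⟩

/-- Membership of a big cell. -/
def InCell (π : Equiv.Perm (Fin (2 * m))) (g : GL (Fin (2 * m)) F) : Prop :=
  ∃ b₁ ∈ BO F m, ∃ b₂ ∈ BO F m, g = b₁ * pP F π * b₂

theorem InCell.unique {π π' : Equiv.Perm (Fin (2 * m))} {g : GL (Fin (2 * m)) F}
    (h : InCell π g) (h' : InCell π' g) : π = π' := by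
  obtain ⟨b₁, hb₁, b₂, hb₂, rfl⟩ := h
  obtain ⟨b₃, hb₃, b₄, hb₄, e⟩ := h'
  obtain ⟨u, hu, t, -, ht, e1⟩ := exists_BO_decomp ((BO F m).mul_mem ((BO F m).inv_mem hb₃) hb₁)
  obtain ⟨u', hu', t', -, ht', e2⟩ := exists_BO_decomp ((BO F m).mul_mem hb₄ ((BO F m).inv_mem hb₂))
  have e3 : u * (t * pP F π) = (pP F π' * t') * (t'⁻¹ * u' * t') := by
    calc u * (t * pP F π) = b₃⁻¹ * (b₁ * pP F π * b₂) * b₂⁻¹ := by
          rw [← mul_assoc, ← e1]; group
      _ = pP F π' * (b₄ * b₂⁻¹) := by rw [e]; group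
      _ = _ := by rw [e2]; group
  have hm1 : Mono π (t * pP F π).1 := by
    have := mono_mul ht (mono_permGL (F := F) π)
    rwa [one_mul] at this
  have hm2 : Mono π' (pP F π' * t').1 := by
    have := mono_mul (mono_permGL (F := F) π') ht'
    rwa [mul_one] at this
  have hc : t'⁻¹ * u' * t' ∈ uni F (2 * m) :=
    conj_uni ht' hu'.1 (mem_upat.2 fun i j hij => (mem_uni.1 hu'.1).1 i j hij)
  exact (mono_unique hu.1 hc hm1 hm2 e3).1

/-- Bruhat decomposition in the fixed points. -/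
theorem exists_fix_bruhat {g : GL (Fin (2 * m)) F} (hg : g ∈ oGL F m) (hf : g ∈ fixP m σ) :
    ∃ a c r π, a ∈ UM m σ ∧ c ∈ UM m σ ∧ r ∈ oGL F m ∧ r ∈ fixP m σ ∧ Mono π r.1 ∧ RevC π ∧
      rho m * π * rho m = π ∧ g = a * r * c := by
  obtain ⟨a, c, r, π, ha, hap, hc, hr, hrm, hrev, e⟩ := exists_o_bruhat_upat hg
  have hA := psi_uni (σ := σ) ha
  have hC := psi_uni (σ := σ) hc
  have e' : psi m σ a * psi m σ r * psi m σ c = g := by
    rw [← map_mul, ← map_mul, ← e]
    exact hf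
  have e1 : ((psi m σ a)⁻¹ * a) * r = psi m σ r * (psi m σ c * c⁻¹) := by
    calc ((psi m σ a)⁻¹ * a) * r = (psi m σ a)⁻¹ * (a * r * c) * c⁻¹ := by group
      _ = psi m σ r * (psi m σ c * c⁻¹) := by rw [← e, ← e']; group
  set x := (psi m σ a)⁻¹ * a with hx
  have hxU : x ∈ uni F (2 * m) := mul_mem (inv_mem hA.1) ha.1
  obtain ⟨hπ, hrr⟩ := mono_unique hxU (mul_mem hC.1 (inv_mem hc.1)) hrm (psi_mono hrm) e1
  -- the first factor is fixed
  set q : Equiv.Perm (Fin (2 * m)) := π * Fin.revPerm with hqdef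
  have hq : ∀ i, rho m (q i) =
      q (rho m i) := by
    intro i
    simp only [hqdef, Equiv.Perm.mul_apply, Fin.revPerm_apply]
    rw [rho_revC]
    conv_rhs => rw [hπ]
    simp only [Equiv.Perm.mul_apply]
    rw [← Equiv.Perm.mul_apply (rho m) (rho m), rho_sq]
    rfl
  have hap' : psi m σ a ∈ upat F (π * Fin.revPerm) := by
    refine mem_upat.2 fun i j hij => ?_
    rw [psi_apply, hq, hq]
    by_cases h : rho m j < rho m i
    · rw [mem_upat.1 hap _ _ h, map_zero]
    · have hi := rho_val i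
      have hj := rho_val j
      have := i.isLt
      rw [Fin.lt_def] at hij h
      have hval : i.val = m ∧ j.val = m - 1 := by
        split_ifs at hi hj <;> omega
      have ei : rho m i = ⟨m - 1, by omega⟩ := Fin.ext (by
        split_ifs at hi <;> (dsimp only; omega))
      have ej : rho m j = ⟨m, by omega⟩ := Fin.ext (by
        split_ifs at hj <;> (dsimp only; omega))
      -- the two middle points are exchanged among themselves
      have hfix : ∀ z : Fin (2 * m), rho m (q z) ≠ q z →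
          (q z).val = m - 1 ∨ (q z).val = m := by
        intro z hz
        by_contra hcon
        push Not at hcon
        refine hz (Fin.ext ?_)
        rw [rho_val, if_neg hcon.1, if_neg hcon.2]
      have h1 := hfix (rho m i) (by
        rw [hq, q.injective.ne_iff, ei]
        intro e'
        have := congrArg Fin.val e'
        rw [rho_val, if_pos rfl] at this
        dsimp only at this
        omega)
      have h2 := hfix (rho m j) (by
        rw [hq, q.injective.ne_iff, ej]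
        intro e'
        have := congrArg Fin.val e'
        rw [rho_val, if_neg (show ¬ m = m - 1 by omega), if_pos rfl] at this
        dsimp only at this
        omega)
      have hne : (q (rho m i)).val ≠ (q (rho m j)).val := fun e' => by
        have := congrArg Fin.val (q.injective (Fin.ext e'))
        rw [ei, ej] at this
        dsimp only at this
        omega
      have h0 := (mem_oGL_iff.1 ha.2).2 ⟨m, by omega⟩
      have hlow : a.1 ⟨m, by omega⟩ ⟨m - 1, by omega⟩ = 0 :=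
        (mem_uni.1 ha.1).1 _ _ (Fin.lt_def.2 (show m - 1 < m by omega))
      have hup : a.1 ⟨m - 1, by omega⟩ ⟨m, by omega⟩ = 0 := by
        have h5 : QS (fun x => a.1 x ⟨m, by omega⟩) = a.1 ⟨m - 1, by omega⟩ ⟨m, by omega⟩ := by
          unfold QS Cfsg.quadFormPlus
          rw [Finset.sum_eq_single (⟨m - 1, by omega⟩ : Fin m)]
          · have e2 : halves m (Sum.inr (⟨m - 1, by omega⟩ : Fin m)) = (⟨m, by omega⟩ : Fin (2 * m)) :=
              Fin.ext (by show 2 * m - 1 - (m - 1) = m; omega)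
            show a.1 (halves m (Sum.inl _)) _ * a.1 (halves m (Sum.inr _)) _ = _
            rw [e2, (mem_uni.1 ha.1).2, mul_one]
            rfl
          · intro y _ hy
            show a.1 (halves m (Sum.inl _)) _ * a.1 (halves m (Sum.inr y)) _ = 0
            rw [(mem_uni.1 ha.1).1 (halves m (Sum.inr y)) _ (Fin.lt_def.2 ?_), mul_zero]
            show m < 2 * m - 1 - y.val
            rw [ne_eq, Fin.ext_iff] at hy
            have := y.isLt
            dsimp only at hy
            omega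
          · simp
        exact h5.symm.trans h0
      rcases h1 with h1 | h1 <;> rcases h2 with h2 | h2
      · exact absurd (h1.trans h2.symm) hne
      · rw [show q (rho m i) = (⟨m - 1, by omega⟩ : Fin (2 * m)) from Fin.ext h1,
          show q (rho m j) = (⟨m, by omega⟩ : Fin (2 * m)) from Fin.ext h2, hup,
          map_zero]
      · rw [show q (rho m i) = (⟨m, by omega⟩ : Fin (2 * m)) from Fin.ext h1,
          show q (rho m j) = (⟨m - 1, by omega⟩ : Fin (2 * m)) from Fin.ext h2, hlow,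
          map_zero]
      · exact absurd (h1.trans h2.symm) hne
  have hx2 : x ∈ upat F (π * Fin.revPerm) := mul_mem (inv_mem hap') hap
  have hx3 : x ∈ upat F π := by
    refine mem_upat.2 fun i j hij => ?_
    have ex : r⁻¹ * x * r = psi m σ c * c⁻¹ := by
      rw [mul_assoc, e1, ← hrr, inv_mul_cancel_left]
    have h := (mem_uni.1 (mul_mem hC.1 (inv_mem hc.1))).1 i j hij
    rw [← ex, conj_apply hrm] at h
    refine (mul_eq_zero.1 ((mul_eq_zero.1 h).resolve_right (hrm.ne_zero j))).resolve_left ?_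
    exact left_ne_zero_of_mul_eq_one (inv_mul_diag hrm i)
  have hx0 : x = 1 := eq_one_of_mem_upat hxU hx2 hx3
  refine ⟨a, c, r, π, ⟨ha, inv_mul_eq_one.1 hx0⟩, ⟨hc, ?_⟩, hr, hrr.symm, hrm, hrev, hπ.symm, e⟩
  rw [hx0, one_mul, ← hrr, left_eq_mul] at e1
  exact mul_inv_eq_one.1 e1

/-- A fixed element of a big cell lies in the small cell. -/
theorem fix_cell {g : GL (Fin (2 * m)) F} (hf : g ∈ fixP m σ) {π : Equiv.Perm (Fin (2 * m))}
    (h : InCell π g) (hπR : RevC π) :
    rho m * π * rho m = π ∧ ∃ b₁ ∈ BM m σ, ∃ b₂ ∈ BM m σ, g = b₁ * pP F π * b₂ := by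
  have hgo : g ∈ oGL F m := by
    obtain ⟨b₁, hb₁, b₂, hb₂, rfl⟩ := h
    exact mul_mem (mul_mem hb₁.2 (perm_mem hπR)) hb₂.2
  obtain ⟨a, c, r, π', ha, hc, hr, hrf, hrm, -, hcom, e⟩ := exists_fix_bruhat hgo hf
  have hd : Mono 1 (r * (pP F π')⁻¹).1 := by
    have := mono_mul hrm (Mono.inv (mono_permGL (F := F) π'))
    rwa [mul_inv_cancel] at this
  have hrev' : RevC π' := revC_of_mem hrm (th_of_mem hr)
  have hdo : r * (pP F π')⁻¹ ∈ oGL F m := mul_mem hr (inv_mem (perm_mem hrev'))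
  have he : g = a * (r * (pP F π')⁻¹) * pP F π' * c := by rw [e]; group
  have hmem : a * (r * (pP F π')⁻¹) ∈ BM m σ :=
    mul_mem (UM_le_BM ha) (diag_BM hd hdo (mul_mem hrf (inv_mem (pP_fixP hcom))))
  obtain rfl : π = π' := h.unique ⟨_, hmem.1, _, (UM_le_BM hc).1, he⟩
  exact ⟨hcom, _, hmem, _, UM_le_BM hc, he⟩

/-- The decomposition of the fixed Borel subgroup. -/
theorem exists_BM_decomp {b : GL (Fin (2 * m)) F} (hb : b ∈ BM m σ) :
    ∃ u ∈ UM m σ, ∃ h, h ∈ oGL F m ∧ h ∈ fixP m σ ∧ Mono 1 h.1 ∧ b = u * h := by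
  obtain ⟨a, c, r, π, ha, hc, hr, hrf, hrm, -, -, e⟩ := exists_fix_bruhat hb.1.2 hb.2
  have hru : r ∈ Cfsg.upperTriangularGL (2 * m) F := by
    rw [show r = a⁻¹ * b * c⁻¹ by rw [e]; group]
    exact mul_mem (mul_mem (inv_mem (uni_le_upper ha.1.1)) hb.1.1) (inv_mem (uni_le_upper hc.1.1))
  have h1 := perm_one_of_upper hrm hru
  subst h1
  refine ⟨a * (r * c * r⁻¹), ⟨⟨mul_mem ha.1.1 (diag_conj_uni hrm hc.1.1), ?_⟩, ?_⟩, r, hr, hrf, hrm,
    by rw [e]; group⟩
  · exact (oGL F m).mul_mem ha.1.2 ((oGL F m).mul_mem ((oGL F m).mul_mem hr hc.1.2) ((oGL F m).inv_mem hr))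
  · exact (fixP m σ).mul_mem ha.2 ((fixP m σ).mul_mem ((fixP m σ).mul_mem hrf hc.2) ((fixP m σ).inv_mem hrf))

end CfsgLib.TwistBN.Minus
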