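/-
The permutations commuting with the reversal and the middle swap.
-/
import Cfsg.Agent.Lib.TwistBN.PlusPair

set_option autoImplicit false
set_option linter.unusedSectionVars false

namespace CfsgLib.TwistBN.Minus

open Matrix CfsgLib.PronormalPSL CfsgLib.PronormalPSU CfsgLib.GLUnipotent
open CfsgLib.TwistBN.Plus

variable {m : ℕ}

/-- The element of the middle node. -/
def tMid (m : ℕ) (hm : 2 ≤ m) : Equiv.Perm (Fin (2 * m)) :=
  tPerm (m - 2) (by omega) * tRho m hm

theorem rho_comm_tPerm {k : ℕ} (hk : k + 2 < m) :
    rho m * tPerm (n := 2 * m) k (by omega) * rho m = tPerm k (by omega) := by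
  have hfix : ∀ z : Fin (2 * m), (z.val = m - 1 ∨ z.val = m) → tPerm (n := 2 * m) k (by omega) z = z :=
    fun z hz => Fin.ext (by rw [tPerm_val]; exact tVal_other (by omega) (by omega) (by omega) (by omega) (by omega))
  have e : tPerm (n := 2 * m) k (by omega) * rho m = rho m * tPerm k (by omega) := by
    rw [rho, dif_pos (show 1 ≤ m by omega), Equiv.mul_swap_eq_swap_mul, hfix _ (Or.inl rfl),
      hfix _ (Or.inr rfl)]
  rw [mul_assoc, e, ← mul_assoc, rho_sq, one_mul]

theorem tPerm_last_val (hm : 2 ≤ m) (i : Fin (2 * m)) :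
    (tPerm (n := 2 * m) (m - 2) (by omega) i).val = if i.val = m - 2 then m - 1
      else if i.val = m - 1 then m - 2 else if i.val = m + 1 then m
      else if i.val = m then m + 1 else i.val := by
  simp only [tPerm_val, tVal]
  split_ifs <;> omega

theorem tRho_val (hm : 2 ≤ m) (i : Fin (2 * m)) :
    (tRho m hm i).val = if i.val = m - 2 then m else if i.val = m then m - 2
      else if i.val = m - 1 then m + 1 else if i.val = m + 1 then m - 1 else i.val := by
  have hv := rho_val i
  have hw := tPerm_last_val hm (rho m i)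
  have hz := rho_val (tPerm (n := 2 * m) (m - 2) (by omega) (rho m i))
  show (rho m (tPerm (m - 2) _ (rho m i))).val = _
  generalize (rho m (tPerm (n := 2 * m) (m - 2) _ (rho m i))).val = z at hz ⊢
  generalize (tPerm (n := 2 * m) (m - 2) _ (rho m i)).val = y at hz hw
  generalize (rho m i).val = x at hv hw
  generalize i.val = v at hv ⊢
  subst hz
  by_cases c1 : v = m - 1
  · rw [if_pos c1] at hv; subst hv; split_ifs at hw ⊢ <;> omega
  rw [if_neg c1] at hv
  by_cases c2 : v = m
  · rw [if_pos c2] at hv; subst hv; split_ifs at hw ⊢ <;> omega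
  rw [if_neg c2] at hv; subst hv; split_ifs at hw ⊢ <;> omega

theorem last_comm (hm : 2 ≤ m) :
    tPerm (n := 2 * m) (m - 2) (by omega) * tRho m hm = tRho m hm * tPerm (m - 2) (by omega) := by
  refine Equiv.ext fun i => Fin.ext ?_
  simp only [Equiv.Perm.mul_apply]
  have h1 := tRho_val hm i
  have h2 := tPerm_last_val hm i
  rw [tPerm_last_val hm (tRho m hm i), tRho_val hm (tPerm (m - 2) _ i)]
  generalize (tRho m hm i).val = x at h1 ⊢
  generalize (tPerm (n := 2 * m) (m - 2) _ i).val = y at h2 ⊢
  generalize i.val = v at h1 h2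
  by_cases c1 : v = m - 2
  · rw [if_pos c1] at h1 h2; subst h1 h2; split_ifs <;> omega
  by_cases c2 : v = m - 1
  · rw [if_neg c1, if_pos c2] at h2; rw [if_neg c1, if_neg (show ¬ v = m by omega), if_pos c2] at h1
    subst h1 h2; split_ifs <;> omega
  by_cases c3 : v = m + 1
  · rw [if_neg c1, if_neg c2, if_pos c3] at h2
    rw [if_neg c1, if_neg (show ¬ v = m by omega), if_neg c2, if_pos c3] at h1
    subst h1 h2; split_ifs <;> omega
  by_cases c4 : v = m
  · rw [if_neg c1, if_neg c2, if_neg c3, if_pos c4] at h2; rw [if_neg c1, if_pos c4] at h1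
    subst h1 h2; split_ifs <;> omega
  rw [if_neg c1, if_neg c2, if_neg c3, if_neg c4] at h2
  rw [if_neg c1, if_neg c4, if_neg c2, if_neg c3] at h1
  subst h1 h2; split_ifs <;> omega

theorem last_ne (hm : 2 ≤ m) : tPerm (n := 2 * m) (m - 2) (by omega) ≠ tRho m hm := fun e => by
  have h := congrArg (fun π : Equiv.Perm (Fin (2 * m)) => (π ⟨m - 2, by omega⟩).val) e
  simp only [tRho_val hm, tPerm_last_val hm] at h
  split_ifs at h <;> omega

theorem rho_tRho (hm : 2 ≤ m) :
    rho m * tRho m hm * rho m = tPerm (n := 2 * m) (m - 2) (by omega) := by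
  calc rho m * tRho m hm * rho m =
        rho m * rho m * tPerm (m - 2) (by omega) * (rho m * rho m) := by simp only [tRho, mul_assoc]
    _ = _ := by rw [rho_sq, one_mul, mul_one]

theorem tRho_sq (hm : 2 ≤ m) : tRho m hm * tRho m hm = 1 := by
  calc tRho m hm * tRho m hm = rho m * (tPerm (m - 2) (by omega) * ((rho m * rho m) *
        tPerm (m - 2) (by omega))) * rho m := by simp only [tRho, mul_assoc]
    _ = 1 := by rw [rho_sq, one_mul, tPerm_sq, mul_one, rho_sq]

theorem tRho_revC (hm : 2 ≤ m) : RevC (tRho m hm) :=
  (rho_revC.mul (tPerm_revC (by omega))).mul rho_revC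

theorem sign_tRho (hm : 2 ≤ m) : Equiv.Perm.sign (tRho m hm) = 1 := by
  rw [tRho, map_mul, map_mul, sign_rho (by omega), sign_tPerm (by omega)]; simp

theorem tMid_sq (hm : 2 ≤ m) : tMid m hm * tMid m hm = 1 := by
  rw [tMid, mul_assoc, ← mul_assoc (tRho m hm), ← last_comm, mul_assoc (tPerm _ _), tRho_sq,
    mul_one, tPerm_sq]

theorem rho_comm_tMid (hm : 2 ≤ m) : rho m * tMid m hm * rho m = tMid m hm := by
  rw [tMid, show rho m * (tPerm (m - 2) (by omega) * tRho m hm) * rho m =
    (rho m * tPerm (m - 2) (by omega) * rho m) * (rho m * (rho m * rho m)⁻¹ * tRho m hm * rho m) by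
      group, rho_sq, inv_one, mul_one, rho_tRho hm]
  exact (last_comm hm).symm

/-- The permutation of a simple reflection of the fixed points. -/
abbrev Idx (m : ℕ) : Type := {i : Fin m // i.val + 1 < m}

/-- The simple reflections of the fixed points. -/
def tF (i : Idx m) : Equiv.Perm (Fin (2 * m)) :=
  if i.1.val + 2 < m then tPerm i.1.val (by have := i.2; omega)
  else tMid m (by have := i.2; omega)

theorem tF_revC (i : Idx m) : RevC (tF i) := by
  unfold tF
  split_ifs
  · exact tPerm_revC _
  · exact (tPerm_revC _).mul (tRho_revC _)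

theorem tF_sq (i : Idx m) : tF i * tF i = 1 := by
  unfold tF
  split_ifs
  · exact tPerm_sq _
  · exact tMid_sq _

theorem tF_sign (i : Idx m) : Equiv.Perm.sign (tF i) = 1 := by
  unfold tF
  split_ifs with h
  · exact sign_tPerm (by omega)
  · have := i.2
    rw [tMid, map_mul, sign_tPerm (by omega), sign_tRho, one_mul]

theorem tF_comm (i : Idx m) : rho m * tF i * rho m = tF i := by
  unfold tF
  split_ifs with h
  · exact rho_comm_tPerm h
  · exact rho_comm_tMid _

theorem tF_inj : Function.Injective (tF (m := m)) := by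
  rintro ⟨i, hi⟩ ⟨j, hj⟩ h
  have hne : ∀ k, ∀ hk : k + 2 < m, tPerm (n := 2 * m) k (by omega) ≠ tMid m (by omega) := by
    intro k hk e
    have e' : (tPerm (n := 2 * m) k (by omega) ⟨m - 1, by omega⟩).val =
        (tMid m (by omega) ⟨m - 1, by omega⟩).val := by rw [e]
    rw [tPerm_val, tMid, Equiv.Perm.mul_apply, tPerm_last_val (by omega), tRho_val (by omega)] at e'
    dsimp only at e'
    rw [tVal_other (by omega) (by omega) (by omega) (by omega) (by omega)] at e'
    rw [if_neg (show ¬ m - 1 = m - 2 by omega), if_neg (show ¬ m - 1 = m by omega), if_pos rfl] at e'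
    split_ifs at e' <;> omega
  simp only [tF] at h
  split_ifs at h with h1 h2 h2
  · exact Subtype.ext (Fin.ext (tPerm_inj (by omega) (by omega) h))
  · exact absurd h (hne _ h1)
  · exact absurd h.symm (hne _ h2)
  · exact Subtype.ext (Fin.ext (show i.val = j.val by simp only [not_lt] at *; omega))

theorem comm_apply {π : Equiv.Perm (Fin (2 * m))} (h : rho m * π * rho m = π) (i : Fin (2 * m)) :
    rho m (π i) = π (rho m i) := by
  conv_rhs => rw [← h]
  simp only [Equiv.Perm.mul_apply]
  rw [← Equiv.Perm.mul_apply (rho m) (rho m), rho_sq]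
  rfl

theorem comm_mul {a b : Equiv.Perm (Fin (2 * m))} (ha : rho m * a * rho m = a)
    (hb : rho m * b * rho m = b) : rho m * (a * b) * rho m = a * b := by
  conv_rhs => rw [← ha, ← hb]
  calc rho m * (a * b) * rho m = rho m * a * 1 * b * rho m := by rw [mul_one]; simp only [mul_assoc]
    _ = _ := by rw [← rho_sq (m := m)]; simp only [mul_assoc]

/-- Even permutations commuting with the reversal and the middle swap are products of the reflections. -/
theorem revF_induction {P : Equiv.Perm (Fin (2 * m)) → Prop} (h1 : P 1)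
    (hstep : ∀ π, ∀ i : Idx m, P π → P (π * tF i)) :
    ∀ {π : Equiv.Perm (Fin (2 * m))}, RevC π → rho m * π * rho m = π →
      Equiv.Perm.sign π = 1 → P π := by
  intro π
  induction hn : invD π using Nat.strong_induction_on generalizing π with
  | _ c ih =>
    intro hπ hcom hs
    by_cases h : ∃ i : Idx m, invD (π * tF i) < invD π
    · obtain ⟨i, hlt⟩ := h
      have := hstep _ i (ih _ (hn ▸ hlt) rfl (hπ.mul (tF_revC i)) (comm_mul hcom (tF_comm i))
        (by rw [map_mul, hs, tF_sign, one_mul]))
      rwa [mul_assoc, tF_sq, mul_one] at this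
    push Not at h
    by_contra hP
    have hne : π ≠ 1 := fun e => hP (e ▸ h1)
    have hm0 : 1 ≤ m := by
      by_contra h0
      exact hne (Equiv.ext fun i => absurd i.isLt (by omega))
    -- no descent at an outer node
    have hout : ∀ k, ∀ hk : k + 2 < m, ¬ ∀ i j : Fin (2 * m), i < j → blk k i = blk k j → π j < π i := by
      intro k hk hd
      have := h ⟨⟨k, by omega⟩, by show k + 1 < m; omega⟩
      rw [tF, if_pos hk] at this
      exact absurd (invD_lt (by omega) hd) (not_lt.2 this)
    -- nor at the last node
    have hlast : ∀ hm : 2 ≤ m,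
        ¬ ∀ i j : Fin (2 * m), i < j → blk (m - 2) i = blk (m - 2) j → π j < π i := by
      intro hm hd
      have hA := invD_lt (show m - 2 + 1 < m by omega) hd
      set A := tPerm (n := 2 * m) (m - 2) (by omega) with hAdef
      have hAR : RevC A := tPerm_revC _
      have hd2 : ∀ i j : Fin (2 * m), i < j → blk (m - 2) i = blk (m - 2) j →
          (π * A * rho m) j < (π * A * rho m) i := by
        rcases block_dichotomy (show 2 * (m - 2) + 2 ≤ 2 * m by omega)
          ((hπ.mul hAR).mul rho_revC) with ⟨h', -⟩ | ⟨-, h'⟩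
        · exfalso
          have hpm : π ⟨m - 1, by omega⟩ < π ⟨m - 2, by omega⟩ :=
            hd _ _ (Fin.lt_def.2 (show m - 2 < m - 1 by omega)) (by
              have := blk_node (n := 2 * m) (k := m - 2) (show 2 * (m - 2) + 2 ≤ 2 * m by omega)
              simpa [show m - 2 + 1 = m - 1 by omega] using this)
          -- images of the relevant points
          have e1 : (A * rho m) (⟨m - 2, by omega⟩ : Fin (2 * m)) = ⟨m - 1, by omega⟩ := Fin.ext (by
            simp only [Equiv.Perm.mul_apply, hAdef, tPerm_last_val hm, rho_val]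
            split_ifs <;> omega)
          have e2 : (A * rho m) (⟨m - 2 + 1, by omega⟩ : Fin (2 * m)) =
              Fin.rev (⟨m - 2, by omega⟩ : Fin (2 * m)) := Fin.ext (by
            simp only [Equiv.Perm.mul_apply, hAdef, tPerm_last_val hm, rho_val, Fin.val_rev]
            split_ifs <;> omega)
          rw [mul_assoc, Equiv.Perm.mul_apply, Equiv.Perm.mul_apply π, e1, e2, ← hπ, Fin.val_rev] at h'
          rw [Fin.lt_def] at hpm
          -- the middle points are permuted among themselves
          have hmid : (π ⟨m - 1, by omega⟩).val = m - 1 ∨ (π ⟨m - 1, by omega⟩).val = m := by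
            by_contra hcon
            push Not at hcon
            have e := comm_apply hcom ⟨m - 1, by omega⟩
            have e' : rho m (π ⟨m - 1, by omega⟩) = π ⟨m - 1, by omega⟩ := Fin.ext (by
              rw [rho_val, if_neg hcon.1, if_neg hcon.2])
            have := congrArg Fin.val (π.injective (e.symm.trans e'))
            rw [rho_val, if_pos rfl] at this
            dsimp only at this
            omega
          have := (π ⟨m - 2, by omega⟩).isLt
          omega
        · exact fun i j hij hb => h' i j hij hb
      have hB := invD_lt (show m - 2 + 1 < m by omega) hd2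
      rw [invD_mul_rho, ← invD_mul_rho (π * A * rho m * A)] at hB
      have := h ⟨⟨m - 2, by omega⟩, by show m - 2 + 1 < m; omega⟩
      rw [tF, if_neg (show ¬ m - 2 + 2 < m by omega)] at this
      have e : π * tMid m hm = π * A * rho m * A * rho m := by
        simp only [tMid, tRho, ← hAdef, mul_assoc]
      rw [e] at this
      exact absurd (hB.trans hA) (not_lt.2 this)
    -- hence only the middle swap is left
    have hπρ : π * rho m = 1 := by
      by_contra hne'
      obtain ⟨k, hk, hd⟩ := exists_descent (hπ.mul rho_revC) hne'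
      have hd' := hd _ _ (Fin.lt_def.2 (Nat.lt_succ_self k)) (blk_node hk)
      rw [Fin.lt_def, Equiv.Perm.mul_apply, Equiv.Perm.mul_apply] at hd'
      have hmid : ∀ x : Fin (2 * m), (x.val = m - 1 ∨ x.val = m) →
          ((π x).val = m - 1 ∨ (π x).val = m) := by
        intro x hx
        by_contra hcon
        push Not at hcon
        have e' : rho m (π x) = π x := Fin.ext (by rw [rho_val, if_neg hcon.1, if_neg hcon.2])
        have := congrArg Fin.val (π.injective ((comm_apply hcom x).symm.trans e'))
        rw [rho_val] at this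
        split_ifs at this <;> omega
      have hout' : ∀ a, ∀ ha : a + 1 < m, (π ⟨a, by omega⟩).val < (π ⟨a + 1, by omega⟩).val := by
        intro a ha
        rcases block_dichotomy (show 2 * a + 2 ≤ 2 * m by omega) hπ with ⟨h', -⟩ | ⟨-, h'⟩
        · exact h'
        · by_cases ha2 : a + 2 < m
          · exact absurd (fun i j hij hb => h' i j hij hb) (hout a ha2)
          · obtain rfl : a = m - 2 := by omega
            exact absurd (fun i j hij hb => h' i j hij hb) (hlast (by omega))
      have r1 := rho_val (⟨k, by omega⟩ : Fin (2 * m))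
      have r2 := rho_val (⟨k + 1, by omega⟩ : Fin (2 * m))
      dsimp only at r1 r2
      by_cases hk2 : k + 2 < m
      · rw [if_neg (by omega), if_neg (by omega)] at r1 r2
        have e1 : rho m (⟨k, by omega⟩ : Fin (2 * m)) = ⟨k, by omega⟩ := Fin.ext r1
        have e2 : rho m (⟨k + 1, by omega⟩ : Fin (2 * m)) = ⟨k + 1, by omega⟩ := Fin.ext r2
        rw [e1, e2] at hd'
        exact absurd (hout' k (by omega)) (by omega)
      by_cases hk1 : k + 2 = m
      · rw [if_neg (by omega), if_neg (by omega)] at r1
        have e1 : rho m (⟨k, by omega⟩ : Fin (2 * m)) = ⟨k, by omega⟩ := Fin.ext r1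
        rw [e1] at hd'
        have h3 := hout' k (by omega)
        have hm1 := hmid (⟨k + 1, by omega⟩ : Fin (2 * m)) (Or.inl (show k + 1 = m - 1 by omega))
        have hm2 := hmid (rho m ⟨k + 1, by omega⟩) (Or.inr (by rw [r2, if_pos (by omega)]))
        have hne3 : (π (rho m ⟨k + 1, by omega⟩)).val ≠ (π ⟨k, by omega⟩).val := fun e => by
          have := congrArg Fin.val (π.injective (Fin.ext e))
          rw [r2, if_pos (by omega)] at this
          dsimp only at this
          omega
        omega
      · -- the middle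
        have hk' : k + 1 = m := by omega
        have hm1 := hmid (rho m ⟨k, by omega⟩) (Or.inr (by rw [r1, if_pos (by omega)]))
        have hm2 := hmid (rho m ⟨k + 1, by omega⟩) (Or.inl (by rw [r2, if_neg (by omega), if_pos hk']))
        have hmA := hmid ⟨m - 1, by omega⟩ (Or.inl rfl)
        have ea : rho m (⟨k + 1, by omega⟩ : Fin (2 * m)) = ⟨m - 1, by omega⟩ :=
          Fin.ext (by rw [r2, if_neg (by omega), if_pos hk'])
        rw [ea] at hd' hm2
        -- π fixes the two middle points, so it has a descent elsewhere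
        obtain ⟨l, hl, hdl⟩ := exists_descent hπ hne
        have hdl' := hdl _ _ (Fin.lt_def.2 (Nat.lt_succ_self l)) (blk_node hl)
        rw [Fin.lt_def] at hdl'
        by_cases hl1 : l + 1 < m
        · exact absurd (hout' l hl1) (by omega)
        · have eb : rho m (⟨k, by omega⟩ : Fin (2 * m)) = ⟨l + 1, by omega⟩ :=
            Fin.ext (by rw [r1, if_pos (by omega)]; show m = l + 1; omega)
          have ec : (⟨m - 1, by omega⟩ : Fin (2 * m)) = ⟨l, by omega⟩ :=
            Fin.ext (show m - 1 = l by omega)
          rw [eb, ec] at hd'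
          omega
    have : π = rho m := by rw [← mul_one π, ← rho_sq (m := m), ← mul_assoc, hπρ, one_mul]
    rw [this, sign_rho hm0] at hs
    exact absurd hs (by decide)

end CfsgLib.TwistBN.Minus
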