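/-
The BN pair of the fixed points of the graph-field automorphism.
-/
import Cfsg.Agent.Lib.TwistBN.MinusFix
import Cfsg.Agent.Lib.TwistBN.MinusPerm

set_option autoImplicit false
set_option linter.unusedSectionVars false

namespace CfsgLib.TwistBN.Minus

open Matrix CfsgLib.PronormalPSL CfsgLib.PronormalPSU CfsgLib.Fusion.UniTri CfsgLib.GLUnipotent
open CfsgLib.TwistBN.Plus

variable {F : Type*} [Field F] [Finite F] {m : ℕ} {σ : F ≃+* F}

theorem pP_one : pP F (1 : Equiv.Perm (Fin (2 * m))) = 1 := map_one _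

theorem InCell.mem_of_one {g : GL (Fin (2 * m)) F}
    (h : InCell (1 : Equiv.Perm (Fin (2 * m))) g) : g ∈ BO F m := by
  obtain ⟨b₁, hb₁, b₂, hb₂, rfl⟩ := h
  rw [pP_one, mul_one]
  exact mul_mem hb₁ hb₂

theorem InCell.mul_right {π : Equiv.Perm (Fin (2 * m))} {g b : GL (Fin (2 * m)) F}
    (h : InCell π g) (hb : b ∈ BO F m) : InCell π (g * b) := by
  obtain ⟨b₁, hb₁, b₂, hb₂, rfl⟩ := h
  exact ⟨b₁, hb₁, b₂ * b, mul_mem hb₂ hb, by rw [mul_assoc]⟩

theorem node_inCell {T : Equiv.Perm (Fin (2 * m))} (hT : Node F T)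
    {π : Equiv.Perm (Fin (2 * m))} (hπ : RevC π) {b : GL (Fin (2 * m)) F} (hb : b ∈ BO F m) :
    InCell (T * π) (pP F T * b * pP F π) ∨ InCell π (pP F T * b * pP F π) := by
  obtain ⟨b₁, hb₁, b₂, hb₂, e | e⟩ := hT.step π hπ b hb
  · exact Or.inl ⟨b₁, hb₁, b₂, hb₂, e⟩
  · exact Or.inr ⟨b₁, hb₁, b₂, hb₂, e⟩

/-- Two different reflections cannot move an element to the same place outside the Borel subgroup. -/
theorem two_cells {A B : Equiv.Perm (Fin (2 * m))} (hA : Node F A) (hB : Node F B) (hne : A ≠ B)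
    {x y : GL (Fin (2 * m)) F} (hx : x ∈ BO F m) (hy : y ∈ BO F m)
    (h : pP F A * x * pP F A = pP F B * y * pP F B) : pP F A * x * pP F A ∈ BO F m := by
  have h1 := node_inCell hA hA.rev hx
  have h2 := node_inCell hB hB.rev hy
  rw [hA.sq] at h1
  rw [hB.sq, ← h] at h2
  rcases h1 with h1 | h1
  · exact h1.mem_of_one
  · rcases h2 with h2 | h2
    · exact h2.mem_of_one
    · exact absurd (h1.unique h2) hne

/-- What is needed from a reflection of the fixed points. -/
structure FNode (σ : F ≃+* F) (T : Equiv.Perm (Fin (2 * m))) : Prop where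
  cell : ∀ π, RevC π → rho m * π * rho m = π → ∀ b ∈ BM m σ,
    InCell (T * π) (pP F T * b * pP F π) ∨ InCell π (pP F T * b * pP F π)
  rank : ∀ u ∈ UM m σ, ∀ e ∈ UM m σ,
    pP F T * e * pP F T ∈ BM m σ → pP F T * (u * e * u⁻¹) * pP F T ∈ BM m σ
  moves : ∃ b ∈ BM m σ, pP F T * b * pP F T ∉ BM m σ

theorem pP_conj_apply {T : Equiv.Perm (Fin (2 * m))} (hT : T * T = 1) (g : GL (Fin (2 * m)) F)
    (i j : Fin (2 * m)) : (pP F T * g * pP F T).1 i j = g.1 (T i) (T j) := by
  have e := conj_apply (mono_permGL (F := F) T) g i j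
  rw [pP_inv hT] at e
  refine e.trans ?_
  rw [permGL_apply, permGL_apply, if_pos (show i = T (T i) from (Equiv.Perm.congr_fun hT i).symm),
    if_pos rfl, one_mul, mul_one]

/-- The root element of an outer node and its image. -/
theorem exists_root {k : ℕ} (hk : k + 1 < m) : ∃ u : GL (Fin (2 * m)) F,
    u ∈ uni F (2 * m) ⊓ oGL F m ∧
    u.1 = 1 + Matrix.single (⟨k, by omega⟩ : Fin (2 * m)) ⟨k + 1, by omega⟩ 1 +
      Matrix.single (Fin.rev (⟨k + 1, by omega⟩ : Fin (2 * m))) (Fin.rev ⟨k, by omega⟩) (-1) ∧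
    (psi m σ u).1 = 1 + Matrix.single (rho m ⟨k, by omega⟩) (rho m ⟨k + 1, by omega⟩) 1 +
      Matrix.single (rho m (Fin.rev (⟨k + 1, by omega⟩ : Fin (2 * m))))
        (rho m (Fin.rev ⟨k, by omega⟩)) (-1) ∧
    psi m σ (psi m σ u) = u := by
  set a : Fin (2 * m) := ⟨k, by omega⟩ with hA
  set b : Fin (2 * m) := ⟨k + 1, by omega⟩ with hB
  have va : a.val = k := rfl
  have vb : b.val = k + 1 := rfl
  have hab : a < b := Fin.lt_def.2 (by omega)
  have hb : b < Fin.rev b := Fin.lt_def.2 (by rw [Fin.val_rev]; omega)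
  have hf := short_mem (d := (1 : Fin (2 * m) → Fˣ)) (σ := RingEquiv.refl F) (fun _ => by simp)
    hab hb (by simp)
  simp only [Pi.one_apply, Units.val_one, mul_one] at hf
  set u := tgl hab.ne (1 : F) * tgl (Fin.rev_lt_rev.2 hab).ne (-1) with hu
  have hform : u.1 = 1 + Matrix.single a b 1 + Matrix.single (Fin.rev b) (Fin.rev a) (-1) := by
    refine Matrix.ext fun i j => ?_
    rw [hu, tgl_mul_apply _ _ hb.ne, Matrix.add_apply, Matrix.add_apply, Matrix.one_apply,
      Matrix.single_apply, Matrix.single_apply]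
    simp only [eq_comm (a := a), eq_comm (a := b), eq_comm (a := Fin.rev a), eq_comm (a := Fin.rev b)]
  have hbd : BD k u.1 := fun i j hij => by
    rw [hform, Matrix.add_apply, Matrix.add_apply, Matrix.one_apply_ne (fun e => hij (by rw [e])),
      Matrix.single_apply, Matrix.single_apply, if_neg, if_neg, add_zero, add_zero]
    · rintro ⟨rfl, rfl⟩
      exact hij ((blk_rev_iff (by omega) _ _).2 (blk_node (show 2 * k + 2 ≤ 2 * m by omega)).symm)
    · rintro ⟨rfl, rfl⟩
      exact hij (blk_node (show 2 * k + 2 ≤ 2 * m by omega))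
  have hrr : ∀ x y : Fin (2 * m), x = rho m y ↔ rho m x = y := fun x y => by
    constructor
    · rintro rfl; exact Equiv.Perm.congr_fun rho_sq y
    · rintro rfl; exact (Equiv.Perm.congr_fun rho_sq x).symm
  have hψ : ∀ i j, (psi m σ u).1 i j = u.1 (rho m i) (rho m j) := by
    intro i j
    rw [psi_apply, hform]
    simp only [Matrix.add_apply, Matrix.one_apply, Matrix.single_apply, apply_ite σ, map_add,
      map_one, map_zero, map_neg]
  refine ⟨u, ⟨mul_mem (tgl_uni hab 1) (tgl_uni (Fin.rev_lt_rev.2 hab) (-1)),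
    bd_mem hk hbd (mem_fixS.1 hf).1⟩, hform, Matrix.ext fun i j => ?_,
    Units.ext (Matrix.ext fun i j => ?_)⟩
  · rw [hψ, hform]
    simp only [Matrix.add_apply, Matrix.one_apply, Matrix.single_apply, (rho m).injective.eq_iff]
    simp only [hrr]
  · rw [psi_apply, hψ, ← Equiv.Perm.mul_apply, ← Equiv.Perm.mul_apply, rho_sq]
    show σ (u.1 i j) = u.1 i j
    rw [hform]
    simp only [Matrix.add_apply, Matrix.one_apply, Matrix.single_apply, apply_ite σ, map_add,
      map_one, map_zero, map_neg]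

theorem fnode_tPerm {k : ℕ} (hk : k + 2 < m) :
    FNode σ (tPerm (n := 2 * m) k (by omega)) := by
  have hN := node_tPerm (F := F) (show k + 1 < m by omega)
  have hTf : pP F (tPerm (n := 2 * m) k (by omega)) ∈ fixP m σ := pP_fixP (rho_comm_tPerm hk)
  refine ⟨fun π hπ _ b hb => node_inCell hN hπ hb.1, fun u hu e he h => ⟨hN.rank u hu.1 e he.1 h.1,
    (fixP m σ).mul_mem ((fixP m σ).mul_mem hTf ((fixP m σ).mul_mem ((fixP m σ).mul_mem hu.2 he.2)
      ((fixP m σ).inv_mem hu.2))) hTf⟩, ?_⟩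
  obtain ⟨u, hu, hform, hψ, -⟩ := exists_root (F := F) (σ := σ) (show k + 1 < m by omega)
  have hfix : ∀ z : Fin (2 * m), z.val ≠ m - 1 → z.val ≠ m → rho m z = z :=
    fun z h1 h2 => Fin.ext (by rw [rho_val, if_neg h1, if_neg h2])
  rw [hfix _ (show k ≠ m - 1 by omega) (show k ≠ m by omega),
    hfix _ (show k + 1 ≠ m - 1 by omega) (show k + 1 ≠ m by omega),
    hfix (Fin.rev (⟨k + 1, by omega⟩ : Fin (2 * m))) (by rw [Fin.val_rev]; dsimp only; omega) (by rw [Fin.val_rev]; dsimp only; omega),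
    hfix (Fin.rev (⟨k, by omega⟩ : Fin (2 * m))) (by rw [Fin.val_rev]; dsimp only; omega) (by rw [Fin.val_rev]; dsimp only; omega),
    ← hform] at hψ
  refine ⟨u, ⟨uni_BO hu, Units.ext hψ⟩, fun h => ?_⟩
  have h0 := upper_zero h.1.1 (show (⟨k, by omega⟩ : Fin (2 * m)) < ⟨k + 1, by omega⟩ from
    Fin.lt_def.2 (Nat.lt_succ_self k))
  rw [pP_conj_apply hN.sq] at h0
  have e1 : tPerm (n := 2 * m) k (by omega) ⟨k + 1, by omega⟩ = (⟨k, by omega⟩ : Fin (2 * m)) :=
    Fin.ext (by
      rw [tPerm_val]; show tVal k (2 * m) (k + 1) = k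
      rw [tVal_k1 (by omega), if_neg (by omega)])
  have e2 : tPerm (n := 2 * m) k (by omega) ⟨k, by omega⟩ = (⟨k + 1, by omega⟩ : Fin (2 * m)) :=
    Fin.ext (by
      rw [tPerm_val]; show tVal k (2 * m) k = k + 1
      rw [tVal_k (by omega), if_neg (by omega)])
  rw [e1, e2, hform] at h0
  simp [Matrix.one_apply, Matrix.single_apply, Fin.ext_iff, Fin.val_rev,
    show ¬ 2 * m - (k + 1 + 1) = k by omega] at h0

theorem fnode_tMid (hm : 2 ≤ m) : FNode σ (tMid m hm) := by
  set A := tPerm (n := 2 * m) (m - 2) (show 2 * (m - 2) + 2 ≤ 2 * m by omega) with hAdef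
  set B := tRho m hm with hBdef
  have hA : Node F A := node_tPerm (show m - 2 + 1 < m by omega)
  have hB : Node F B := hA.conj (by omega)
  have hne : A ≠ B := last_ne hm
  have hAB : A * B = B * A := last_comm hm
  have hρB : rho m * B * rho m = A := rho_tRho hm
  have hT : pP F (tMid m hm) = pP F A * pP F B := pP_mul A B
  have hpAB : pP F A * pP F B = (pP F B * pP F A : GL (Fin (2 * m)) F) := by
    rw [← pP_mul, ← pP_mul, hAB]
  have hTf : pP F (tMid m hm) ∈ fixP m σ := pP_fixP (rho_comm_tMid hm)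
  have hconv : ∀ x : GL (Fin (2 * m)) F,
      pP F (tMid m hm) * x * pP F (tMid m hm) = pP F A * (pP F B * x * pP F B) * pP F A := fun x => by
    rw [hT]
    conv_lhs => arg 2; rw [hpAB]
    simp only [mul_assoc]
  have hconv' : ∀ x : GL (Fin (2 * m)) F,
      pP F (tMid m hm) * x * pP F (tMid m hm) = pP F B * (pP F A * x * pP F A) * pP F B := fun x => by
    rw [hT]
    conv_lhs => arg 1; rw [hpAB]
    simp only [mul_assoc]
  refine ⟨fun π hπ hcom b hb => ?_, fun u hu e he h => ?_, ?_⟩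
  · have hf : pP F (tMid m hm) * b * pP F π ∈ fixP m σ := mul_mem (mul_mem hTf hb.2) (pP_fixP hcom)
    have key : ∀ π' b₁, b₁ ∈ BO F m → RevC π' → ∀ b₂ ∈ BO F m,
        pP F (tMid m hm) * b * pP F π = pP F A * b₁ * pP F π' * b₂ →
        InCell (A * π') (pP F (tMid m hm) * b * pP F π) ∨ InCell π' (pP F (tMid m hm) * b * pP F π) := by
      intro π' b₁ hb₁ hπ' b₂ hb₂ e
      rw [e]
      exact (node_inCell hA hπ' hb₁).imp (fun h => h.mul_right hb₂) (fun h => h.mul_right hb₂)
    obtain ⟨b₁, hb₁, b₂, hb₂, e | e⟩ := hB.step π hπ b hb.1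
    · rcases key (B * π) b₁ hb₁ (hB.rev.mul hπ) b₂ hb₂
        (by rw [hT, mul_assoc (pP F A), mul_assoc (pP F A), e]; simp only [mul_assoc]) with h | h
      · rw [← mul_assoc] at h
        exact Or.inl h
      · exfalso
        refine hne ?_
        have h1 := (fix_cell hf h (hB.rev.mul hπ)).1
        rw [show rho m * (B * π) * rho m = rho m * B * (rho m * rho m) * π * rho m by
          rw [rho_sq, mul_one]; simp only [mul_assoc],
          show rho m * B * (rho m * rho m) * π * rho m = (rho m * B * rho m) * (rho m * π * rho m) by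
            simp only [mul_assoc], hρB, hcom] at h1
        exact mul_right_cancel h1
    · rcases key π b₁ hb₁ hπ b₂ hb₂
        (by rw [hT, mul_assoc (pP F A), mul_assoc (pP F A), e]; simp only [mul_assoc]) with h | h
      · exfalso
        refine hne ?_
        have h1 := (fix_cell hf h (hA.rev.mul hπ)).1
        rw [show rho m * (A * π) * rho m = rho m * A * (rho m * rho m) * π * rho m by
          rw [rho_sq, mul_one]; simp only [mul_assoc],
          show rho m * A * (rho m * rho m) * π * rho m = (rho m * A * rho m) * (rho m * π * rho m) by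
            simp only [mul_assoc], hcom] at h1
        exact (mul_right_cancel h1).symm
      · exact Or.inr h
  · have hx : pP F B * e * pP F B ∈ BO F m := by
      have hy := h.1
      have e1 : pP F B * e * pP F B =
          pP F A * (pP F (tMid m hm) * e * pP F (tMid m hm)) * pP F A := by
        rw [hconv, show pP F A * (pP F A * (pP F B * e * pP F B) * pP F A) * pP F A =
          (pP F A * pP F A) * (pP F B * e * pP F B) * (pP F A * pP F A) by simp only [mul_assoc],
          pP_sq hA.sq, one_mul, mul_one]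
      rw [e1]
      exact two_cells hA hB hne hy (uni_BO he.1) e1.symm
    have hy : pP F A * e * pP F A ∈ BO F m := by
      have e1 : pP F A * e * pP F A =
          pP F B * (pP F (tMid m hm) * e * pP F (tMid m hm)) * pP F B := by
        rw [hconv', show pP F B * (pP F B * (pP F A * e * pP F A) * pP F B) * pP F B =
          (pP F B * pP F B) * (pP F A * e * pP F A) * (pP F B * pP F B) by simp only [mul_assoc],
          pP_sq hB.sq, one_mul, mul_one]
      rw [e1]
      exact two_cells hB hA hne.symm h.1 (uni_BO he.1) e1.symm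
    refine ⟨?_, (fixP m σ).mul_mem ((fixP m σ).mul_mem hTf ((fixP m σ).mul_mem
      ((fixP m σ).mul_mem hu.2 he.2) ((fixP m σ).inv_mem hu.2))) hTf⟩
    rw [hconv]
    refine two_cells hA hB hne (hB.rank u hu.1 e he.1 hx) (hA.rank u hu.1 e he.1 hy) ?_
    rw [← hconv, hconv']
  · obtain ⟨u, hu, hform, hψ, hinv⟩ := exists_root (F := F) (σ := σ) (show m - 2 + 1 < m by omega)
    have hv := psi_uni (σ := σ) hu
    set a : Fin (2 * m) := ⟨m - 2, by omega⟩ with ha
    set b : Fin (2 * m) := ⟨m - 2 + 1, by omega⟩ with hb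
    have va : a.val = m - 2 := rfl
    have vb : b.val = m - 2 + 1 := rfl
    have ra : rho m a = a := Fin.ext (by rw [rho_val, if_neg (by omega), if_neg (by omega)])
    have rb : rho m b = Fin.rev b := Fin.ext (by rw [rho_val, if_pos (by omega), Fin.val_rev]; omega)
    have rb' : rho m (Fin.rev b) = b := by rw [← rb]; exact Equiv.Perm.congr_fun rho_sq b
    have ra' : rho m (Fin.rev a) = Fin.rev a :=
      Fin.ext (by rw [rho_val, Fin.val_rev, if_neg (by omega), if_neg (by omega)])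
    rw [ra, rb, rb', ra'] at hψ
    have n1 : b ≠ Fin.rev b := by rw [ne_eq, Fin.ext_iff, Fin.val_rev]; omega
    have n2 : Fin.rev a ≠ a := by rw [ne_eq, Fin.ext_iff, Fin.val_rev]; omega
    have n3 : b ≠ a := by rw [ne_eq, Fin.ext_iff]; omega
    have n4 : Fin.rev b ≠ a := by rw [ne_eq, Fin.ext_iff, Fin.val_rev]; omega
    set S := (1 : Matrix (Fin (2 * m)) (Fin (2 * m)) F) + Matrix.single a b 1 +
      Matrix.single (Fin.rev b) (Fin.rev a) (-1) + Matrix.single a (Fin.rev b) 1 +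
      Matrix.single b (Fin.rev a) (-1) + Matrix.single a (Fin.rev a) (-1) with hS
    have n5 : Fin.rev a ≠ b := by rw [ne_eq, Fin.ext_iff, Fin.val_rev]; omega
    have n6 : Fin.rev a ≠ Fin.rev b := fun e => n3 (Fin.rev_injective e).symm
    have hprod : (u * psi m σ u).1 = S := by
      rw [hS, Units.val_mul, hform, hψ]
      simp only [add_mul, mul_add, one_mul, mul_one]
      rw [Matrix.single_mul_single_of_ne (h := n3), Matrix.single_mul_single_same,
        Matrix.single_mul_single_of_ne (h := n2), Matrix.single_mul_single_of_ne (h := n5)]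
      simp only [one_mul, add_zero, zero_add]
      abel
    have hprod' : (psi m σ u * u).1 = S := by
      rw [hS, Units.val_mul, hform, hψ]
      simp only [add_mul, mul_add, one_mul, mul_one]
      rw [Matrix.single_mul_single_of_ne (h := n4), Matrix.single_mul_single_same,
        Matrix.single_mul_single_of_ne (h := n2), Matrix.single_mul_single_of_ne (h := n6)]
      simp only [one_mul, add_zero, zero_add]
      abel
    refine ⟨u * psi m σ u, ⟨mul_mem (uni_BO hu) (uni_BO hv), ?_⟩, fun h => ?_⟩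
    · show psi m σ (u * psi m σ u) = u * psi m σ u
      rw [map_mul, hinv]
      exact Units.ext (hprod'.trans hprod.symm)
    have e1 : tMid m hm b < tMid m hm a := by
      rw [Fin.lt_def]
      have t1 : (tRho m hm b).val = m + 1 := by
        rw [tRho_val hm, if_neg (by omega), if_neg (by omega), if_pos (by omega)]
      have t2 : (tRho m hm a).val = m := by rw [tRho_val hm, if_pos va]
      rw [tMid, Equiv.Perm.mul_apply, Equiv.Perm.mul_apply, tPerm_last_val hm, tPerm_last_val hm, t1, t2,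
        if_neg (by omega), if_neg (by omega), if_pos rfl, if_neg (by omega), if_neg (by omega),
        if_neg (by omega), if_pos rfl]
      omega
    have h0 := upper_zero h.1.1 e1
    rw [pP_conj_apply (tMid_sq hm), ← Equiv.Perm.mul_apply, ← Equiv.Perm.mul_apply, tMid_sq,
      Equiv.Perm.one_apply, Equiv.Perm.one_apply, hprod, hS] at h0
    simp only [Matrix.add_apply, Matrix.one_apply, Matrix.single_apply] at h0
    simp [n1.symm, n3, n3.symm, n4.symm, n5] at h0

theorem fnode_tF (i : Idx m) : FNode σ (tF i) := by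
  unfold tF
  split_ifs with h
  · exact fnode_tPerm h
  · exact fnode_tMid _

variable (σ) in
theorem pP_mem_GM {π : Equiv.Perm (Fin (2 * m))} (hπ : RevC π) (hcom : rho m * π * rho m = π)
    (hs : Equiv.Perm.sign π = 1) : pP F π ∈ GM m σ := ⟨pP_mem_GP hπ hs, pP_fixP hcom⟩

variable (σ) in
theorem refl_mem_GM (i : Idx m) : pP F (tF i) ∈ GM m σ :=
  pP_mem_GM σ (tF_revC i) (tF_comm i) (tF_sign i)

/-- The cells of the fixed points. -/
theorem exists_cell_GM {g : GL (Fin (2 * m)) F} (hg : g ∈ GM m σ) :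
    ∃ b ∈ BM m σ, ∃ π, RevC π ∧ rho m * π * rho m = π ∧ Equiv.Perm.sign π = 1 ∧
      ∃ b' ∈ BM m σ, g = b * pP F π * b' := by
  obtain ⟨b, hb, π, hπ, hs, b', hb', e⟩ := exists_cell_GP hg.1
  obtain ⟨hcom, c, hc, c', hc', e'⟩ := fix_cell hg.2 ⟨b, hb, b', hb', e⟩ hπ
  exact ⟨c, hc, π, hπ, hcom, hs, c', hc', e'⟩

theorem mono_GM {g : GL (Fin (2 * m)) F} (hg : g ∈ GM m σ) {π : Equiv.Perm (Fin (2 * m))}
    (h : Mono π g.1) : RevC π ∧ rho m * π * rho m = π ∧ Equiv.Perm.sign π = 1 := by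
  obtain ⟨hπ, hs⟩ := sign_mono hg.1 h
  have h' := psi_mono (σ := σ) h
  rw [hg.2] at h'
  exact ⟨hπ, (mono_perm_unique h h').symm, hs⟩

variable (m σ) in
/-- The (B, N)-pair. -/
noncomputable def bnPair : Cfsg.BNPair (GM m σ) where
  B := (BM m σ).subgroupOf (GM m σ)
  N := (monoGL F (2 * m)).subgroupOf (GM m σ)
  S := Set.range fun i : Idx m => (⟨pP F (tF i), refl_mem_GM σ i⟩ : GM m σ)
  sup_eq_top := by
    refine eq_top_iff.2 fun g _ => ?_
    obtain ⟨b, hb, π, hπ, hcom, hs, b', hb', e⟩ := exists_cell_GM g.2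
    rw [show g = ⟨b, BM_le_GM hb⟩ * ⟨pP F π, pP_mem_GM σ hπ hcom hs⟩ * ⟨b', BM_le_GM hb'⟩ from
      Subtype.ext e]
    exact mul_mem (mul_mem (Subgroup.mem_sup_left hb)
      (Subgroup.mem_sup_right ⟨π, mono_permGL π⟩)) (Subgroup.mem_sup_left hb')
  conj_mem := by
    rintro n ⟨π, hπ⟩ t ⟨ht, ρ, hρ⟩
    have h1 := perm_one_of_upper hρ ht.1.1
    subst h1
    refine diag_BM ?_ (GM_le_oGL (n * t * n⁻¹).2) (n * t * n⁻¹).2.2
    have := mono_mul (mono_mul hπ hρ) (Mono.inv hπ)
    rwa [mul_one, mul_inv_cancel] at this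
  subset := by
    rintro _ ⟨i, rfl⟩
    exact ⟨_, mono_permGL _⟩
  sq_mem := by
    rintro _ ⟨i, rfl⟩
    show pP F (tF i) * pP F (tF i) ∈ BM m σ
    rw [pP_sq (tF_sq i)]
    exact one_mem _
  inj := by
    rintro _ ⟨i, rfl⟩ _ ⟨j, rfl⟩ h
    have h' : (pP F (tF i))⁻¹ * pP F (tF j) ∈ BM m σ := h
    rw [pP, pP, ← map_inv, ← map_mul] at h'
    have e := perm_one_of_upper (mono_permGL (F := F) _) h'.1.1
    rw [inv_mul_eq_one] at e
    rw [tF_inj e]
  closure_sup := by
    refine le_antisymm (sup_le ((Subgroup.closure_le _).2 ?_) inf_le_right) fun n hn => ?_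
    · rintro _ ⟨i, rfl⟩
      exact ⟨_, mono_permGL _⟩
    · obtain ⟨π, hπ⟩ := hn
      obtain ⟨hπR, hcom, hs⟩ := mono_GM n.2 hπ
      set q : GM m σ := ⟨pP F π, pP_mem_GM σ hπR hcom hs⟩ with hq
      rw [show n = q * (q⁻¹ * n) by group]
      refine mul_mem (Subgroup.mem_sup_left ?_) (Subgroup.mem_sup_right ?_)
      · refine revF_induction (P := fun π => ∀ h : pP F π ∈ GM m σ,
          (⟨pP F π, h⟩ : GM m σ) ∈ Subgroup.closure
            (Set.range fun i : Idx m => (⟨pP F (tF i), refl_mem_GM σ i⟩ : GM m σ))) ?_ ?_ hπR hcom hs _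
        · intro h
          rw [show (⟨pP F 1, h⟩ : GM m σ) = 1 from Subtype.ext (map_one _)]
          exact one_mem _
        · intro π' i ih h
          have hπ' : pP F π' ∈ GM m σ := by
            have := mul_mem h (inv_mem (refl_mem_GM σ i))
            rwa [pP_mul, mul_inv_cancel_right] at this
          rw [show (⟨pP F (π' * tF i), h⟩ : GM m σ) =
            ⟨pP F π', hπ'⟩ * ⟨pP F (tF i), refl_mem_GM σ i⟩ from Subtype.ext (pP_mul _ _)]
          exact mul_mem (ih hπ') (Subgroup.subset_closure ⟨_, rfl⟩)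
      · have hd : Mono 1 ((q⁻¹ * n : GM m σ) : GL (Fin (2 * m)) F).1 := by
          have := mono_mul (Mono.inv (mono_permGL (F := F) π)) hπ
          rwa [inv_mul_cancel] at this
        exact ⟨diag_BM hd (GM_le_oGL (q⁻¹ * n).2) (q⁻¹ * n).2.2, 1, hd⟩
  mul_mem_union := by
    rintro _ ⟨i, rfl⟩ n ⟨π, hπ⟩ b hb
    obtain ⟨hπR, hcom, hs⟩ := mono_GM n.2 hπ
    have hd : Mono 1 ((n : GL (Fin (2 * m)) F) * (pP F π)⁻¹).1 := by
      have := mono_mul hπ (Mono.inv (mono_permGL (F := F) π))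
      rwa [mul_inv_cancel] at this
    set h : GL (Fin (2 * m)) F := (n : GL (Fin (2 * m)) F) * (pP F π)⁻¹ with hh
    have hhB : h ∈ BM m σ := diag_BM hd (mul_mem (GM_le_oGL n.2) (inv_mem (perm_mem hπR)))
      (mul_mem n.2.2 (inv_mem (pP_fixP hcom)))
    have en : (n : GL (Fin (2 * m)) F) = h * pP F π := by rw [hh, inv_mul_cancel_right]
    have hT := tF_sq i
    have hTf : pP F (tF i) ∈ fixP m σ := (refl_mem_GM σ i).2
    have hgf : pP F (tF i) * ((b : GL (Fin (2 * m)) F) * h) * pP F π ∈ fixP m σ :=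
      mul_mem (mul_mem hTf (mul_mem hb.2 hhB.2)) (pP_fixP hcom)
    rcases (fnode_tF (σ := σ) i).cell π hπR hcom _ (mul_mem hb hhB) with hc | hc
    · left
      obtain ⟨-, b₁, hb₁, b₂, hb₂, e⟩ := fix_cell hgf hc ((tF_revC i).mul hπR)
      have hsh : pP F (tF i) * h⁻¹ * pP F (tF i) ∈ BM m σ := by
        refine diag_BM ?_ (mul_mem (mul_mem (perm_mem (tF_revC i)) (inv_mem hhB.1.2)) (perm_mem (tF_revC i)))
          (mul_mem (mul_mem hTf (inv_mem hhB.2)) hTf)
        have := mono_mul (mono_mul (mono_permGL (F := F) (tF i)) (Mono.inv hd)) (mono_permGL (F := F) (tF i))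
        rwa [inv_one, mul_one, hT] at this
      refine DoubleCoset.mem_doubleCoset.2 ⟨⟨b₁ * (pP F (tF i) * h⁻¹ * pP F (tF i)),
        BM_le_GM (mul_mem hb₁ hsh)⟩, mul_mem hb₁ hsh, ⟨b₂, BM_le_GM hb₂⟩, hb₂, Subtype.ext ?_⟩
      show pP F (tF i) * (b : GL (Fin (2 * m)) F) * (n : GL (Fin (2 * m)) F) =
        b₁ * (pP F (tF i) * h⁻¹ * pP F (tF i)) * (pP F (tF i) * (n : GL (Fin (2 * m)) F)) * b₂
      rw [en, show b₁ * (pP F (tF i) * h⁻¹ * pP F (tF i)) * (pP F (tF i) * (h * pP F π)) * b₂ =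
        b₁ * (pP F (tF i) * (h⁻¹ * (pP F (tF i) * pP F (tF i)) * h) * pP F π) * b₂ by group,
        pP_sq hT, mul_one, inv_mul_cancel, mul_one, ← pP_mul, ← e]
      simp only [mul_assoc]
    · right
      obtain ⟨-, b₁, hb₁, b₂, hb₂, e⟩ := fix_cell hgf hc hπR
      refine DoubleCoset.mem_doubleCoset.2 ⟨⟨b₁ * h⁻¹, BM_le_GM (mul_mem hb₁ (inv_mem hhB))⟩,
        mul_mem hb₁ (inv_mem hhB), ⟨b₂, BM_le_GM hb₂⟩, hb₂, Subtype.ext ?_⟩
      show pP F (tF i) * (b : GL (Fin (2 * m)) F) * (n : GL (Fin (2 * m)) F) =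
        b₁ * h⁻¹ * (n : GL (Fin (2 * m)) F) * b₂
      rw [en, mul_assoc b₁, inv_mul_cancel_left, ← e]
      simp only [mul_assoc]
  conj_ne := by
    rintro _ ⟨i, rfl⟩ h
    obtain ⟨b, hb, hne⟩ := (fnode_tF (σ := σ) i).moves
    exact hne (h.subset (Set.mem_image_of_mem
      (fun b : GM m σ => (⟨pP F (tF i), refl_mem_GM σ i⟩ : GM m σ) * b * ⟨pP F (tF i), refl_mem_GM σ i⟩)
      (show (⟨b, BM_le_GM hb⟩ : GM m σ) ∈ (BM m σ).subgroupOf (GM m σ) from hb)))

/-- The split structure. -/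
theorem split (p : ℕ) [Fact p.Prime] [CharP F p] :
    CfsgLib.BNSteinberg.Split (bnPair m σ) p ((uni F (2 * m)).subgroupOf (GM m σ)) where
  le := fun u hu => ⟨uni_BO ⟨hu, GM_le_oGL u.2⟩, u.2.2⟩
  normal := fun b hb u hu => by
    obtain ⟨v, hv, h, -, -, hhm, e⟩ := exists_BM_decomp hb
    show (b : GL (Fin (2 * m)) F) * (u : GL (Fin (2 * m)) F) * (b : GL (Fin (2 * m)) F)⁻¹ ∈ uni F (2 * m)
    rw [show (b : GL (Fin (2 * m)) F) = v * h from e, show v * h * (u : GL (Fin (2 * m)) F) * (v * h)⁻¹ =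
      v * (h * (u : GL (Fin (2 * m)) F) * h⁻¹) * v⁻¹ by group]
    exact mul_mem (mul_mem hv.1.1 (diag_conj_uni hhm hu)) (inv_mem hv.1.1)
  pgroup := fun u => ⟨2 * m, Subtype.ext (Subtype.ext (Units.ext (by
    simpa using (mem_uni.1 u.2).pow_char (p := p))))⟩
  decomp := fun b hb => by
    obtain ⟨v, hv, h, hho, hhf, hhm, e⟩ := exists_BM_decomp hb
    exact ⟨⟨v, BM_le_GM (UM_le_BM hv)⟩, hv.1.1, ⟨h, BM_le_GM (diag_BM hhm hho hhf)⟩,
      ⟨diag_BM hhm hho hhf, 1, hhm⟩, Subtype.ext e⟩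
  torus := fun h hh k hk => by
    obtain ⟨hb, π, hπ⟩ := hh
    have h1 := perm_one_of_upper hπ hb.1.1
    subst h1
    set c : Fin (2 * m) → F := fun i => (h : GL (Fin (2 * m)) F).1 i i
    have hd : (h : GL (Fin (2 * m)) F).1 = Matrix.diagonal c := Matrix.ext fun i j => by
      by_cases e : i = j
      · subst e; rw [diagonal_apply_eq]
      · rw [diagonal_apply_ne _ e]; exact hπ i j e
    have hk' := congrArg (fun x : GM m σ => (x : GL (Fin (2 * m)) F).1) hk
    simp only [SubgroupClass.coe_pow, Units.val_pow_eq_pow_val, hd, Matrix.diagonal_pow,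
      OneMemClass.coe_one, Units.val_one] at hk'
    refine Subtype.ext (Units.ext ?_)
    rw [hd, OneMemClass.coe_one, Units.val_one, ← Matrix.diagonal_one]
    congr 1
    funext i
    have hi : c i ^ p ^ k = 1 := by simpa using congrFun (congrFun hk' i) i
    have h2 : (c i - 1) ^ p ^ k = 0 := by rw [sub_pow_char_pow, one_pow, hi, sub_self]
    exact sub_eq_zero.1 (pow_eq_zero_iff (pow_ne_zero _ (Fact.out : p.Prime).ne_zero) |>.1 h2)
  rankone := by
    rintro _ ⟨i, rfl⟩ u hu e he hse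
    have hT := tF_sq i
    have hse' : pP F (tF i) * (e : GL (Fin (2 * m)) F) * pP F (tF i) ∈ BM m σ := by
      have h : (pP F (tF i))⁻¹ * (e : GL (Fin (2 * m)) F) * pP F (tF i) ∈ BM m σ := hse
      rwa [pP_inv hT] at h
    show (pP F (tF i))⁻¹ * ((u : GL (Fin (2 * m)) F) * e * (u : GL (Fin (2 * m)) F)⁻¹) * pP F (tF i) ∈ BM m σ
    rw [pP_inv hT]
    exact (fnode_tF i).rank _ ⟨⟨hu, GM_le_oGL u.2⟩, u.2.2⟩ _ ⟨⟨he, GM_le_oGL e.2⟩, e.2.2⟩ hse'
  opp := by
    obtain ⟨π, hπR, hs, hcom, h⟩ := opp_perm (F := F) (m := m)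
    exact ⟨⟨pP F π, pP_mem_GM σ hπR hcom hs⟩, ⟨π, mono_permGL π⟩, fun u hu hB =>
      Subtype.ext (h _ ⟨hu, GM_le_oGL u.2⟩ hB.1)⟩

variable (m σ) in
/-- The fixed isometries. -/
noncomputable def OM : Subgroup (GL (Fin (2 * m)) F) := oGL F m ⊓ fixP m σ

theorem GM_le_OM : GM m σ ≤ OM m σ := fun _ h => ⟨GP_le h.1, h.2⟩

theorem pP_rho_not_mem (hm : 1 ≤ m) : pP F (rho m) ∉ GP F m := fun h => by
  have := (sign_mono h (mono_permGL (rho m))).2
  rw [sign_rho hm] at this
  exact absurd this (by decide)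

end CfsgLib.TwistBN.Minus
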