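/-
The elliptic orthogonal group as fixed points inside the hyperbolic group over the quadratic extension.
-/
import Cfsg.Agent.Lib.TwistBN.MinusPair
import Cfsg.Agent.Lib.Classical.QuadStd
import Cfsg.Agent.Lib.Classical.QuadBinary
import Cfsg.Agent.Lib.Classical.OrthBasic

set_option autoImplicit false
set_option linter.unusedSectionVars false
set_option linter.style.haveILetI false

namespace CfsgLib.TwistBN.Minus

open Matrix CfsgLib.PronormalPSL CfsgLib.PronormalPSU CfsgLib.GLUnipotent CfsgLib.Classical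
open CfsgLib.TwistBN.Plus

variable {F K : Type*} [Field F] [Finite F] [Field K] [Finite K] [Algebra F K] {m : ℕ}

/-- The coordinates. -/
noncomputable def eI (m : ℕ) : (Fin m ⊕ Fin m) ⊕ Fin 2 ≃ Fin (2 * (m + 1)) :=
  Equiv.ofBijective
    (Sum.elim (Sum.elim (fun i => (⟨i.val, by have := i.isLt; omega⟩ : Fin (2 * (m + 1))))
      (fun i => ⟨2 * (m + 1) - 1 - i.val, by have := i.isLt; omega⟩))
      (fun j => ⟨m + j.val, by have := j.isLt; omega⟩))
    ((Fintype.bijective_iff_injective_and_card _).2 ⟨by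
      rintro ((i | i) | i) ((j | j) | j) h <;>
        simp only [Sum.elim_inl, Sum.elim_inr, Fin.ext_iff] at h <;>
        have := i.isLt <;> have := j.isLt <;> first | (exfalso; omega) |
        (simp only [Sum.inl.injEq, Sum.inr.injEq, Fin.ext_iff]; omega),
      by simp; omega⟩)

theorem eI_ll (i : Fin m) : (eI m (Sum.inl (Sum.inl i))).val = i.val := rfl

theorem eI_lr (i : Fin m) : (eI m (Sum.inl (Sum.inr i))).val = 2 * (m + 1) - 1 - i.val := rfl

theorem eI_r (j : Fin 2) : (eI m (Sum.inr j)).val = m + j.val := rfl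

/-- The change of variables. -/
def Cmat (m : ℕ) (α β : K) :
    Matrix ((Fin m ⊕ Fin m) ⊕ Fin 2) ((Fin m ⊕ Fin m) ⊕ Fin 2) K :=
  Matrix.fromBlocks 1 0 0 !![1, -α; 1, -β]

theorem det_Cmat (α β : K) : (Cmat m α β).det = α - β := by
  rw [Cmat, Matrix.det_fromBlocks_zero₂₁, Matrix.det_one, one_mul, Matrix.det_fin_two_of]
  ring

/-- A quadratic map over the base field preserved by a matrix is preserved after extending scalars. -/
theorem extend_isometry {a b : F}
    {g : GL ((Fin m ⊕ Fin m) ⊕ Fin 2) F}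
    (hg : g ∈ Cfsg.isometryGroup F (Cfsg.quadFormMinus m F a b))
    (v : (Fin m ⊕ Fin m) ⊕ Fin 2 → K) :
    qExt m (qBin (algebraMap F K a) (algebraMap F K b))
        ((g.1.map (algebraMap F K)) *ᵥ v) =
      qExt m (qBin (algebraMap F K a) (algebraMap F K b)) v := by
  classical
  set ι := algebraMap F K
  set M := g.1
  set Q' := qExt m (qBin (ι a) (ι b))
  have hbase : ∀ x : (Fin m ⊕ Fin m) ⊕ Fin 2 → F, Q' (ι ∘ x) = ι (Cfsg.quadFormMinus m F a b x) :=
    fun x => by simp [Q', qExt_apply, qBin_apply, Cfsg.quadFormMinus, map_sum]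
  let L := Matrix.mulVecLin (M.map ι)
  have hq0 : ∀ x : (Fin m ⊕ Fin m) ⊕ Fin 2 → F, Q' (L (ι ∘ x)) = Q' (ι ∘ x) := fun x => by
    have e : L (ι ∘ x) = ι ∘ (M *ᵥ x) := by
      funext i
      exact (RingHom.map_mulVec ι M x i).symm
    rw [e, hbase, hbase]
    exact congrArg ι (isoApply_Q ⟨g, hg⟩ x)
  set D : QuadraticForm K ((Fin m ⊕ Fin m) ⊕ Fin 2 → K) := Q'.comp L - Q' with hD
  have hD0 : ∀ x, D (ι ∘ x) = 0 := fun x => by simp [hD, hq0]
  have hsingle : ∀ i, (Pi.single i 1 : (Fin m ⊕ Fin m) ⊕ Fin 2 → K) = ι ∘ Pi.single i 1 :=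
    fun i => funext fun j => by simp [Pi.single_apply, apply_ite ι]
  have hpol : ∀ i j, QuadraticMap.polar D (Pi.single i 1) (Pi.single j 1) = 0 := fun i j => by
    rw [QuadraticMap.polar, hsingle, hsingle, show ι ∘ Pi.single i 1 + ι ∘ Pi.single j 1 =
      ι ∘ (Pi.single i 1 + Pi.single j 1) from funext fun x => (map_add ι _ _).symm, hD0, hD0, hD0]
    simp
  have hall : ∀ (s : Finset ((Fin m ⊕ Fin m) ⊕ Fin 2)) (v : (Fin m ⊕ Fin m) ⊕ Fin 2 → K),
      D (∑ i ∈ s, v i • Pi.single i 1) = 0 := by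
    intro s v
    induction s using Finset.induction_on with
    | empty => simp
    | insert i s hi ih =>
      have hs : QuadraticMap.polar D (v i • Pi.single i 1) (∑ j ∈ s, v j • Pi.single j 1) = 0 := by
        show QuadraticMap.polarBilin D (v i • Pi.single i 1) (∑ j ∈ s, v j • Pi.single j 1) = 0
        simp [map_sum, hpol]
      rw [Finset.sum_insert hi, QuadraticMap.map_add D, ih, hs, QuadraticMap.map_smul, hsingle, hD0]
      simp
  have h := hall Finset.univ v
  rw [show (∑ i, v i • (Pi.single i 1 : (Fin m ⊕ Fin m) ⊕ Fin 2 → K)) = v from funext fun j => by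
    simp [Finset.sum_apply, Pi.single_apply]] at h
  simpa [hD, sub_eq_zero, L] using h

theorem QS_Cmat {a b : F} {α β : K} (hsum : α + β = -algebraMap F K a)
    (hprod : α * β = algebraMap F K b) (v : (Fin m ⊕ Fin m) ⊕ Fin 2 → K) :
    QS ((Cmat m α β *ᵥ v) ∘ (eI m).symm) =
      qExt m (qBin (algebraMap F K a) (algebraMap F K b)) v := by
  have h1 : ∀ i : Fin m, (eI m).symm (halves (m + 1) (Sum.inl i.castSucc)) = Sum.inl (Sum.inl i) :=
    fun i => by
      rw [Equiv.symm_apply_eq]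
      exact Fin.ext (eI_ll i).symm
  have h2 : ∀ i : Fin m, (eI m).symm (halves (m + 1) (Sum.inr i.castSucc)) = Sum.inl (Sum.inr i) :=
    fun i => by
      rw [Equiv.symm_apply_eq]
      exact Fin.ext (eI_lr i).symm
  have h3 : (eI m).symm (halves (m + 1) (Sum.inl (Fin.last m))) = Sum.inr 0 := by
    rw [Equiv.symm_apply_eq]
    refine Fin.ext ?_
    rw [eI_r]
    show m = m + 0
    omega
  have h4 : (eI m).symm (halves (m + 1) (Sum.inr (Fin.last m))) = Sum.inr 1 := by
    rw [Equiv.symm_apply_eq]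
    refine Fin.ext ?_
    rw [eI_r]
    show 2 * (m + 1) - 1 - m = m + 1
    omega
  simp only [QS, Cfsg.quadFormPlus, qExt_apply, qBin_apply, Fin.sum_univ_castSucc, Function.comp_apply,
    h1, h2, h3, h4]
  simp only [Matrix.mulVec, dotProduct, Fintype.sum_sum_type, Cmat, Matrix.fromBlocks_apply₁₁,
    Matrix.fromBlocks_apply₁₂, Matrix.fromBlocks_apply₂₁, Matrix.fromBlocks_apply₂₂, Fin.sum_univ_two]
  simp [Matrix.one_apply]
  linear_combination (-(v (Sum.inr 0) * v (Sum.inr 1))) * hsum + (v (Sum.inr 1) * v (Sum.inr 1)) * hprod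

theorem exists_minus_iso {a b : F} {α β : K} (σ : K ≃+* K)
    (hfix : ∀ x, σ x = x ↔ ∃ y, algebraMap F K y = x) (hsum : α + β = -algebraMap F K a)
    (hprod : α * β = algebraMap F K b) (hne : α ≠ β) (hσα : σ α = β) (hσβ : σ β = α) :
    Nonempty (Cfsg.isometryGroup F (Cfsg.quadFormMinus m F a b) ≃* OM (m + 1) σ) := by
  classical
  set ι := algebraMap F K with hι
  let C : GL ((Fin m ⊕ Fin m) ⊕ Fin 2) K :=
    Matrix.GeneralLinearGroup.mk'' (Cmat m α β) (isUnit_iff_ne_zero.2 (by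
      rw [det_Cmat]; exact sub_ne_zero.2 hne))
  let R : GL ((Fin m ⊕ Fin m) ⊕ Fin 2) K ≃* GL (Fin (2 * (m + 1))) K :=
    Units.mapEquiv (Matrix.reindexAlgEquiv K K (eI m)).toMulEquiv
  let Φ : GL ((Fin m ⊕ Fin m) ⊕ Fin 2) F →* GL (Fin (2 * (m + 1))) K :=
    (R.toMonoidHom.comp (MulAut.conj C).toMonoidHom).comp (Matrix.GeneralLinearGroup.map ι)
  have key : ∀ (A : GL ((Fin m ⊕ Fin m) ⊕ Fin 2) K) (w : Fin (2 * (m + 1)) → K),
      ((R A).1 *ᵥ w) ∘ eI m = A.1 *ᵥ (w ∘ eI m) := by
    intro A w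
    funext i
    show (Matrix.reindex (eI m) (eI m) A.1 *ᵥ w) (eI m i) = _
    simp only [Matrix.reindex_apply, Matrix.mulVec, dotProduct, Matrix.submatrix_apply,
      Equiv.symm_apply_apply]
    rw [← (eI m).sum_comp]
    simp
  have hQ : ∀ w : Fin (2 * (m + 1)) → K, QS w =
      qExt m (qBin (ι a) (ι b)) ((C⁻¹).1 *ᵥ (w ∘ eI m)) := by
    intro w
    rw [← QS_Cmat hsum hprod]
    congr 1
    rw [Matrix.mulVec_mulVec, show Cmat m α β = C.1 from rfl, ← Units.val_mul, mul_inv_cancel,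
      Units.val_one, Matrix.one_mulVec]
    funext i
    simp
  have hrow : ∀ x y, σ (C.1 x y) =
      C.1 (Sum.map id (Equiv.swap (0 : Fin 2) 1) x) y := by
    intro x y
    show σ (Cmat m α β x y) = Cmat m α β _ y
    rcases x with x | x <;> rcases y with y | y
    · simp [Cmat, Matrix.one_apply, apply_ite σ]
    · simp [Cmat]
    · simp [Cmat]
    · fin_cases x <;> fin_cases y <;> simp [Cmat, hσα, hσβ]
  have hσC : Matrix.GeneralLinearGroup.map σ.toRingHom (R C) = pP K (rho (m + 1)) * R C := by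
    refine Units.ext (Matrix.ext fun i j => ?_)
    obtain ⟨x, rfl⟩ := (eI m).surjective i
    obtain ⟨y, rfl⟩ := (eI m).surjective j
    rw [Units.val_mul, Matrix.mul_apply, Finset.sum_eq_single (rho (m + 1) (eI m x))]
    · have hx : rho (m + 1) (eI m x) = eI m (Sum.map id (Equiv.swap (0 : Fin 2) 1) x) := by
        refine Fin.ext ?_
        rw [rho_val]
        rcases x with (x | x) | x
        · rw [eI_ll, Sum.map_inl, id, eI_ll]
          have := x.isLt
          split_ifs <;> omega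
        · rw [eI_lr, Sum.map_inl, id, eI_lr]
          have := x.isLt
          split_ifs <;> omega
        · rw [eI_r, Sum.map_inr, eI_r]
          fin_cases x <;> simp <;> omega
      rw [permGL_apply, if_pos (show eI m x = rho (m + 1) (rho (m + 1) (eI m x)) from
        (Equiv.Perm.congr_fun rho_sq (eI m x)).symm), one_mul, hx]
      show σ ((R C).1 (eI m x) (eI m y)) = (R C).1 _ (eI m y)
      show σ (Matrix.reindex (eI m) (eI m) C.1 (eI m x) (eI m y)) =
        Matrix.reindex (eI m) (eI m) C.1 _ (eI m y)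
      simp only [Matrix.reindex_apply, Matrix.submatrix_apply, Equiv.symm_apply_apply]
      exact hrow x y
    · intro z _ hz
      rw [permGL_apply, if_neg, zero_mul]
      intro e
      refine hz ?_
      rw [e]
      exact (Equiv.Perm.congr_fun rho_sq z).symm
    · simp
  have hmapσ : ∀ A : GL ((Fin m ⊕ Fin m) ⊕ Fin 2) K,
      Matrix.GeneralLinearGroup.map σ.toRingHom (R A) =
        R (Matrix.GeneralLinearGroup.map σ.toRingHom A) := fun A => rfl
  have hpsi : ∀ A : GL ((Fin m ⊕ Fin m) ⊕ Fin 2) K,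
      psi (m + 1) σ (R (C * A * C⁻¹)) = R (C * Matrix.GeneralLinearGroup.map σ.toRingHom A * C⁻¹) := by
    intro A
    rw [psi_def, map_mul R, map_mul R, map_inv R, map_mul, map_mul, map_inv, hσC, hmapσ, map_mul R,
      map_mul R, map_inv R, _root_.mul_inv_rev, pP_inv rho_sq]
    calc pP K (rho (m + 1)) * (pP K (rho (m + 1)) * R C * R (Matrix.GeneralLinearGroup.map σ.toRingHom A) *
          ((R C)⁻¹ * pP K (rho (m + 1)))) * pP K (rho (m + 1)) =
        (pP K (rho (m + 1)) * pP K (rho (m + 1))) * (R C * R (Matrix.GeneralLinearGroup.map σ.toRingHom A) *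
          (R C)⁻¹) * (pP K (rho (m + 1)) * pP K (rho (m + 1))) := by simp only [mul_assoc]
      _ = _ := by rw [pP_sq rho_sq, one_mul, mul_one]
  have hΦ : ∀ g ∈ Cfsg.isometryGroup F (Cfsg.quadFormMinus m F a b), Φ g ∈ OM (m + 1) σ := by
    intro g hg
    refine ⟨mem_oGL.2 fun w => ?_, ?_⟩
    · show QS ((R (C * Matrix.GeneralLinearGroup.map ι g * C⁻¹)).1 *ᵥ w) = QS w
      rw [hQ, hQ w, key, Units.val_mul, Units.val_mul, ← Matrix.mulVec_mulVec, ← Matrix.mulVec_mulVec,
        Matrix.mulVec_mulVec _ (C⁻¹).1 C.1, ← Units.val_mul, inv_mul_cancel, Units.val_one,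
        Matrix.one_mulVec]
      exact extend_isometry hg _
    · show psi (m + 1) σ (R (C * Matrix.GeneralLinearGroup.map ι g * C⁻¹)) = _
      rw [hpsi, show Matrix.GeneralLinearGroup.map σ.toRingHom (Matrix.GeneralLinearGroup.map ι g) =
        Matrix.GeneralLinearGroup.map ι g from
          Units.ext (Matrix.ext fun i j => (hfix _).2 ⟨_, rfl⟩)]
      rfl
  let f : Cfsg.isometryGroup F (Cfsg.quadFormMinus m F a b) →* OM (m + 1) σ :=
    (Φ.comp (Cfsg.isometryGroup F (Cfsg.quadFormMinus m F a b)).subtype).codRestrict (OM (m + 1) σ)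
      fun g => hΦ g g.2
  refine ⟨MulEquiv.ofBijective f ⟨fun g g' h => ?_, fun x => ?_⟩⟩
  · have h' : R (C * Matrix.GeneralLinearGroup.map ι g.1 * C⁻¹) =
        R (C * Matrix.GeneralLinearGroup.map ι g'.1 * C⁻¹) := congrArg Subtype.val h
    have h'' := mul_left_cancel (mul_right_cancel (R.injective h'))
    refine Subtype.ext (Units.ext (Matrix.map_injective ι.injective ?_))
    exact congrArg Units.val h''
  · set A := C⁻¹ * R.symm x.1 * C with hA
    have hxA : (x : GL (Fin (2 * (m + 1))) K) = R (C * A * C⁻¹) := by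
      rw [hA, show C * (C⁻¹ * R.symm x.1 * C) * C⁻¹ = R.symm x.1 by group, R.apply_symm_apply]
    have hAσ : Matrix.GeneralLinearGroup.map σ.toRingHom A = A := by
      have h := x.2.2
      change psi (m + 1) σ (x : GL (Fin (2 * (m + 1))) K) = x at h
      rw [hxA, hpsi] at h
      exact mul_left_cancel (mul_right_cancel (R.injective h))
    have hent : ∀ i j, ∃ y, ι y = A.1 i j := fun i j => (hfix _).1 (by
      conv_rhs => rw [← hAσ]
      rfl)
    choose g0 hg0 using hent
    have hmap : (Matrix.of g0).map ι = A.1 := Matrix.ext fun i j => hg0 i j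
    have hdet : (Matrix.of g0).det ≠ 0 := fun h0 => by
      have h := (RingHom.map_det ι (Matrix.of g0)).symm
      rw [RingHom.mapMatrix_apply, hmap, h0, map_zero] at h
      exact ((Matrix.isUnit_iff_isUnit_det A.1).1 A.isUnit).ne_zero h
    let g : GL ((Fin m ⊕ Fin m) ⊕ Fin 2) F :=
      Matrix.GeneralLinearGroup.mk'' (Matrix.of g0) (isUnit_iff_ne_zero.2 hdet)
    have hgA : Matrix.GeneralLinearGroup.map ι g = A := Units.ext hmap
    have hgQ : g ∈ Cfsg.isometryGroup F (Cfsg.quadFormMinus m F a b) := by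
      intro v _
      refine ι.injective ?_
      have hbase : ∀ y : (Fin m ⊕ Fin m) ⊕ Fin 2 → F,
          qExt m (qBin (ι a) (ι b)) (ι ∘ y) = ι (Cfsg.quadFormMinus m F a b y) :=
        fun y => by simp [qExt_apply, qBin_apply, Cfsg.quadFormMinus, map_sum]
      rw [← hbase, ← hbase]
      show qExt m (qBin (ι a) (ι b)) (ι ∘ (g.1 *ᵥ v)) = qExt m (qBin (ι a) (ι b)) (ι ∘ v)
      have e : ι ∘ (g.1 *ᵥ v) = A.1 *ᵥ (ι ∘ v) := by
        funext i
        show ι ((g.1 *ᵥ v) i) = _
        rw [RingHom.map_mulVec, ← hgA]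
        rfl
      rw [e]
      have hx := mem_oGL.1 x.2.1 (((C.1 *ᵥ (ι ∘ v)) ∘ (eI m).symm))
      rw [hQ, hQ ((C.1 *ᵥ (ι ∘ v)) ∘ (eI m).symm), hxA, key] at hx
      have e0 : ((C.1 *ᵥ (ι ∘ v)) ∘ (eI m).symm) ∘ eI m = C.1 *ᵥ (ι ∘ v) := by funext i; simp
      rw [e0, Matrix.mulVec_mulVec, Matrix.mulVec_mulVec, Matrix.mulVec_mulVec,
        ← Units.val_mul, ← Units.val_mul, ← Units.val_mul] at hx
      rw [show C⁻¹ * (C * A * C⁻¹) * C = A by group, inv_mul_cancel, Units.val_one,
        Matrix.one_mulVec] at hx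
      exact hx
    refine ⟨⟨g, hgQ⟩, Subtype.ext ?_⟩
    show R (C * Matrix.GeneralLinearGroup.map ι g * C⁻¹) = x
    rw [hgA, hxA]

end CfsgLib.TwistBN.Minus
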