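/-
The Steinberg character of the elliptic orthogonal groups.
-/
import Cfsg.Agent.Lib.TwistBN.MinusIso
import Cfsg.Agent.Lib.TwistBN.PlusInst
import Cfsg.Agent.Lib.Classical.SmallIso.OmegaFourMinus
import Cfsg.Agent.Lib.KnownSimple.SLBlocks.PSLSteinberg

set_option autoImplicit false
set_option linter.unusedSectionVars false
set_option linter.style.haveILetI false

namespace CfsgLib.TwistBN.Minus

open Matrix CfsgLib.PronormalPSL CfsgLib.PronormalPSU CfsgLib.Classical
open CfsgLib.TwistBN.Plus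

theorem GM_index {K : Type*} [Field K] [Finite K] {σ : K ≃+* K} {m : ℕ} (hm : 1 ≤ m) :
    ((GM m σ).subgroupOf (OM m σ)).index = 2 := by
  have hR : pP K (rho m) ∈ fixP m σ := pP_fixP (by rw [rho_sq, one_mul])
  refine Subgroup.index_eq_two_iff.2 ⟨⟨pP K (rho m), perm_mem rho_revC, hR⟩, fun b => ?_⟩
  have h := Subgroup.mul_mem_iff_of_index_two (GP_index (F := K) hm)
    (a := ⟨(b : GL (Fin (2 * m)) K), b.2.1⟩) (b := ⟨pP K (rho m), perm_mem rho_revC⟩)
  simp only [Subgroup.mem_subgroupOf, Subgroup.coe_mul] at h ⊢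
  have hn := pP_rho_not_mem (F := K) hm
  have h1 : (b : GL (Fin (2 * m)) K) * pP K (rho m) ∈ GM m σ ↔
      (b : GL (Fin (2 * m)) K) * pP K (rho m) ∈ GP K m :=
    ⟨fun x => x.1, fun x => ⟨x, (fixP m σ).mul_mem b.2.2 hR⟩⟩
  have h2 : (b : GL (Fin (2 * m)) K) ∈ GM m σ ↔ (b : GL (Fin (2 * m)) K) ∈ GP K m :=
    ⟨fun x => x.1, fun x => ⟨x, b.2.2⟩⟩
  rw [h1, h2, h]
  by_cases hb : (b : GL (Fin (2 * m)) K) ∈ GP K m <;> simp [Xor, hb, hn]

theorem steinberg_of_iso {H H' : Type*} [Group H] [Finite H] [Group H'] [Finite H'] {p : ℕ}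
    [Fact p.Prime] (e : H ≃* H')
    (h : ∃ χ : H' → ℂ, Cfsg.IsIrrCharacter H' χ ∧
      ∀ Q : Sylow p H', χ 1 = Nat.card Q ∧ ∀ x : H', x ∈ Q → x ≠ 1 → χ x = 0) :
    ∃ χ : H → ℂ, Cfsg.IsIrrCharacter H χ ∧
      ∀ Q : Sylow p H, χ 1 = Nat.card Q ∧ ∀ x : H, x ∈ Q → x ≠ 1 → χ x = 0 := by
  classical
  obtain ⟨χ, hχ, hv⟩ := h
  haveI := Fintype.ofFinite H
  haveI := Fintype.ofFinite H'
  refine ⟨χ ∘ e, CfsgLib.CharNormal.isIrr_comp_mulEquiv hχ e, fun Q => ⟨?_, fun x hx hx1 => ?_⟩⟩
  · obtain ⟨h1, -⟩ := hv default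
    rw [Function.comp_apply, map_one, h1, Sylow.card_eq_multiplicity, Sylow.card_eq_multiplicity,
      Nat.card_congr e.toEquiv]
  · obtain ⟨k, hk⟩ := Q.2 ⟨x, hx⟩
    have hz : IsPGroup p (Subgroup.zpowers (e x)) := fun ⟨y, hy⟩ => by
      obtain ⟨j, rfl⟩ := hy
      refine ⟨k, Subtype.ext ?_⟩
      have hk' : x ^ p ^ k = 1 := congrArg Subtype.val hk
      show ((e x) ^ j) ^ p ^ k = 1
      rw [← zpow_natCast, ← _root_.zpow_mul, mul_comm, _root_.zpow_mul, zpow_natCast, ← map_pow, hk',
        map_one, _root_.one_zpow]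
    obtain ⟨Q', hQ'⟩ := hz.exists_le_sylow
    exact (hv Q').2 (e x) (hQ' (Subgroup.mem_zpowers _)) (fun h0 => hx1 (e.map_eq_one_iff.1 h0))

universe u

variable {F : Type u} [Field F] [Fintype F]

theorem exists_quadratic_extension {a b : F} (hab : BinAniso a b) :
    ∃ (K : Type u) (_ : Field K) (_ : Fintype K) (_ : Algebra F K),
      Fintype.card K = Fintype.card F ^ 2 ∧ ∃ (σ : K ≃+* K) (α β : K),
        (∀ x, σ x = x ↔ ∃ y, algebraMap F K y = x) ∧ α + β = -algebraMap F K a ∧
          α * β = algebraMap F K b ∧ α ≠ β ∧ σ α = β ∧ σ β = α := by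
  classical
  let P : Polynomial F := Polynomial.X ^ 2 + Polynomial.C a * Polynomial.X + Polynomial.C b
  have hPm : P.Monic := by
    simp only [P]; monicity!
  have hPd : P.natDegree = 2 := by
    simp only [P]; compute_degree!
  haveI : Fact (Irreducible P) := ⟨(Polynomial.irreducible_iff_roots_eq_zero_of_degree_le_three
    (by rw [hPd]) (by rw [hPd]; norm_num)).2 (Multiset.eq_zero_of_forall_notMem fun x hx => by
      rw [Polynomial.mem_roots hPm.ne_zero, Polynomial.IsRoot.def] at hx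
      simp [P] at hx
      exact one_ne_zero (hab x 1 (by linear_combination hx)).2)⟩
  haveI : Module.Finite F (AdjoinRoot P) := hPm.finite_adjoinRoot
  haveI : Finite (AdjoinRoot P) := Module.finite_of_finite F
  letI := Fintype.ofFinite (AdjoinRoot P)
  set q := Fintype.card F
  have hcard : Fintype.card (AdjoinRoot P) = q ^ 2 := by
    rw [Module.card_eq_pow_finrank (K := F) (V := AdjoinRoot P),
      (AdjoinRoot.powerBasis hPm.ne_zero).finrank, AdjoinRoot.powerBasis_dim, hPd]
  refine ⟨AdjoinRoot P, inferInstance, inferInstance, inferInstance, hcard, ?_⟩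
  set ι := algebraMap F (AdjoinRoot P)
  set α := AdjoinRoot.root P
  set β := -ι a - α with hβ
  have hα : α * α + ι a * α + ι b = 0 := by
    have h := AdjoinRoot.eval₂_root P
    simp only [P, Polynomial.eval₂_add, Polynomial.eval₂_mul, Polynomial.eval₂_pow, Polynomial.eval₂_X,
      Polynomial.eval₂_C] at h
    simp only [ι, α, AdjoinRoot.algebraMap_eq, P]
    linear_combination h
  have hq1 : 1 < q := Fintype.one_lt_card
  obtain ⟨p, hp⟩ := CharP.exists F
  obtain ⟨n, hprime, hn⟩ := FiniteField.card F p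
  haveI : Fact p.Prime := ⟨hprime⟩
  haveI : CharP (AdjoinRoot P) p := charP_of_injective_algebraMap ι.injective p
  have hfix : ∀ x : AdjoinRoot P, x ^ q = x ↔ ∃ y : F, ι y = x := by
    intro x
    refine ⟨fun h => ?_, ?_⟩
    · by_contra hx
      push Not at hx
      let R : Polynomial (AdjoinRoot P) := Polynomial.X ^ q - Polynomial.X
      have hR : R ≠ 0 := FiniteField.X_pow_card_sub_X_ne_zero (AdjoinRoot P) hq1
      have hRd : R.natDegree = q := FiniteField.X_pow_card_sub_X_natDegree_eq (AdjoinRoot P) hq1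
      have hsub : insert x (Finset.univ.image ι) ⊆ R.roots.toFinset := by
        intro y hy
        rw [Multiset.mem_toFinset, Polynomial.mem_roots hR, Polynomial.IsRoot.def]
        rcases Finset.mem_insert.1 hy with rfl | hy
        · simp [R, h]
        · obtain ⟨c, -, rfl⟩ := Finset.mem_image.1 hy
          simp [R, ← map_pow, FiniteField.pow_card, q]
      have hc := (Finset.card_le_card hsub).trans
        ((Multiset.toFinset_card_le _).trans (Polynomial.card_roots' R))
      rw [Finset.card_insert_of_notMem (fun h' => by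
          obtain ⟨c, -, hc'⟩ := Finset.mem_image.1 h'
          exact hx c hc'), Finset.card_image_of_injective _ ι.injective, Finset.card_univ, hRd] at hc
      omega
    · rintro ⟨c, rfl⟩
      rw [← map_pow, FiniteField.pow_card]
  have hqq : ∀ x : AdjoinRoot P, (x ^ q) ^ q = x := fun x => by
    rw [← pow_mul, ← sq, ← hcard, FiniteField.pow_card]
  let σ : AdjoinRoot P ≃+* AdjoinRoot P :=
    { toFun := fun x => x ^ q
      invFun := fun x => x ^ q
      left_inv := hqq
      right_inv := hqq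
      map_mul' := fun x y => mul_pow x y q
      map_add' := fun x y => by
        show (x + y) ^ q = x ^ q + y ^ q
        rw [show q = p ^ (n : ℕ) from hn, add_pow_char_pow] }
  have hnot : ¬ ∃ y : F, ι y = α := by
    rintro ⟨y, hy⟩
    refine one_ne_zero (hab y 1 (ι.injective ?_)).2
    rw [map_add, map_add, map_pow, map_mul, map_mul, map_mul, map_pow, map_one, map_zero, hy]
    linear_combination hα
  have hne : α ^ q ≠ α := fun h => hnot ((hfix α).1 h)
  have hσα : σ α = β := by
    have h := congrArg σ hα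
    rw [map_add, map_add, map_mul, map_mul, map_zero,
      show σ (ι a) = ι a from (hfix _).2 ⟨a, rfl⟩, show σ (ι b) = ι b from (hfix _).2 ⟨b, rfl⟩] at h
    have h2 : (σ α - α) * (σ α - β) = 0 := by
      rw [hβ]
      linear_combination h - hα
    exact sub_eq_zero.1 ((mul_eq_zero.1 h2).resolve_left (sub_ne_zero.2 hne))
  refine ⟨σ, α, β, hfix, by rw [hβ]; ring, by rw [hβ]; linear_combination -hα, ?_, hσα, ?_⟩
  · intro h
    exact hne (hσα.trans h.symm)
  · rw [← hσα]
    exact hqq α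

/-- The commutator subgroup as a subgroup of index at most two of the fixed points. -/
theorem omega_minus_equiv {K : Type*} [Field K] [Finite K] [Algebra F K] (p : ℕ) [Fact p.Prime]
    [CharP F p] (m : ℕ) {a b : F} (hab : BinAniso a b) (hex : ¬(m = 1 ∧ Fintype.card F = 2))
    {α β : K} (σ : K ≃+* K) (hfix : ∀ x, σ x = x ↔ ∃ y, algebraMap F K y = x)
    (hsum : α + β = -algebraMap F K a) (hprod : α * β = algebraMap F K b) (hne : α ≠ β)
    (hσα : σ α = β) (hσβ : σ β = α) :
    Nonempty (Cfsg.Omega F (Cfsg.quadFormMinus m F a b) ≃* GM (m + 1) σ) ∨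
      (p ≠ 2 ∧ ∃ M : Subgroup (GM (m + 1) σ), M.index = 2 ∧
        Nonempty (Cfsg.Omega F (Cfsg.quadFormMinus m F a b) ≃* M)) := by
  classical
  obtain ⟨e⟩ := exists_minus_iso (m := m) σ hfix hsum hprod hne hσα hσβ
  set O' : Subgroup (OM (m + 1) σ) :=
    (Cfsg.Omega F (Cfsg.quadFormMinus m F a b)).map e.toMonoidHom with hO'
  have hO : O' = commutator (OM (m + 1) σ) := map_commutator_equiv e
  set N := (GM (m + 1) σ).subgroupOf (OM (m + 1) σ) with hN
  have hNi : N.index = 2 := GM_index (by omega)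
  have hle : O' ≤ N := hO ▸ commutator_le_index_two hNi
  let eN : N ≃* GM (m + 1) σ := Subgroup.subgroupOfEquivOfLe GM_le_OM
  let M : Subgroup (GM (m + 1) σ) := (O'.subgroupOf N).map eN.toMonoidHom
  let e' : Cfsg.Omega F (Cfsg.quadFormMinus m F a b) ≃* M :=
    ((e.subgroupMap _).trans (Subgroup.subgroupOfEquivOfLe hle).symm).trans (eN.subgroupMap _)
  have hidx : O'.index = (Cfsg.Omega F (Cfsg.quadFormMinus m F a b)).index :=
    Subgroup.index_map_equiv _ e
  have hM : M.index * 2 = O'.index := by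
    rw [show M.index = (O'.subgroupOf N).index from Subgroup.index_map_equiv _ eN]
    have h := Subgroup.relIndex_mul_index hle
    rw [hNi] at h
    exact h
  have hQ : PolarNondeg (qExt m (qBin a b)) := polarNondeg_qExt (polarNondeg_qBin hab) m
  have hc : Fintype.card ((Fin m ⊕ Fin m) ⊕ Fin 2) = 2 * m + 2 := by simp [two_mul]
  by_cases h2 : (2 : F) = 0
  · haveI : CharP F 2 := CharTwo.of_one_ne_zero_of_two_eq_zero one_ne_zero h2
    have hi := index_Omega_two (qExt m (qBin a b)) hQ (by omega) (by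
      by_contra h
      push Not at h
      exact hex ⟨by omega, h.1⟩)
    rw [coe_qExt_qBin] at hi
    have hMtop : M = ⊤ := Subgroup.index_eq_one.1 (by omega)
    exact Or.inl ⟨(e'.trans (MulEquiv.subgroupCongr hMtop)).trans Subgroup.topEquiv⟩
  · have hi := index_Omega_odd (qExt m (qBin a b)) h2 hQ (by omega)
    rw [coe_qExt_qBin] at hi
    have hp2 : p ≠ 2 := by
      rintro rfl
      exact h2 (by exact_mod_cast CharP.cast_eq_zero F 2)
    exact Or.inr ⟨hp2, M, by omega, ⟨e'⟩⟩

theorem pomega_minus_steinberg (p : ℕ) [Fact p.Prime] [CharP F p] (m : ℕ) {a b : F}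
    (hab : BinAniso a b) :
    ∃ χ : Cfsg.POmega F (Cfsg.quadFormMinus m F a b) → ℂ,
      Cfsg.IsIrrCharacter (Cfsg.POmega F (Cfsg.quadFormMinus m F a b)) χ ∧
      ∀ Q : Sylow p (Cfsg.POmega F (Cfsg.quadFormMinus m F a b)), χ 1 = Nat.card Q ∧
        ∀ x : Cfsg.POmega F (Cfsg.quadFormMinus m F a b), x ∈ Q → x ≠ 1 → χ x = 0 := by
  classical
  obtain ⟨K, _, _, _, hcard, σ, α, β, hfix, hsum, hprod, hne, hσα, hσβ⟩ := exists_quadratic_extension hab
  haveI : CharP K p := charP_of_injective_algebraMap (algebraMap F K).injective p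
  by_cases hex : m = 1 ∧ Fintype.card F = 2
  · obtain ⟨rfl, hq⟩ := hex
    obtain ⟨e⟩ := SmallIso.pomega_four_minus (F := F) (K := K) rfl hcard hab
    exact steinberg_of_iso e (CfsgLib.KnownSimple.SLBlocks.psl_steinberg p le_rfl)
  rcases omega_minus_equiv (p := p) m hab hex σ hfix hsum hprod hne hσα hσβ with he | ⟨hp2, M, hM, ⟨e⟩⟩
  · exact (split (m := m + 1) (σ := σ) p).exists_quot_center he.some
  · exact (split (m := m + 1) (σ := σ) p).exists_quot_center_index_two hp2 M hM e

end CfsgLib.TwistBN.Minus
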