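/-
The Steinberg character of the odd-dimensional orthogonal groups in odd characteristic.
-/
import Cfsg.Agent.Lib.TwistBN.Instances
import Cfsg.Agent.Lib.TwistBN.IndexTwo
import Cfsg.Agent.Lib.Classical.OmegaOdd
import Cfsg.Agent.Lib.Classical.QuadPOmega

set_option autoImplicit false
set_option linter.unusedSectionVars false
set_option linter.style.haveILetI false
set_option linter.unusedSimpArgs false

namespace CfsgLib.TwistBN

open Matrix CfsgLib.PronormalPSL CfsgLib.PronormalPSU CfsgLib.Classical CfsgLib.Fusion.UniTri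

variable {F : Type*} [Field F] [Finite F] {n : ℕ}

/-- The element of the middle node of odd length. -/
theorem node_mid (h2 : (2 : F) ≠ 0) {k : ℕ} (hn : 2 * k + 3 = n) :
    ∃ u ∈ uni F n, u ∈ fixS (1 : Fin n → Fˣ) (RingEquiv.refl F) ∧ BD k u.1 ∧ u ≠ 1 := by
  set a : Fin n := ⟨k, by omega⟩ with hA
  set b : Fin n := ⟨k + 1, by omega⟩ with hB
  set c : Fin n := ⟨k + 2, by omega⟩ with hC
  have va : a.val = k := rfl
  have vb : b.val = k + 1 := rfl
  have vc : c.val = k + 2 := rfl
  have hab : a < b := Fin.lt_def.2 (by omega)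
  have hbc : b < c := Fin.lt_def.2 (by omega)
  have hac : a < c := hab.trans hbc
  set x : F := -(2 : F)⁻¹ with hx
  have hU : tgl hac.ne x * tgl hbc.ne (-1) * tgl hab.ne 1 ∈ uni F n :=
    mul_mem (mul_mem (tgl_uni hac x) (tgl_uni hbc (-1))) (tgl_uni hab 1)
  have hxx : -1 - x = x := by
    rw [hx]; field_simp; ring
  have fwd : ∀ (p q r : F) (i j : Fin n), (tgl hac.ne r * tgl hbc.ne q * tgl hab.ne p).1 i j =
      (if i = j then 1 else 0) + (if i = a ∧ j = b then p else 0) +
        (if i = b ∧ j = c then q else 0) + (if i = a ∧ j = c then r else 0) := by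
    intro p q r i j
    rw [mul_assoc, Units.val_mul, tgl_val hac.ne, CfsgLib.Fusion.UniTri.transvection_mul_apply,
      tgl_mul_apply _ _ hac.ne', tgl_mul_apply _ _ hac.ne']
    by_cases h1 : i = a <;> by_cases h2 : j = c
    · subst h1 h2; simp [hab.ne, hac.ne, hbc.ne, hab.ne', hac.ne', hbc.ne', add_comm]
    · subst h1; simp [hab.ne, hac.ne, hbc.ne, hab.ne', hac.ne', hbc.ne', h2, Ne.symm h2]
    · simp [h1]
    · simp [h1]
  have bwd : ∀ (p q : F) (i j : Fin n), (tgl hab.ne p * tgl hbc.ne q).1 i j =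
      (if i = j then 1 else 0) + (if i = a ∧ j = b then p else 0) +
        (if i = b ∧ j = c then q else 0) + (if i = a ∧ j = c then p * q else 0) := by
    intro p q i j
    rw [Units.val_mul, tgl_val hab.ne, CfsgLib.Fusion.UniTri.transvection_mul_apply, tgl_apply,
      tgl_apply]
    by_cases h1 : i = a <;> by_cases h2 : j = c
    · subst h1 h2; simp [hab.ne, hac.ne, hbc.ne, hab.ne', hac.ne', hbc.ne']
    · subst h1; simp [hab.ne, hac.ne, hbc.ne, hab.ne', hac.ne', hbc.ne', h2, Ne.symm h2, eq_comm]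
    · simp [h1]
    · simp [h1]
  refine ⟨_, hU, mem_fixS.2 ⟨th_eq_of_entries (fun _ => by simp) fun i j => ?_, det_uni hU⟩,
    fun i j hij => ?_, fun h => ?_⟩
  · have inv : (tgl hac.ne x * tgl hbc.ne (-1) * tgl hab.ne 1)⁻¹ =
        tgl hab.ne (-1) * tgl hbc.ne 1 * tgl hac.ne (-x) := by
      rw [_root_.mul_inv_rev, _root_.mul_inv_rev, tgl_inv, tgl_inv, tgl_inv, neg_neg, mul_assoc]
    rw [inv, fwd, Units.val_mul, tgl_val hac.ne, CfsgLib.Fusion.UniTri.mul_transvection_apply, bwd,
      bwd]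
    simp only [Pi.one_apply, Units.val_one, one_mul, mul_one, RingEquiv.refl_apply]
    have e1 : (Fin.rev j = Fin.rev i) ↔ i = j := ⟨fun h => (Fin.rev_injective h).symm, fun h => h ▸ rfl⟩
    have e2 : (Fin.rev j = a ∧ Fin.rev i = b) ↔ i = b ∧ j = c := by
      simp only [Fin.ext_iff, Fin.val_rev, va, vb, vc]; omega
    have e3 : (Fin.rev j = b ∧ Fin.rev i = c) ↔ i = a ∧ j = b := by
      simp only [Fin.ext_iff, Fin.val_rev, va, vb, vc]; omega
    have e4 : (Fin.rev j = a ∧ Fin.rev i = c) ↔ i = a ∧ j = c := by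
      simp only [Fin.ext_iff, Fin.val_rev, va, vc]; omega
    have e5 : Fin.rev j = a ↔ j = c := by
      simp only [Fin.ext_iff, Fin.val_rev, va, vc]; omega
    simp only [e1, e2, e3, e4]
    by_cases hi : Fin.rev i = c
    · have hia : i = a := by simp only [Fin.ext_iff, Fin.val_rev, va, vc] at hi ⊢; omega
      subst hia
      by_cases hj : j = c
      · subst hj
        simp [hi, e5, hab.ne, hac.ne, hbc.ne, hab.ne', hac.ne', hbc.ne']
        linear_combination hxx
      · simp [hi, e5, hj, hab.ne, hac.ne, hbc.ne, hab.ne', hac.ne', hbc.ne']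
    · have hia : i ≠ a := fun e => hi (by simp only [Fin.ext_iff, Fin.val_rev, va, vc] at e ⊢; omega)
      simp [hi, hia]
  · rw [fwd, if_neg (fun e => hij (by rw [e])), if_neg, if_neg, if_neg]
    · simp
    all_goals
      intro e
      refine hij ((blk_eq_iff (by omega) _ _).2 ?_)
      rw [e.1, e.2]
      omega
  · have e := congrArg (fun g : GL (Fin n) F => g.1 a b) h
    simp only [fwd, if_neg hab.ne, and_self, if_true, Units.val_one, one_apply_ne hab.ne] at e
    simp [hab.ne, hac.ne, hbc.ne, hab.ne', hac.ne', hbc.ne'] at e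

/-- The pairing of the coordinates of the odd form. -/
def oddPos (m : ℕ) : OddI m ≃ Fin (2 * m + 1) where
  toFun := Sum.elim (fun _ => ⟨m, by omega⟩)
    (Sum.elim (fun i => ⟨i.val, by omega⟩) (fun i => ⟨2 * m - i.val, by omega⟩))
  invFun j := if h : j.val < m then Sum.inr (Sum.inl ⟨j.val, h⟩)
    else if h' : j.val = m then Sum.inl () else Sum.inr (Sum.inr ⟨2 * m - j.val, by omega⟩)
  left_inv x := by
    rcases x with u | i | i
    · simp
    · simp [i.isLt]
    · have h : ¬ (2 * m - i.val < m) := by have := i.isLt; omega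
      have h' : ¬ (2 * m - i.val = m) := by have := i.isLt; omega
      show (if h : (2 * m - i.val) < m then _ else if h' : (2 * m - i.val) = m then _ else _) = _
      rw [dif_neg h, dif_neg h']
      exact congrArg (Sum.inr ∘ Sum.inr)
        (Fin.ext (by show 2 * m - (2 * m - i.val) = i.val; omega))
  right_inv j := by
    by_cases h : j.val < m
    · simp [h]
    by_cases h' : j.val = m
    · simp [h']; exact Fin.ext h'.symm
    · simp only [dif_neg h, dif_neg h', Sum.elim_inr]
      exact Fin.ext (by show 2 * m - (2 * m - j.val) = j.val; omega)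

variable (F) in
open _root_.Classical in
/-- The scaling of the coordinates. -/
noncomputable def oddScale (m : ℕ) : OddI m → Fˣ :=
  fun x => if h : (2 : F) ≠ 0 then
    Sum.elim (fun _ => 1) (Sum.elim (fun _ => 1) (fun _ => (Units.mk0 2 h)⁻¹)) x else 1

/-- The change of coordinates. -/
noncomputable def oddHom (m : ℕ) :
    Matrix (OddI m) (OddI m) F →* Matrix (Fin (2 * m + 1)) (Fin (2 * m + 1)) F where
  toFun A := Matrix.reindex (oddPos m) (oddPos m)
    (Matrix.of fun i j => (oddScale F m i : F) * A i j * ((oddScale F m j)⁻¹ : Fˣ))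
  map_one' := by
    refine Matrix.ext fun i j => ?_
    simp [Matrix.one_apply, (oddPos m).symm.injective.eq_iff]
    split_ifs with h <;> simp [h]
  map_mul' A B := by
    refine Matrix.ext fun i j => ?_
    simp only [Matrix.reindex_apply, Matrix.submatrix_apply, Matrix.mul_apply, Matrix.of_apply,
      Finset.mul_sum, Finset.sum_mul]
    rw [← (oddPos m).symm.sum_comp]
    refine Finset.sum_congr rfl fun z _ => ?_
    have := Units.inv_mul (oddScale F m ((oddPos m).symm z))
    linear_combination -((oddScale F m ((oddPos m).symm i) : F) * A ((oddPos m).symm i) ((oddPos m).symm z) * B ((oddPos m).symm z) ((oddPos m).symm j) * ((oddScale F m ((oddPos m).symm j))⁻¹ : Fˣ)) * this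

theorem oddHom_apply (m : ℕ) (A : Matrix (OddI m) (OddI m) F) (i j : OddI m) :
    oddHom m A (oddPos m i) (oddPos m j) =
      (oddScale F m i : F) * A i j * ((oddScale F m j)⁻¹ : Fˣ) := by
  simp [oddHom]

theorem gram_one_eval {m : ℕ} (h2 : (2 : F) ≠ 0) (w : OddI m → F) :
    (fun x => (oddScale F m x : F) * w x) ∘ (oddPos m).symm ⬝ᵥ
      (gram (1 : Fin (2 * m + 1) → Fˣ) *ᵥ ((fun x => (oddScale F m x : F) * w x) ∘ (oddPos m).symm)) =
    Cfsg.quadFormOdd m F w := by
  have hg : ∀ (v : Fin (2 * m + 1) → F) i, (gram (1 : Fin (2 * m + 1) → Fˣ) *ᵥ v) i = v (Fin.rev i) :=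
    fun v i => by simp [Matrix.mulVec, dotProduct, gram]
  simp only [dotProduct, hg]
  rw [← (oddPos m).sum_comp, Fintype.sum_sum_type, Fintype.sum_sum_type]
  simp only [Function.comp_apply, Equiv.symm_apply_apply, Fintype.sum_unique]
  have r0 : (oddPos m).symm (Fin.rev (oddPos m (Sum.inl ()))) = Sum.inl () := by
    rw [Equiv.symm_apply_eq]; exact Fin.ext (by rw [Fin.val_rev]; show 2 * m + 1 - (m + 1) = m; omega)
  have r1 : ∀ i : Fin m, (oddPos m).symm (Fin.rev (oddPos m (Sum.inr (Sum.inl i)))) = Sum.inr (Sum.inr i) :=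
    fun i => by
      rw [Equiv.symm_apply_eq]
      exact Fin.ext (by rw [Fin.val_rev]; show 2 * m + 1 - (i.val + 1) = 2 * m - i.val; omega)
  have r2 : ∀ i : Fin m, (oddPos m).symm (Fin.rev (oddPos m (Sum.inr (Sum.inr i)))) = Sum.inr (Sum.inl i) :=
    fun i => by
      rw [Equiv.symm_apply_eq]
      exact Fin.ext (by
        rw [Fin.val_rev]
        show 2 * m + 1 - (2 * m - i.val + 1) = i.val
        have := i.isLt; omega)
  simp only [show (default : Unit) = () from rfl, r0, r1, r2, oddScale, dif_pos h2, Sum.elim_inl,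
    Sum.elim_inr, Units.val_one, Units.val_inv_eq_inv_val, Units.val_mk0, one_mul, Cfsg.quadFormOdd]
  rw [← Finset.sum_add_distrib]
  congr 1
  · ring
  · refine Finset.sum_congr rfl fun i _ => ?_
    field_simp
    ring

/-- The image of an isometry preserves the Gram matrix. -/
theorem gram_iff {m : ℕ} (h2 : (2 : F) ≠ 0) (A : Matrix (OddI m) (OddI m) F) :
    (∀ w, Cfsg.quadFormOdd m F (A *ᵥ w) = Cfsg.quadFormOdd m F w) ↔
      (oddHom m A)ᵀ * gram (1 : Fin (2 * m + 1) → Fˣ) * oddHom m A = gram (1 : Fin (2 * m + 1) → Fˣ) := by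
  set J := gram (1 : Fin (2 * m + 1) → Fˣ) with hJ
  set emb : (OddI m → F) → Fin (2 * m + 1) → F :=
    fun w => (fun x => (oddScale F m x : F) * w x) ∘ (oddPos m).symm with hemb
  have hsurj : ∀ v, ∃ w, emb w = v := fun v =>
    ⟨fun x => ((oddScale F m x)⁻¹ : Fˣ) * v (oddPos m x), funext fun i => by
      simp [hemb]⟩
  have hA : ∀ w, emb (A *ᵥ w) = oddHom m A *ᵥ emb w := fun w => funext fun i => by
    simp only [hemb, Function.comp_apply, Matrix.mulVec, dotProduct, Finset.mul_sum]
    rw [← (oddPos m).symm.sum_comp]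
    refine Finset.sum_congr rfl fun j _ => ?_
    simp [oddHom]
    field_simp
  have hq : ∀ w, Cfsg.quadFormOdd m F (A *ᵥ w) =
      emb w ⬝ᵥ (((oddHom m A)ᵀ * J * oddHom m A) *ᵥ emb w) := fun w => by
    rw [← gram_one_eval h2]
    show emb (A *ᵥ w) ⬝ᵥ (J *ᵥ emb (A *ᵥ w)) = _
    rw [hA, ← Matrix.mulVec_mulVec, ← Matrix.mulVec_mulVec,
      dotProduct_mulVec (emb w) (oddHom m A)ᵀ, Matrix.vecMul_transpose]
  constructor
  · intro h
    set C := (oddHom m A)ᵀ * J * oddHom m A with hC
    have hCs : Cᵀ = C := by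
      have hJs : Jᵀ = J := by
        refine Matrix.ext fun i j => ?_
        simp only [hJ, gram, Matrix.transpose_apply, Matrix.of_apply, Pi.one_apply, Units.val_one]
        simp only [show (i = Fin.rev j) ↔ (j = Fin.rev i) from
          ⟨fun e => by rw [e, Fin.rev_rev], fun e => by rw [e, Fin.rev_rev]⟩]
      rw [hC, Matrix.transpose_mul, Matrix.transpose_mul, Matrix.transpose_transpose, hJs,
        Matrix.mul_assoc]
    have hJs : Jᵀ = J := by
      refine Matrix.ext fun i j => ?_
      simp only [hJ, gram, Matrix.transpose_apply, Matrix.of_apply, Pi.one_apply, Units.val_one]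
      simp only [show (i = Fin.rev j) ↔ (j = Fin.rev i) from
        ⟨fun e => by rw [e, Fin.rev_rev], fun e => by rw [e, Fin.rev_rev]⟩]
    have hd : ∀ v, v ⬝ᵥ ((C - J) *ᵥ v) = 0 := fun v => by
      obtain ⟨w, rfl⟩ := hsurj v
      rw [Matrix.sub_mulVec, dotProduct_sub, ← hq, h, ← gram_one_eval h2, sub_self]
    refine Matrix.ext fun i j => ?_
    have hs : ∀ i j, (C - J) j i = (C - J) i j := fun i j => by
      rw [← Matrix.transpose_apply (C - J) i j, Matrix.transpose_sub, hCs, hJs]
    have e1 := hd (Pi.single i 1 + Pi.single j 1)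
    have e2 := hd (Pi.single i 1)
    have e3 := hd (Pi.single j 1)
    simp only [Matrix.mulVec_add, add_dotProduct, dotProduct_add, Matrix.mulVec_single_one,
      single_one_dotProduct, Matrix.col_apply] at e1 e2 e3
    rw [hs i j] at e1
    have : (2 : F) * (C - J) i j = 0 := by linear_combination e1 - e2 - e3
    exact sub_eq_zero.1 ((mul_eq_zero.1 this).resolve_left h2)
  · intro h w
    rw [hq, h, ← gram_one_eval h2]

theorem omega_odd_equiv [Fintype F] (p : ℕ) [Fact p.Prime] [CharP F p]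
    (hodd : Odd (Fintype.card F)) (m : ℕ) (hm : 1 ≤ m) :
    p ≠ 2 ∧ Ctx (1 : Fin (2 * m + 1) → Fˣ) (RingEquiv.refl F) ∧
      ∃ N : Subgroup (fixS (1 : Fin (2 * m + 1) → Fˣ) (RingEquiv.refl F)), N.index = 2 ∧
        Nonempty (Cfsg.Omega F (Cfsg.quadFormOdd m F) ≃* N) := by
  classical
  have hp2 : p ≠ 2 := by
    rintro rfl
    exact Nat.not_even_iff_odd.2 hodd (Nat.even_iff.2 (FiniteField.even_card_iff_char_two.1 (ringChar.eq F 2)))
  have h2 : (2 : F) ≠ 0 := by
    intro h
    refine hp2 ((Nat.prime_dvd_prime_iff_eq Fact.out Nat.prime_two).1 ((CharP.cast_eq_zero_iff F p 2).1 ?_))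
    exact_mod_cast h
  have hC : Ctx (1 : Fin (2 * m + 1) → Fˣ) (RingEquiv.refl F) :=
    { sq := fun _ => by simp
      node := fun k hk => by
        by_cases h : 2 * k + 4 ≤ 2 * m + 1
        · exact node_short (fun _ => by simp) (fun _ _ _ _ => by simp) h
        · exact node_mid h2 (by omega) }
  set Q := qOdd m F with hQdef
  have hQ : PolarNondeg Q := polarNondeg_qOdd h2 m
  have hQc : ⇑Q = Cfsg.quadFormOdd m F := coe_qOdd m F
  rw [← hQc]
  set SO := Cfsg.specialIsometryGroup F ⇑Q with hSO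
  have hmemSO : ∀ g, g ∈ SO ↔ ((g : GL (OddI m) F) : Matrix (OddI m) (OddI m) F).det = 1 := fun g => by
    rw [hSO, Cfsg.specialIsometryGroup, MonoidHom.mem_ker, Units.ext_iff]
    simp
  have hmem : ∀ g : GL (OddI m) F, g ∈ Cfsg.isometryGroup F ⇑Q ↔
      (oddHom m g.1)ᵀ * gram (1 : Fin (2 * m + 1) → Fˣ) * oddHom m g.1 = gram (1 : Fin (2 * m + 1) → Fˣ) :=
    fun g => by
      rw [← gram_iff h2, ← hQc]
      exact ⟨fun h w => h w w, fun h u _ => h u⟩
  have hdet : ∀ A : Matrix (OddI m) (OddI m) F, (oddHom m A).det = A.det := fun A => by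
    show (Matrix.reindex (oddPos m) (oddPos m) _).det = _
    rw [Matrix.det_reindex_self]
    have : (Matrix.of fun i j => (oddScale F m i : F) * A i j * ((oddScale F m j)⁻¹ : Fˣ)) =
        Matrix.diagonal (fun i => (oddScale F m i : F)) * A *
          Matrix.diagonal (fun j => (((oddScale F m j)⁻¹ : Fˣ) : F)) := by
      refine Matrix.ext fun i j => ?_
      rw [Matrix.mul_diagonal, Matrix.diagonal_mul]
      rfl
    rw [this, Matrix.det_mul, Matrix.det_mul, Matrix.det_diagonal, Matrix.det_diagonal,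
      mul_right_comm, ← Finset.prod_mul_distrib]
    simp
  have hJJ : gram (1 : Fin (2 * m + 1) → Fˣ) * gram (1 : Fin (2 * m + 1) → Fˣ) =
      (1 : Matrix (Fin (2 * m + 1)) (Fin (2 * m + 1)) F) := by
    refine Matrix.ext fun i j => ?_
    rw [gram_mul]
    simp [gram, Matrix.one_apply, eq_comm]
  set J := gram (1 : Fin (2 * m + 1) → Fˣ) (F := F) with hJdef
  have hfix : ∀ g : GL (Fin (2 * m + 1)) F,
      g ∈ fixS (1 : Fin (2 * m + 1) → Fˣ) (RingEquiv.refl F) ↔ g.1ᵀ * J * g.1 = J ∧ g.1.det = 1 := by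
    intro g
    rw [mem_fixS, th_eq_iff, RingEquiv.coe_refl, Matrix.map_id, ← hJdef]
    refine and_congr_left' ⟨fun h => ?_, fun h => ?_⟩
    · have h1 : g.1 * (J * g.1ᵀ * J) = 1 := by
        rw [← Matrix.mul_assoc, ← Matrix.mul_assoc, h, hJJ]
      have h2 : J * g.1ᵀ * J * g.1 = 1 := mul_eq_one_comm.1 h1
      calc g.1ᵀ * J * g.1 = J * (J * g.1ᵀ * J * g.1) := by
            simp only [← Matrix.mul_assoc, hJJ, Matrix.one_mul]
        _ = J := by rw [h2, Matrix.mul_one]
    · have h1 : J * g.1ᵀ * J * g.1 = 1 := by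
        rw [Matrix.mul_assoc, Matrix.mul_assoc, ← Matrix.mul_assoc g.1ᵀ, h, hJJ]
      have h2 : g.1 * (J * g.1ᵀ * J) = 1 := mul_eq_one_comm.1 h1
      calc g.1 * J * g.1ᵀ = g.1 * (J * g.1ᵀ * J) * J := by
            simp only [Matrix.mul_assoc, hJJ, Matrix.mul_one]
        _ = J := by rw [h2, Matrix.one_mul]
  let ψ : Cfsg.isometryGroup F ⇑Q →* GL (Fin (2 * m + 1)) F :=
    (Units.map (oddHom m)).comp (Cfsg.isometryGroup F ⇑Q).subtype
  have hψval : ∀ g, (ψ g).1 = oddHom m g.1.1 := fun g => rfl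
  have hinj : Function.Injective (oddHom (F := F) m) := fun A B h => by
    refine Matrix.ext fun i j => ?_
    have := congrFun (congrFun h (oddPos m i)) (oddPos m j)
    rw [oddHom_apply, oddHom_apply] at this
    exact mul_left_cancel₀ (Units.ne_zero _) (mul_right_cancel₀ (Units.ne_zero _) this)
  have hψmem : ∀ g : SO, ψ g ∈ fixS (1 : Fin (2 * m + 1) → Fˣ) (RingEquiv.refl F) := fun g =>
    (hfix _).2 ⟨(hmem g.1.1).1 g.1.2, by rw [hψval, hdet]; exact (hmemSO _).1 g.2⟩
  let f : SO →* fixS (1 : Fin (2 * m + 1) → Fˣ) (RingEquiv.refl F) :=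
    (ψ.comp SO.subtype).codRestrict _ hψmem
  have hf : Function.Bijective f := by
    refine ⟨fun a b h => ?_, fun g => ?_⟩
    · refine Subtype.ext (Subtype.ext (Units.ext (hinj ?_)))
      exact congrArg (fun x : fixS (1 : Fin (2 * m + 1) → Fˣ) (RingEquiv.refl F) => (x : GL (Fin (2 * m + 1)) F).1) h
    · obtain ⟨hg, hgd⟩ := (hfix _).1 g.2
      let A : Matrix (OddI m) (OddI m) F := Matrix.of fun i j =>
        (((oddScale F m i)⁻¹ : Fˣ) : F) * g.1.1 (oddPos m i) (oddPos m j) * (oddScale F m j : F)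
      have hA : oddHom m A = g.1.1 := Matrix.ext fun i j => by
        obtain ⟨i, rfl⟩ := (oddPos m).surjective i
        obtain ⟨j, rfl⟩ := (oddPos m).surjective j
        rw [oddHom_apply]
        simp [A]
        field_simp
      have hAd : A.det = 1 := by rw [← hdet, hA]; exact hgd
      let a : GL (OddI m) F := Matrix.GeneralLinearGroup.mkOfDetNeZero A (by rw [hAd]; exact one_ne_zero)
      have ha : a ∈ Cfsg.isometryGroup F ⇑Q := (hmem a).2 (by
        show (oddHom m A)ᵀ * _ * oddHom m A = _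
        rw [hA]; exact hg)
      exact ⟨⟨⟨a, ha⟩, (hmemSO _).2 hAd⟩, Subtype.ext (Units.ext hA)⟩
  let e := MulEquiv.ofBijective f hf
  have hle : Cfsg.Omega F ⇑Q ≤ SO := fun g hg => (hmemSO g).2 (det_eq_one_of_mem_Omega hg)
  have hcard : 2 ≤ Fintype.card (OddI m) := by simp [OddI]; omega
  have hSOi : SO.index = 2 := by
    refine Subgroup.index_eq_two_iff.2 ⟨negIso Q, fun (b : Cfsg.isometryGroup F ⇑Q) => ?_⟩
    have hb2 : (b : GL (OddI m) F).1.det * (b : GL (OddI m) F).1.det = 1 := by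
      have h0 := (hmem _).1 b.2
      have h := congrArg Matrix.det h0
      rw [Matrix.det_mul, Matrix.det_mul, Matrix.det_transpose, hdet] at h
      have hJd : J.det ≠ 0 := fun h0 => by
        have := congrArg Matrix.det hJJ
        rw [Matrix.det_mul, h0, zero_mul, Matrix.det_one] at this
        exact zero_ne_one this
      exact mul_right_cancel₀ hJd (by linear_combination h)
    have hneg : ((b * negIso Q : Cfsg.isometryGroup F ⇑Q) : GL (OddI m) F).1.det =
        - (b : GL (OddI m) F).1.det := by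
      rw [Subgroup.coe_mul, Units.val_mul, coe_negIso, Matrix.det_mul, Matrix.det_neg, Matrix.det_one,
        mul_one, Odd.neg_one_pow (by simp [OddI, parity_simps]), mul_neg_one]
    rcases mul_self_eq_one_iff.1 hb2 with h | h
    · refine Or.inr ⟨(hmemSO b).2 h, fun h' => ?_⟩
      rw [hmemSO, hneg, h] at h'
      exact h2 (by linear_combination -h')
    · refine Or.inl ⟨(hmemSO _).2 (by rw [hneg, h, neg_neg]), fun h' => ?_⟩
      rw [hmemSO, h] at h'
      exact h2 (by linear_combination -h')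
  have hrel : ((Cfsg.Omega F ⇑Q).subgroupOf SO).index = 2 := by
    have h := Subgroup.relIndex_mul_index hle
    rw [hSOi, index_Omega_odd Q h2 hQ hcard] at h
    change (Cfsg.Omega F ⇑Q).relIndex SO = 2
    omega
  let N := ((Cfsg.Omega F ⇑Q).subgroupOf SO).map e.toMonoidHom
  have hN : N.index = 2 := by
    show (((Cfsg.Omega F ⇑Q).subgroupOf SO).map e.toMonoidHom).index = 2
    exact (Subgroup.index_map_equiv _ e).trans hrel
  exact ⟨hp2, hC, N, hN, ⟨(Subgroup.subgroupOfEquivOfLe hle).symm.trans (e.subgroupMap _)⟩⟩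

theorem pomega_odd_steinberg [Fintype F] (p : ℕ) [Fact p.Prime] [CharP F p]
    (hodd : Odd (Fintype.card F)) (m : ℕ) (hm : 1 ≤ m) :
    ∃ χ : Cfsg.POmega F (Cfsg.quadFormOdd m F) → ℂ,
      Cfsg.IsIrrCharacter (Cfsg.POmega F (Cfsg.quadFormOdd m F)) χ ∧
      ∀ Q : Sylow p (Cfsg.POmega F (Cfsg.quadFormOdd m F)), χ 1 = Nat.card Q ∧
        ∀ x : Cfsg.POmega F (Cfsg.quadFormOdd m F), x ∈ Q → x ≠ 1 → χ x = 0 := by
  obtain ⟨hp2, hC, N, hN, ⟨e⟩⟩ := omega_odd_equiv p hodd m hm
  exact (split hC p).exists_quot_center_index_two hp2 N hN e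

end CfsgLib.TwistBN
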